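import Cfsg.Agent.Lib.Walter.Core.Balance
import Cfsg.Agent.Lib.SolvSignalizer.Main
import Cfsg.Agent.S1221

/-!
# The odd core of a non-solvable involution centralizer is trivial
-/

set_option autoImplicit false
set_option linter.style.haveILetI false
set_option linter.unusedSectionVars false
set_option maxHeartbeats 1000000

open Subgroup
open CfsgLib.Coprime (IsSylowIn)

namespace CfsgLib.Walter.Core

universe u

attribute [local instance] oddCore_normal

variable {G : Type u} [Group G] [Finite G]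

theorem elemAb_sylow (hs : SylowEight G) (S : Sylow 2 G) : Cfsg.IsElementaryAbelian 2 (S : Subgroup G) :=
  ⟨⟨⟨fun a b => Subtype.ext (comm_eight hs S a.2 b.2)⟩⟩, fun a ha => by rw [pow_two]; exact (hs S).2 a ha⟩

theorem signalizer_core (hG : Ctx G) (S : Sylow 2 G) :
    Cfsg.IsSolvableSignalizerFunctor 2 (S : Subgroup G) core :=
  ⟨⟨fun a _ _ => core_le a,
    fun a _ _ h => Nat.not_even_iff_odd.2 (odd_core a) (even_iff_two_dvd.2 h),
    fun _ ha _ _ hb _ hx => core_conj_mem (comm_eight hG.hs S hb ha) hx,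
    fun _ ha ha1 _ hb hb1 _ hx => balance hG S ha hb ha1 hb1 hx.1 (mem_centralizer_singleton_iff.1 hx.2)⟩,
    fun a _ _ => CfsgLib.FT.isSolvable_of_odd _ (odd_core a)⟩

/-- A subgroup of odd order invariant under `S` is generated by its fixed points. -/
theorem le_of_fixed (hs : SylowEight G) (S : Sylow 2 G) {A X W : Subgroup G} (hA : A ≤ (S : Subgroup G))
    (h4 : 4 ≤ Nat.card A) (hAX : A ≤ normalizer (X : Set G)) (hX : Odd (Nat.card X))
    (hW : ∀ a ∈ A, a ≠ 1 → ∀ x ∈ X, Commute x a → x ∈ W) : X ≤ W :=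
  CfsgLib.SolvSignalizer.le_of_fixed_points (p := 2)
    ⟨⟨⟨fun a b => Subtype.ext (comm_eight hs S (hA a.2) (hA b.2))⟩⟩,
      fun a ha => by rw [pow_two]; exact (hs S).2 a (hA ha)⟩
    (by omega) hAX (fun h => Nat.not_even_iff_odd.2 hX (even_iff_two_dvd.2 h))
    fun a ha ha1 x hx => hW a ha ha1 x hx.1 (mem_centralizer_singleton_iff.1 hx.2)

/-- The data of the completion. -/
structure Compl (G : Type u) [Group G] [Finite G] (S : Sylow 2 G) (W : Subgroup G) : Prop where
  odd : Odd (Nat.card W)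
  inv : (S : Subgroup G) ≤ normalizer (W : Set G)
  inf_le : ∀ a ∈ (S : Subgroup G), a ≠ 1 → ∀ x ∈ W, Commute x a → x ∈ core a
  core_le : ∀ a ∈ (S : Subgroup G), a ≠ 1 → core a ≤ W

theorem exists_compl (hG : Ctx G) (S : Sylow 2 G) : ∃ W, Compl G S W := by
  haveI : Fact (Nat.Prime 2) := ⟨Nat.prime_two⟩
  obtain ⟨W, hW, hcore⟩ := CfsgLib.SolvSignalizer.exists_complete (elemAb_sylow hG.hs S)
    (by rw [(hG.hs S).1]; norm_num) (signalizer_core hG S)
  exact ⟨W, Nat.not_even_iff_odd.1 fun h => hW.2.1 (even_iff_two_dvd.1 h),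
    CfsgLib.Invol.family_normalizer hW,
    fun a ha ha1 x hx hxa => hW.2.2.2 a ha ha1 ⟨hx, mem_centralizer_singleton_iff.2 hxa.eq⟩, hcore⟩

namespace Compl

variable {S : Sylow 2 G} {W : Subgroup G} (hW : Compl G S W)
include hW

/-- An element acting on the centralizers as a permutation normalizes the completion. -/
theorem normalizer_le (hs : SylowEight G) : normalizer ((S : Subgroup G) : Set G) ≤ normalizer (W : Set G) := by
  intro g hg
  rw [← CfsgLib.Coprime.conjBy_eq_self_iff]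
  refine eq_of_le_of_card_ge ?_ (by rw [CfsgLib.Coprime.card_conjBy])
  refine le_of_fixed hs S (A := (S : Subgroup G)) le_rfl (by rw [(hs S).1]; norm_num) ?_ ?_ ?_
  · intro u hu
    have hu' := mem_norm_conj (inv_mem hg) hu
    rw [inv_inv] at hu'
    rw [← CfsgLib.Coprime.conjBy_eq_self_iff, CfsgLib.Coprime.conjBy_conjBy,
      show u * g = g * (g⁻¹ * u * g) by group, ← CfsgLib.Coprime.conjBy_conjBy,
      CfsgLib.Coprime.conjBy_eq_self_iff.2 (hW.inv hu')]
  · rw [CfsgLib.Coprime.card_conjBy]; exact hW.odd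
  · rintro a ha ha1 _ ⟨x, hx, rfl⟩ hxa
    simp only [MulEquiv.coe_toMonoidHom, MulAut.conj_apply] at hxa ⊢
    have ha' := mem_norm_conj (inv_mem hg) ha
    rw [inv_inv] at ha'
    have ha'1 : g⁻¹ * a * g ≠ 1 := fun e => ha1 (by
      calc a = g * (g⁻¹ * a * g) * g⁻¹ := by group
        _ = 1 := by rw [e]; group)
    have hxa' : Commute x (g⁻¹ * a * g) := by
      have := hxa.map (MulAut.conj g⁻¹).toMonoidHom
      simp only [MulEquiv.coe_toMonoidHom, MulAut.conj_apply, inv_inv] at this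
      rwa [show g⁻¹ * (g * x * g⁻¹) * g = x by group] at this
    have h1 := conj_core (g := g) (hW.inf_le _ ha' ha'1 x hx hxa')
    rw [show g * (g⁻¹ * a * g) * g⁻¹ = a by group] at h1
    exact hW.core_le a ha ha1 h1

/-- The centralizer of a four group normalizes the completion. -/
theorem cent_pair_le (hs : SylowEight G) {t v : G} (ht : t ∈ (S : Subgroup G)) (hv : v ∈ (S : Subgroup G))
    (ht1 : t ≠ 1) (hv1 : v ≠ 1) (htv : t ≠ v) {c : G} (hct : Commute c t) (hcv : Commute c v) :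
    c ∈ normalizer (W : Set G) := by
  obtain ⟨hle, h4, hl⟩ := pair_le hs S ht hv ht1 hv1 htv
  rw [← CfsgLib.Coprime.conjBy_eq_self_iff]
  refine (eq_of_le_of_card_ge ?_ (by rw [CfsgLib.Coprime.card_conjBy])).symm.symm
  intro y hy
  rw [CfsgLib.Coprime.mem_conjBy] at hy
  have key : W ≤ W.comap (MulAut.conj c).toMonoidHom := by
    refine le_of_fixed hs S hle (by rw [h4]) (hle.trans hW.inv) hW.odd fun a ha ha1 x hx hxa => ?_
    have hca : Commute c a := by
      rcases hl a ha with e | e | e | e <;> rw [e]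
      exacts [Commute.one_right c, hct, hcv, hct.mul_right hcv]
    rw [mem_comap]
    exact hW.core_le a (hle ha) ha1 (core_conj_mem hca (hW.inf_le a (hle ha) ha1 x hx hxa))
  have := key hy
  rw [mem_comap] at this
  simpa [mul_assoc] using this

/-- When all quotients are `PSL(2, 5)` every invariant odd subgroup lies in the completion. -/
theorem le_of_five (hG : Ctx G) (h5 : ∀ v ∈ (S : Subgroup G), v ≠ 1 → ∃ P : PslData (Top v), Fintype.card P.F = 5)
    {X : Subgroup G} (hX : Odd (Nat.card X)) (hXinv : (S : Subgroup G) ≤ normalizer (X : Set G)) : X ≤ W := by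
  have hs := hG.hs
  refine le_of_fixed hs S le_rfl (by rw [(hs S).1]; norm_num) hXinv hX fun v hv hv1 x hx hxv => ?_
  refine hW.core_le v hv hv1 ?_
  have hv2 := invol_of_mem hs S hv hv1
  obtain ⟨P, hP⟩ := h5 v hv hv1
  obtain ⟨a, ha, ha1, hav⟩ := exists_two hs S hv hv1
  obtain ⟨b, hb, hb1, hbv, hba, hbva⟩ := exists_third hs S hv ha hv1 ha1 hav.symm
  have hac : Commute a v := comm_eight hs S ha hv
  have hbc : Commute b v := comm_eight hs S hb hv
  have ha2 := tp_invol hv2 (invol_of_mem hs S ha ha1) hac hav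
  have hb2 := tp_invol hv2 (invol_of_mem hs S hb hb1) hbc hbv
  have hab1 : a * b ≠ 1 := fun e => hba (by rw [← one_mul b, ← (hs S).2 a ha, mul_assoc, e, mul_one])
  have habv : a * b ≠ v := fun e => hbva (by
    rw [← e, comm_eight hs S ha hb, mul_assoc, (hs S).2 a ha, mul_one])
  have hne : tp v a hac ≠ tp v b hbc := fun e => by
    have h1 := tp_invol hv2 (invol_of_mem hs S (mul_mem ha hb) hab1) (hac.mul_left hbc) habv
    rw [tp_mul hac hbc, ← e, CfsgLib.Invol.invol_mul_self ha2, orderOf_one] at h1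
    omega
  have hcab : Commute (tp v a hac) (tp v b hbc) := by
    show _ = _
    rw [← tp_mul, ← tp_mul]
    exact tp_congr _ _ (comm_eight hs S ha hb)
  set C := centralizer ({v} : Set G) with hC
  set U := (X.subgroupOf C).map (pr v) with hU
  have hUodd : Odd (Nat.card U) := hX.of_dvd_nat ((CfsgLib.Coprime.card_map_dvd_card _ _).trans
    (card_comap_dvd_of_injective X C.subtype (subtype_injective _)))
  have hnorm : ∀ u (hu : u ∈ (S : Subgroup G)) (huv : Commute u v), tp v u huv ∈ normalizer (U : Set (Top v)) := by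
    intro u hu huv
    have hfw : ∀ z ∈ U, tp v u huv * z * (tp v u huv)⁻¹ ∈ U := by
      rintro _ ⟨⟨z, hz⟩, hzX, rfl⟩
      rw [SetLike.mem_coe, mem_subgroupOf] at hzX
      have hzv : Commute z v := mem_centralizer_singleton_iff.1 hz
      exact ⟨⟨u * z * u⁻¹, mem_centralizer_singleton_iff.2 ((huv.mul_left hzv).mul_left huv.inv_left).eq⟩,
        mem_subgroupOf.2 ((mem_normalizer_iff.1 (hXinv hu) z).1 hzX), tp_conj huv hzv⟩
    rw [← CfsgLib.Coprime.conjBy_eq_self_iff]
    exact eq_of_le_of_card_ge (by rintro _ ⟨z, hz, rfl⟩; exact hfw z hz) (by rw [CfsgLib.Coprime.card_conjBy])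
  have hbot := P.eq_bot_of_four hP ha2 hb2 hne hcab hUodd (hnorm a ha hac) (hnorm b hb hbc)
  refine mem_core_of_tp hv2 hxv (hX.of_dvd_nat (Subgroup.orderOf_dvd_natCard X hx)) ?_
  have : tp v x hxv ∈ U := ⟨⟨x, mem_centralizer_singleton_iff.2 hxv.eq⟩, mem_subgroupOf.2 hx, rfl⟩
  rwa [hbot, Subgroup.mem_bot] at this

end Compl

/-- The Sylow subgroups of the completion are covered when all quotients are `PSL(2, 5)`. -/
theorem exists_sylow_covers (hG : Ctx G) {S : Sylow 2 G} {W : Subgroup G} (hW : Compl G S W)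
    (hfam : ∀ X : Subgroup G, Odd (Nat.card X) → (S : Subgroup G) ≤ normalizer (X : Set G) → X ≤ W)
    {t : G} (htS : t ∈ (S : Subgroup G)) (ht : orderOf t = 2) {r : ℕ} [Fact r.Prime] :
    ∃ R : Subgroup G, IsSylowIn r R W ∧ Covers (normalizer (R : Set G)) t := by
  haveI : Fact (Nat.Prime 2) := ⟨Nat.prime_two⟩
  have hs := hG.hs
  have hWsolv := CfsgLib.FT.isSolvable_of_odd _ hW.odd
  have ht1 := CfsgLib.Invol.invol_ne_one ht
  have hSc : (S : Subgroup G) ≤ normalizer (core t : Set G) :=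
    (le_centralizer_of_mem hs S htS).trans (cent_le_normalizer_core t)
  obtain ⟨R0, hR0, hR0inv⟩ := CfsgLib.Coprime.exists_invariant_sylow hSc (coprime_sylow hs S (odd_core t))
    (Or.inr (CfsgLib.FT.isSolvable_of_odd _ (odd_core t))) r
  by_cases hne : R0 = ⊥
  · -- no `r`-element in any core, so none in `W`
    obtain ⟨Q, hQ, hQinv⟩ := CfsgLib.Coprime.exists_invariant_sylow hW.inv (coprime_sylow hs S hW.odd)
      (Or.inr hWsolv) r
    have hnd : ¬ r ∣ Nat.card (core t) := fun hd => by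
      have h1 := hR0.2
      rw [hne, Subgroup.card_bot] at h1
      have h2 := (Fact.out : r.Prime).factorization_pos_of_dvd Nat.card_pos.ne' hd
      exact (Nat.one_lt_pow h2.ne' (Fact.out : r.Prime).one_lt).ne h1
    have hQ1 : Q = ⊥ := by
      refine le_bot_iff.1 (le_of_fixed hs S le_rfl (by rw [(hs S).1]; norm_num) hQinv
        (hW.odd.of_dvd_nat (card_dvd_of_le hQ.1)) fun v hv hv1 x hx hxv => Subgroup.mem_bot.2 ?_)
      have hxc := hW.inf_le v hv hv1 x (hQ.1 hx) hxv
      obtain ⟨g, -, hge⟩ := transitive hs hG.no_two S hv hv1 htS ht1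
      have hxt : g * x * g⁻¹ ∈ core t := hge ▸ conj_core hxc
      obtain ⟨j, hj⟩ := hQ.isPGroup ⟨x, hx⟩
      have h3 : orderOf (g * x * g⁻¹) = orderOf x := MulEquiv.orderOf_eq (MulAut.conj g) x
      have h4 : orderOf x ∣ Nat.card (core t) := h3 ▸ Subgroup.orderOf_dvd_natCard _ hxt
      exact orderOf_eq_one_iff.1 (Nat.eq_one_of_dvd_coprimes
        ((Fact.out : r.Prime).coprime_iff_not_dvd.2 hnd |>.pow_left j)
        (orderOf_dvd_of_pow_eq_one (congrArg Subtype.val hj)) h4)
    refine ⟨Q, hQ, fun c _ => ⟨1, one_mem _, ?_⟩⟩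
    rw [hQ1, normalizer_eq_top_iff.2 (inferInstance : (⊥ : Subgroup G).Normal)]
    exact mem_top _
  have hr : r ≠ 2 := fun e => hne (by
    subst e
    refine Subgroup.card_eq_one.1 ?_
    obtain ⟨k, hk⟩ := hR0.isPGroup.exists_card_eq
    rcases k with _ | k
    · exact hk.trans (pow_zero 2)
    · exact absurd ((odd_core t).of_dvd_nat (card_dvd_of_le hR0.1))
        (Nat.not_odd_iff_even.2 (hk ▸ (Nat.even_pow.2 ⟨even_two, Nat.succ_ne_zero k⟩))))
  obtain ⟨R, hRc, hH, hHt, hRK, -⟩ := exists_top_class hG hr S htS ht hR0 hR0inv hne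
  set H := normalizer (R : Set G) with hHdef
  have hRW : R ≤ W := hfam R (odd_card_of_pGroup' hr hRc.pgroup) hRc.inv
  obtain ⟨R', hR', hRR', hR'inv⟩ := CfsgLib.Coprime.le_invariant_sylow hW.inv (coprime_sylow hs S hW.odd)
    (Or.inr hWsolv) hRW hRc.pgroup hRc.inv
  refine ⟨R, ?_, hRc.cov⟩
  suffices heq : R = R' by rw [heq]; exact hR'
  by_contra hneq
  have hlt := CfsgLib.Coprime.lt_inf_normalizer hR'.isPGroup (lt_of_le_of_ne hRR' hneq)
  set NU : Subgroup G := R' ⊓ normalizer (R : Set G) with hNU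
  have hNUH : NU ≤ H := inf_le_right
  set X : Subgroup G := NU ⊔ coreH H with hX
  have hXH : X ≤ H := sup_le hNUH (coreH_le H)
  have hn : NU ≤ normalizer (coreH H : Set G) := hNUH.trans (le_normalizer_coreH H)
  have hNUodd : Odd (Nat.card NU) := hW.odd.of_dvd_nat (card_dvd_of_le (inf_le_left.trans hR'.1))
  have hXodd : Odd (Nat.card X) := (hNUodd.mul (odd_coreH H)).of_dvd_nat
    (CfsgLib.Coprime.card_sup_dvd_of_le_normalizer hn)
  have hXinv : (S : Subgroup G) ≤ normalizer (X : Set G) :=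
    CfsgLib.Coprime.sup_le_normalizer (CfsgLib.Coprime.inf_le_normalizer hR'inv (hH.le.trans le_normalizer))
      (hH.le.trans (le_normalizer_coreH H))
  have hXW : X ≤ W := hfam X hXodd hXinv
  have hfix : ∀ {v : G}, v ∈ (S : Subgroup G) → v ≠ 1 → Covers H v → ∀ x ∈ X, Commute x v → x ∈ coreH H :=
    fun hv hv1 hc x hx hxv =>
      (hH.of_covers hv hv1 hc).core_inf_le hG.ih hHt hG.ns_mem (hW.inf_le _ hv hv1 x (hXW hx) hxv) (hXH hx)
  have hXK : X ≤ coreH H := by
    rcases hH.dichotomy (hG.hns t ht) with hA | ⟨K, -, -, -, -, -, -, hcov⟩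
    · intro x hx
      obtain ⟨y, hyt, hyx⟩ := hH.exists_lift htS (hA (QuotientGroup.mk' (Cfsg.oddCore H) ⟨x, hXH hx⟩))
      have h1 : y * (⟨x, hXH hx⟩ : H)⁻¹ ∈ Cfsg.oddCore H := (QuotientGroup.eq_one_iff _).1
        (show QuotientGroup.mk' (Cfsg.oddCore H) _ = 1 by rw [map_mul, map_inv, hyx, mul_inv_cancel])
      have h2 : (y : G) * x⁻¹ ∈ coreH H := mem_coreH.2 h1
      have hyX : (y : G) ∈ X := by
        rw [show (y : G) = (y : G) * x⁻¹ * x by group]
        exact mul_mem (mem_sup_right h2) hx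
      have hy1 : (y : G) ∈ coreH H := hfix htS ht1 hH.cov _ hyX hyt
      have := mul_mem (inv_mem h2) hy1
      rwa [mul_inv_rev, inv_inv, inv_mul_cancel_right] at this
    · exact le_of_fixed hs S le_rfl (by rw [(hs S).1]; norm_num) hXinv hXodd fun v hv hv1 x hx hxv =>
        hfix hv hv1 (hcov v hv hv1) x hx hxv
  refine hlt.ne (eq_of_le_of_card_ge hlt.le ?_)
  obtain ⟨a, ha⟩ := (hR'.isPGroup.to_le (inf_le_left : NU ≤ R')).exists_card_eq
  show Nat.card NU ≤ Nat.card R
  rw [hRK.2, ha]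
  exact Nat.pow_le_pow_right (Fact.out : r.Prime).pos
    (((Fact.out : r.Prime).pow_dvd_iff_le_factorization Nat.card_pos.ne').1
      (ha ▸ card_dvd_of_le ((le_sup_left : NU ≤ X).trans hXK)))

/-- The centralizer normalizes the completion when all quotients are `PSL(2, 5)`. -/
theorem cent_le_of_five (hG : Ctx G) {S : Sylow 2 G} {W : Subgroup G} (hW : Compl G S W)
    (hfam : ∀ X : Subgroup G, Odd (Nat.card X) → (S : Subgroup G) ≤ normalizer (X : Set G) → X ≤ W)
    {t : G} (htS : t ∈ (S : Subgroup G)) (ht : orderOf t = 2) :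
    centralizer ({t} : Set G) ≤ normalizer (W : Set G) := by
  intro k hk
  have hkt : Commute k t := mem_centralizer_singleton_iff.1 hk
  rw [← CfsgLib.Coprime.conjBy_eq_self_iff]
  suffices heq : W = CfsgLib.Coprime.conjBy k⁻¹ W by
    have h1 := CfsgLib.Coprime.conjBy_conjBy k k⁻¹ W
    rw [← heq, mul_inv_cancel] at h1
    rw [h1]
    ext y
    simp [CfsgLib.Coprime.mem_conjBy]
  refine eq_of_le_of_card_ge ?_ ?_
  · intro x hx
    have hle : Nat.card W ∣ Nat.card (W ⊓ CfsgLib.Coprime.conjBy k⁻¹ W : Subgroup G) := by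
      refine (Nat.dvd_iff_prime_pow_dvd_dvd _ _).2 fun p j hp hd => ?_
      haveI := Fact.mk hp
      obtain ⟨R, hR, hc⟩ := exists_sylow_covers hG hW hfam htS ht (r := p)
      obtain ⟨o, ho, hok⟩ := hc k hkt
      have hoW : o ∈ W := hW.core_le t htS (CfsgLib.Invol.invol_ne_one ht) ho
      have hRle : R ≤ W ⊓ CfsgLib.Coprime.conjBy k⁻¹ W := le_inf hR.1 fun y hy => by
        rw [CfsgLib.Coprime.mem_conjBy, inv_inv]
        have h1 : o * k * y * (o * k)⁻¹ ∈ W := hR.1 ((mem_normalizer_iff.1 hok y).1 hy)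
        have h2 := mul_mem (mul_mem (inv_mem hoW) h1) hoW
        rwa [show o⁻¹ * (o * k * y * (o * k)⁻¹) * o = k * y * k⁻¹ by group] at h2
      refine dvd_trans ?_ (card_dvd_of_le hRle)
      rw [hR.2]
      exact pow_dvd_pow p ((hp.pow_dvd_iff_le_factorization Nat.card_pos.ne').1 hd)
    exact ((eq_of_le_of_card_ge (inf_le_left : W ⊓ CfsgLib.Coprime.conjBy k⁻¹ W ≤ W)
      (Nat.le_of_dvd Nat.card_pos hle)).ge hx).2
  · rw [CfsgLib.Coprime.card_conjBy]

/-- For `q ≥ 11` the centralizer normalizes the completion. -/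
theorem cent_le_of_eleven (hG : Ctx G) {S : Sylow 2 G} {W : Subgroup G} (hW : Compl G S W) {t : G}
    (htS : t ∈ (S : Subgroup G)) (ht : orderOf t = 2) (P : PslData (Top t)) (h11 : 11 ≤ Fintype.card P.F) :
    centralizer ({t} : Set G) ≤ normalizer (W : Set G) := by
  haveI : Fact (Nat.Prime 2) := ⟨Nat.prime_two⟩
  have hs := hG.hs
  have ht1 := CfsgLib.Invol.invol_ne_one ht
  set C := centralizer ({t} : Set G) with hC
  set M := normalizer (W : Set G) with hM
  obtain ⟨u, hu, hu1, hut⟩ := exists_two hs S htS ht1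
  have huc : Commute u t := comm_eight hs S hu htS
  set b := tp t u huc with hb
  have hu2 := invol_of_mem hs S hu hu1
  have hb2 : orderOf b = 2 := tp_invol ht hu2 huc hut
  have hbM := P.mem_of_invol hb2
  set U : Subgroup (Top t) := (M.subgroupOf C).map (pr t) with hU
  have hUmem : ∀ {c : G} (h : Commute c t), c ∈ M → tp t c h ∈ U := fun h hc =>
    ⟨⟨_, mem_centralizer_singleton_iff.2 h.eq⟩, mem_subgroupOf.2 hc, rfl⟩
  have hcentU : ∀ z : Top t, Commute z b → z ∈ U := by
    intro z hz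
    obtain ⟨c, hc, rfl⟩ := exists_tp_eq z
    obtain ⟨k, hk, hkc⟩ := exists_commute_lift hs ht (c := ⟨c, mem_centralizer_singleton_iff.2 hc.eq⟩)
      (d := ⟨u, mem_centralizer_singleton_iff.2 huc.eq⟩) (Subtype.ext ((hs S).2 u hu)) hz
    have hkcore : (k : G) ∈ core t := mem_map_of_mem _ hk
    have h1 := hUmem ((core_commute hkcore).mul_left hc) (hW.cent_pair_le hs htS hu ht1 hu1 hut.symm
      ((core_commute hkcore).mul_left hc) (congrArg Subtype.val hkc.eq))
    rwa [tp_mul (core_commute hkcore) hc, tp_core hkcore, one_mul] at h1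
  obtain ⟨n, hn, hnt, hmv, -⟩ := exists_mover hs S htS ht1 (hG.hns t ht)
  obtain ⟨m1, m2⟩ := hmv u hu hu1 hut
  have hnU : tp t n hnt ∈ U := hUmem hnt (hW.normalizer_le hs hn)
  set ν := tp t n hnt with hν
  have hne : ν * b * ν⁻¹ ≠ b := by
    intro e
    set u' := n * u * n⁻¹ with hu'
    have hu'c : Commute u' t := (hnt.mul_left huc).mul_left hnt.inv_left
    have hu'1 : u' ≠ 1 := fun h => hu1 (conj_eq_one_iff.1 h)
    have hu'S : u' ∈ (S : Subgroup G) := mem_norm_conj hn hu
    have e' : tp t u' hu'c = b := (tp_conj hnt huc).trans e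
    have hp1 : u' * u ≠ 1 := fun h => m1 (by
      rw [← one_mul u, ← h, mul_assoc, (hs S).2 u hu, mul_one])
    have hpt : u' * u ≠ t := fun h => m2 (by
      rw [← h, mul_assoc, (hs S).2 u hu, mul_one])
    have h1 := tp_invol ht (invol_of_mem hs S (mul_mem hu'S hu) hp1) (hu'c.mul_left huc) hpt
    rw [tp_mul hu'c huc, e', ← hb, CfsgLib.Invol.invol_mul_self hb2, orderOf_one] at h1
    omega
  have hb'2 : orderOf (ν * b * ν⁻¹) = 2 := CfsgLib.Invol.invol_conj hb2 ν
  obtain ⟨m, hm, hme⟩ := CfsgLib.GW.isConj_of_invol_mem P.M P.e hb2 hb'2 hbM (P.mem_of_invol hb'2)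
  have hmU : m ∈ U := by
    have h1 : m⁻¹ * ν ∈ U := hcentU _ (by
      show m⁻¹ * ν * b = b * (m⁻¹ * ν)
      calc m⁻¹ * ν * b = m⁻¹ * (ν * b * ν⁻¹) * ν := by group
        _ = b * (m⁻¹ * ν) := by rw [← hme]; group)
    have := mul_mem hnU (inv_mem h1)
    rwa [mul_inv_rev, inv_inv, ← mul_assoc, mul_inv_cancel, one_mul] at this
  have hmb : ¬ Commute m b := fun h => hne (by rw [← hme, h.eq, mul_inv_cancel_right])
  have hMU : P.M ≤ U := P.le_of_cent h11 hb2 (fun z _ hz => hcentU z hz) hm hmU hmb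
  intro c hc
  have hct : Commute c t := mem_centralizer_singleton_iff.1 hc
  set z := tp t c hct with hz
  have hzb : orderOf (z * b * z⁻¹) = 2 := CfsgLib.Invol.invol_conj hb2 z
  obtain ⟨m', hm', hm'e⟩ := CfsgLib.GW.isConj_of_invol_mem P.M P.e hb2 hzb hbM (P.mem_of_invol hzb)
  have h1 : m'⁻¹ * z ∈ U := hcentU _ (by
    show m'⁻¹ * z * b = b * (m'⁻¹ * z)
    calc m'⁻¹ * z * b = m'⁻¹ * (z * b * z⁻¹) * z := by group
      _ = b * (m'⁻¹ * z) := by rw [← hm'e]; group)
  have h2 := mul_mem (hMU hm') h1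
  rw [← mul_assoc, mul_inv_cancel, one_mul] at h2
  obtain ⟨⟨d, hd⟩, hdM, hde⟩ := h2
  rw [SetLike.mem_coe, mem_subgroupOf] at hdM
  have hker : (⟨c, hc⟩ : C) * (⟨d, hd⟩ : C)⁻¹ ∈ kerT t := (QuotientGroup.eq_one_iff _).1
    (show pr t _ = 1 by
      rw [map_mul, map_inv, hde]
      exact mul_inv_cancel _)
  have hcd : c * d⁻¹ ∈ M := by
    have hcoreM : ∀ {o : C}, o ∈ Cfsg.oddCore C → (o : G) ∈ M := fun ho =>
      le_normalizer (hW.core_le t htS ht1 (mem_map_of_mem _ ho))
    rcases mem_kerT ht hker with h | ⟨o, ho, he⟩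
    · exact hcoreM h
    · rw [show c * d⁻¹ = (o : G) * t from congrArg Subtype.val he]
      exact mul_mem (hcoreM ho) (hW.inv htS)
  have := mul_mem hcd hdM
  rwa [inv_mul_cancel_right] at this

/-- The main step. -/
theorem core_eq_bot_of_ctx (hG : Ctx G) {t : G} (ht : orderOf t = 2) : core t = ⊥ := by
  haveI : Fact (Nat.Prime 2) := ⟨Nat.prime_two⟩
  have hs := hG.hs
  have ht1 := CfsgLib.Invol.invol_ne_one ht
  obtain ⟨S, htS⟩ := exists_sylow_of_invol ht
  obtain ⟨W, hW⟩ := exists_compl hG S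
  refine le_bot_iff.1 ?_
  by_contra hne
  have hWne : W ≠ ⊥ := fun e => hne ((hW.core_le t htS ht1).trans e.le)
  set M := normalizer (W : Set G) with hM
  have hMtop : M ≠ ⊤ := hG.normalizer_ne_top hWne (hG.odd_ne_top hW.odd)
  have hCM : centralizer ({t} : Set G) ≤ M := by
    by_cases h5 : ∀ v ∈ (S : Subgroup G), v ≠ 1 → ∃ P : PslData (Top v), Fintype.card P.F = 5
    · exact cent_le_of_five hG hW (fun X hX hXi => hW.le_of_five hG h5 hX hXi) htS ht
    push Not at h5
    obtain ⟨v, hv, hv1, h5⟩ := h5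
    have hv2 := invol_of_mem hs S hv hv1
    obtain ⟨P⟩ := exists_top_data hs hv2 (hG.hns v hv2)
    have h11 := (P.q_cases).resolve_left (h5 P)
    have hvM := cent_le_of_eleven hG hW hv hv2 P h11
    obtain ⟨g, hg, hge⟩ := transitive hs hG.no_two S hv hv1 htS ht1
    intro c hc
    have h1 : g⁻¹ * c * g ∈ M := hvM (mem_centralizer_singleton_iff.2 (by
      have h2 := (show Commute c t from mem_centralizer_singleton_iff.1 hc).map (MulAut.conj g⁻¹).toMonoidHom
      simp only [MulEquiv.coe_toMonoidHom, MulAut.conj_apply, inv_inv] at h2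
      rw [show g⁻¹ * t * g = v by rw [← hge]; group] at h2
      exact h2.eq))
    have hgM := hW.normalizer_le hs hg
    have := mul_mem (mul_mem hgM h1) (inv_mem hgM)
    rwa [show g * (g⁻¹ * c * g) * g⁻¹ = c by group] at this
  have hSM : (S : Subgroup G) ≤ M := hW.inv
  have hse : Cfsg.IsStronglyEmbedded M := CfsgLib.ZNGroup.stronglyEmbedded_of_fused ht htS hMtop hSM hCM
    fun u hu hu2 => by
      obtain ⟨g, hg, hge⟩ := transitive hs hG.no_two S hu (CfsgLib.Invol.invol_ne_one hu2) htS ht1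
      exact ⟨g, hW.normalizer_le hs hg, hge⟩
  have h1 : W ≤ coreH M := le_coreH le_normalizer hW.odd fun h hh x hx => (mem_normalizer_iff.1 hh x).1 hx
  have h2 : Cfsg.oddCore G = ⊥ := by
    haveI := hG.eight.simple
    refine ((oddCore_normal G).eq_bot_or_eq_top).resolve_right fun e => ?_
    have hodd : Odd (Nat.card (Cfsg.oddCore G)) :=
      Nat.coprime_two_right.1 (CfsgLib.Coprime.pPrimeCore_coprime Nat.prime_two)
    exact hG.odd_ne_top hodd e
  exact hWne (le_bot_iff.1 ((h1.trans (Cfsg.Agent.S1221.result M hse)).trans h2.le))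

/-- The induction. -/
theorem coreIH_of_card : ∀ (n : ℕ) (G : Type u) [Group G] [Finite G], Nat.card G = n → Eight G → ∀ t : G,
    orderOf t = 2 → ¬ Group.IsSolvable ↥(centralizer ({t} : Set G)) →
      Cfsg.oddCore ↥(centralizer ({t} : Set G)) = ⊥ := by
  intro n
  induction n using Nat.strong_induction_on with
  | _ n IH =>
    intro G _ _ hn hE t ht hns
    haveI : Fact (Nat.Prime 2) := ⟨Nat.prime_two⟩
    have hctx : Ctx G := by
      refine ⟨hE, fun L _ _ hlt hL => IH (Nat.card L) (hn ▸ hlt) L rfl hL, fun v hv hsol => hns ?_⟩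
      obtain ⟨S, htS⟩ := exists_sylow_of_invol ht
      obtain ⟨S', hvS'⟩ := exists_sylow_of_invol hv
      obtain ⟨g, hg⟩ := MulAction.exists_smul_eq G S' S
      have hvS : g * v * g⁻¹ ∈ (S : Subgroup G) := by
        rw [← hg, Sylow.coe_subgroup_smul]
        exact ⟨v, hvS', rfl⟩
      obtain ⟨h, -, hh⟩ := transitive hE.sylow (no_index_two hE.simple hE.noncomm) S hvS
        (fun e => CfsgLib.Invol.invol_ne_one hv (conj_eq_one_iff.1 e)) htS (CfsgLib.Invol.invol_ne_one ht)
      have key : ∀ c : centralizer ({t} : Set G), (h * g)⁻¹ * (c : G) * (h * g) ∈ centralizer ({v} : Set G) := by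
        intro c
        refine mem_centralizer_singleton_iff.2 ?_
        have h2 := (show Commute (c : G) t from mem_centralizer_singleton_iff.1 c.2).map
          (MulAut.conj (h * g)⁻¹).toMonoidHom
        simp only [MulEquiv.coe_toMonoidHom, MulAut.conj_apply, inv_inv] at h2
        rw [show (h * g)⁻¹ * t * (h * g) = v by rw [← hh]; group] at h2
        exact h2.eq
      haveI := hsol
      exact Group.isSolvable_of_isSolvable_injective
        (f := (((MulAut.conj (h * g)⁻¹).toMonoidHom.comp (centralizer ({t} : Set G)).subtype).codRestrict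
          (centralizer ({v} : Set G)) fun c => by simpa [mul_assoc] using key c))
        fun a b e => Subtype.ext ((MulAut.conj (h * g)⁻¹).injective (congrArg Subtype.val e))
    have h0 := core_eq_bot_of_ctx hctx ht
    exact (map_eq_bot_iff_of_injective _ (subtype_injective _)).1 h0

end CfsgLib.Walter.Core

namespace CfsgLib.Walter

universe u

/-- The odd core of a non-solvable centralizer of an involution is trivial. -/
theorem Eight.core_eq_bot {G : Type u} [Group G] [Finite G] (hG : Eight G) (_ : SectionsOK G) {t : G}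
    (ht : orderOf t = 2) (hns : ¬ Group.IsSolvable ↥(Subgroup.centralizer ({t} : Set G))) :
    Cfsg.oddCore ↥(Subgroup.centralizer ({t} : Set G)) = ⊥ :=
  Core.coreIH_of_card (Nat.card G) G rfl hG t ht hns

end CfsgLib.Walter
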