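import Cfsg.Agent.Lib.Walter.Core.Control

/-!
# Balance
-/

set_option autoImplicit false
set_option linter.style.haveILetI false
set_option linter.unusedSectionVars false
set_option maxHeartbeats 1000000

open Subgroup
open CfsgLib.Coprime (IsSylowIn)

namespace CfsgLib.Walter.Core

universe u

attribute [local instance] oddCore_normal

variable {G : Type u} [Group G] [Finite G]

theorem Bad.mul {r : ℕ} {S : Sylow 2 G} {t v : G} (ht : t * t = 1) (h : Bad r S t v) : Bad r S t (t * v) := by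
  obtain ⟨T, hT, hTc, hTS, hy⟩ := h
  exact ⟨T, hT, fun x hx => ⟨(hTc x hx).1, (hTc x hx).1.mul_right (hTc x hx).2⟩, hTS, hy⟩

/-- A bad pair makes every pair bad. -/
theorem bad_all (hG : Ctx G) {r : ℕ} {S : Sylow 2 G} {s t : G} (hsS : s ∈ (S : Subgroup G))
    (htS : t ∈ (S : Subgroup G)) (hs1 : s ≠ 1) (ht1 : t ≠ 1) (hst : s ≠ t) (h : Bad r S s t) :
    ∀ v ∈ (S : Subgroup G), v ≠ 1 → v ≠ t → Bad r S t v := by
  have hs := hG.hs
  obtain ⟨g, hg, hge⟩ := transitive hs hG.no_two S hsS hs1 htS ht1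
  set v0 := g * t * g⁻¹ with hv0
  have hv0S : v0 ∈ (S : Subgroup G) := mem_norm_conj hg htS
  have h0 : Bad r S t v0 := by
    have := h.transport hg
    rwa [hge] at this
  have hv01 : v0 ≠ 1 := fun e => ht1 (conj_eq_one_iff.1 e)
  have hv0t : v0 ≠ t := fun e => hst ((MulAut.conj g).injective (hge.trans e.symm))
  obtain ⟨n, hn, hnt, -, a, haS, b, hbS, ha1, hb1, hab, hat, hbt, habt, ea, eb, ec⟩ :=
    exists_mover hs S htS ht1 (hG.ns_mem t htS ht1)
  have key := exists_to_base hs S hn hnt htS haS hbS ht1 ha1 hb1 hab hat hbt habt ea eb ec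
  have ht2 := (hs S).2 t htS
  have hta : Bad r S t a := by
    obtain ⟨f, hf, hft, hfe⟩ := key v0 hv0S hv01 hv0t
    have h1 := h0.transport hf
    rw [hft] at h1
    rcases hfe with e | e <;> rw [e] at h1
    · exact h1
    · have := h1.mul ht2
      rwa [← mul_assoc, ht2, one_mul] at this
  intro v hv hv1 hvt
  obtain ⟨f, hf, hft, hfe⟩ := key v hv hv1 hvt
  have h1 : Bad r S t (f * v * f⁻¹) := by
    rcases hfe with e | e <;> rw [e]
    · exact hta
    · exact hta.mul ht2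
  have h2 := h1.transport (inv_mem hf)
  rwa [show f⁻¹ * t * f⁻¹⁻¹ = t by
      calc f⁻¹ * t * f⁻¹⁻¹ = f⁻¹ * (f * t * f⁻¹) * f⁻¹⁻¹ := by rw [hft]
        _ = t := by group,
    show f⁻¹ * (f * v * f⁻¹) * f⁻¹⁻¹ = v by group] at h2

theorem normalizer_le_coreH (H : Subgroup G) : normalizer (H : Set G) ≤ normalizer (coreH H : Set G) := by
  have hfw : ∀ g ∈ normalizer (H : Set G), ∀ x ∈ coreH H, g * x * g⁻¹ ∈ coreH H := by
    intro g hg x hx
    refine le_coreH (U := (coreH H).map (MulAut.conj g).toMonoidHom) ?_ ?_ ?_ ⟨x, hx, rfl⟩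
    · rintro _ ⟨u, hu, rfl⟩
      exact (mem_normalizer_iff.1 hg u).1 (coreH_le H hu)
    · rw [card_map_of_injective (MulAut.conj g).injective]
      exact odd_coreH H
    · rintro h hh _ ⟨u, hu, rfl⟩
      have hh' : g⁻¹ * h * g ∈ H := by
        have := (mem_normalizer_iff.1 (inv_mem hg) h).1 hh
        rwa [inv_inv] at this
      refine ⟨g⁻¹ * h * g * u * (g⁻¹ * h * g)⁻¹, coreH_conj hh' hu, ?_⟩
      simp only [MulEquiv.coe_toMonoidHom, MulAut.conj_apply]
      group
  intro g hg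
  refine mem_normalizer_iff.2 fun x => ⟨hfw g hg x, fun hx => ?_⟩
  have := hfw g⁻¹ (inv_mem hg) _ hx
  rwa [inv_inv, show g⁻¹ * (g * x * g⁻¹) * g = x by group] at this

/-- An element of order a power of `r` of `O(C(t))` centralizing `s`, lying in `M` modulo the kernel of `C(s)`,
lies in `O(C(s))`. -/
theorem balance_prime (hG : Ctx G) (S : Sylow 2 G) {t s : G} (htS : t ∈ (S : Subgroup G))
    (hsS : s ∈ (S : Subgroup G)) (ht1 : t ≠ 1) (hs1 : s ≠ 1) (hts : t ≠ s) (P : PslData (Top s)) {r : ℕ}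
    [Fact r.Prime] (hr : r ≠ 2) {x : G} (hx : x ∈ core t) (hxs : Commute x s) (hxr : ∃ j, x ^ r ^ j = 1)
    (hxM : tp s x hxs ∈ P.M) : x ∈ core s := by
  haveI : Fact (Nat.Prime 2) := ⟨Nat.prime_two⟩
  have hs := hG.hs
  have ht2 := invol_of_mem hs S htS ht1
  have hs2 := invol_of_mem hs S hsS hs1
  set C := centralizer ({t, s} : Set G) with hC
  set O : Subgroup G := core t ⊓ centralizer ({s} : Set G) with hO
  have hOodd : Odd (Nat.card O) := (odd_core t).of_dvd_nat (card_dvd_of_le inf_le_left)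
  have hSC : (S : Subgroup G) ≤ C := fun u hu => mem_cent_pair.2 ⟨comm_eight hs S hu htS, comm_eight hs S hu hsS⟩
  have hCt : C ≤ centralizer ({t} : Set G) := fun c hc =>
    mem_centralizer_singleton_iff.2 (mem_cent_pair.1 hc).1.eq
  have hCs : C ≤ centralizer ({s} : Set G) := fun c hc =>
    mem_centralizer_singleton_iff.2 (mem_cent_pair.1 hc).2.eq
  have hCO : C ≤ normalizer (O : Set G) :=
    CfsgLib.Coprime.inf_le_normalizer (hCt.trans (cent_le_normalizer_core t)) (hCs.trans le_normalizer)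
  have hSO : (S : Subgroup G) ≤ normalizer (O : Set G) := hSC.trans hCO
  obtain ⟨T0, hT0, hT0inv⟩ := CfsgLib.Coprime.exists_invariant_sylow hSO (coprime_sylow hs S hOodd)
    (Or.inr (CfsgLib.FT.isSolvable_of_odd _ hOodd)) r
  have hT0p := hT0.isPGroup
  have hT0c : ∀ y ∈ T0, Commute y t ∧ Commute y s := fun y hy =>
    ⟨core_commute (hT0.1 hy).1, mem_centralizer_singleton_iff.1 (hT0.1 hy).2⟩
  by_cases hA : ∀ y ∈ T0, ∀ w ∈ (S : Subgroup G), y * w * y⁻¹ * w⁻¹ ∈ core s
  · -- a conjugate of `x` lies in `T0`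
    obtain ⟨j, hj⟩ := hxr
    have hxO : x ∈ O := ⟨hx, mem_centralizer_singleton_iff.2 hxs.eq⟩
    obtain ⟨Q, hQ⟩ := (CfsgLib.Coprime.isPGroup_zpowers (p := r) (x := (⟨x, hxO⟩ : O)) (k := j)
      (Subtype.ext (by simpa using hj))).exists_le_sylow
    obtain ⟨o, ho⟩ := MulAction.exists_smul_eq O Q hT0.toSylow
    set y := (o : G) * x * (o : G)⁻¹ with hy
    have hyT : y ∈ T0 := by
      have h1 : o * ⟨x, hxO⟩ * o⁻¹ ∈ (hT0.toSylow : Subgroup O) := by
        rw [← ho, Sylow.coe_subgroup_smul]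
        exact ⟨⟨x, hxO⟩, hQ (mem_zpowers _), rfl⟩
      have h2 := mem_map_of_mem O.subtype h1
      rwa [hT0.map_toSylow] at h2
    have hos : Commute (o : G) s := mem_centralizer_singleton_iff.1 o.2.2
    obtain ⟨hyt, hys⟩ := hT0c y hyT
    have hyM : tp s y hys ∈ P.M := by
      rw [tp_congr hys ((hos.mul_left hxs).mul_left hos.inv_left) hy, tp_conj hos hxs]
      exact P.normal.conj_mem _ hxM _
    obtain ⟨u, huS, hu1, hus, hut, hust⟩ := exists_third hs S hsS htS hs1 ht1 hts.symm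
    have htsc : Commute t s := comm_eight hs S htS hsS
    have husc : Commute u s := comm_eight hs S huS hsS
    set a := tp s t htsc with ha
    set b := tp s u husc with hb
    have ha2 : orderOf a = 2 := tp_invol hs2 ht2 htsc hts
    have hu2 := invol_of_mem hs S huS hu1
    have hb2 : orderOf b = 2 := tp_invol hs2 hu2 husc hus
    have hprodS : t * u ∈ (S : Subgroup G) := mul_mem htS huS
    have hprod1 : t * u ≠ 1 := fun e => hut (by
      rw [← one_mul u, ← (hs S).2 t htS, mul_assoc, e, mul_one])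
    have hprods : t * u ≠ s := fun e => hust (by
      rw [comm_eight hs S hsS htS, ← e, ← mul_assoc, (hs S).2 t htS, one_mul])
    have hab : a ≠ b := fun e => by
      have h1 := tp_invol hs2 (invol_of_mem hs S hprodS hprod1) (htsc.mul_left husc) hprods
      rw [tp_mul htsc husc, ← ha, ← hb, ← e, CfsgLib.Invol.invol_mul_self ha2, orderOf_one] at h1
      omega
    have hcab : Commute a b := by
      show _ = _
      rw [ha, hb, ← tp_mul, ← tp_mul]
      exact tp_congr _ _ (comm_eight hs S htS huS)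
    have hya : Commute (tp s y hys) a := by
      show _ = _
      rw [ha, ← tp_mul, ← tp_mul]
      exact tp_congr _ _ hyt.eq
    have hyb : Commute (tp s y hys) b := by
      have h3 := tp_core (hA y hyT u huS)
      rw [tp_congr _ (((hys.mul_left husc).mul_left hys.inv_left).mul_left husc.inv_left) rfl,
        tp_mul ((hys.mul_left husc).mul_left hys.inv_left) husc.inv_left, tp_conj hys husc, tp_inv,
        mul_inv_eq_one, mul_inv_eq_iff_eq_mul] at h3
      exact h3
    have hyo : Odd (orderOf y) := (odd_core t).of_dvd_nat (Subgroup.orderOf_dvd_natCard _ (hT0.1 hyT).1)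
    have hy1 : tp s y hys = 1 := by
      rcases CfsgLib.GW.diag_cent_four P.M P.e P.dih P.cent P.two_ne ha2 hb2 hab hcab
        (CfsgLib.GW.le_diagPart P.M P.e hyM) hya hyb with h | h | h | h
      · exact h
      all_goals
        exfalso
        have h5 := tp_odd hys hyo
        rw [h] at h5
      · rw [ha2] at h5; exact absurd h5 (by decide)
      · rw [hb2] at h5; exact absurd h5 (by decide)
      · rw [CfsgLib.GW.invol_mul_of_commute ha2 hb2 hab hcab] at h5; exact absurd h5 (by decide)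
    have hyc : y ∈ core s := mem_core_of_tp hs2 hys hyo hy1
    have := core_conj_mem hos.inv_left hyc
    rwa [hy, inv_inv, show (o : G)⁻¹ * ((o : G) * x * (o : G)⁻¹) * o = x by group] at this
  exfalso
  push Not at hA
  obtain ⟨y, hy, w, hw, hyw⟩ := hA
  have hall := bad_all hG hsS htS hs1 ht1 hts.symm
    ⟨T0, hT0p, fun z hz => ⟨(hT0c z hz).2, (hT0c z hz).1⟩, hT0inv, y, hy, w, hw, hyw⟩
  have hwy : ¬ Commute w y := fun hc => hyw (by rw [← hc.eq]; simp)
  have hcsolv := CfsgLib.FT.isSolvable_of_odd _ (odd_core t)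
  have hSc : (S : Subgroup G) ≤ normalizer (core t : Set G) :=
    (le_centralizer_of_mem hs S htS).trans (cent_le_normalizer_core t)
  obtain ⟨R0, hR0, hT0R0, hR0inv⟩ := CfsgLib.Coprime.le_invariant_sylow hSc (coprime_sylow hs S (odd_core t))
    (Or.inr hcsolv) (hT0.1.trans inf_le_left) hT0p hT0inv
  obtain ⟨N, hN, hNt, hR0N, hctrl⟩ := exists_control hG hr htS ht2 hR0 hR0inv hw (hT0R0 hy) hwy hall
  obtain ⟨T, hT, hTN, hTinv⟩ := exists_sylow_PB hG S htS hsS ht1 hs1 hts hN hR0 hR0inv hR0N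
  have hKodd : Odd (Nat.card (PB t s)) := odd_coreH _
  have hKsolv := CfsgLib.FT.isSolvable_of_odd _ hKodd
  have hSK : (S : Subgroup G) ≤ normalizer (PB t s : Set G) := hSC.trans (le_normalizer_coreH C)
  have hT0PB : T0 ≤ PB t s := fun z hz => mem_PB hs S htS hsS ht1 hs1 hts (hT0c z hz).1 (hT0c z hz).2
    (hOodd.of_dvd_nat (Subgroup.orderOf_dvd_natCard O (hT0.1 hz)))
  obtain ⟨T', hT', hT0T', hT'inv⟩ := CfsgLib.Coprime.le_invariant_sylow hSK (coprime_sylow hs S hKodd)
    (Or.inr hKsolv) hT0PB hT0p hT0inv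
  obtain ⟨c, hc, hce⟩ := CfsgLib.Coprime.invariant_sylow_conj hSK (coprime_sylow hs S hKodd)
    (Or.inr hKsolv) hT' hT hT'inv hTinv
  obtain ⟨hct, hcs⟩ := PB_commute hc.1
  set k := y * w * y⁻¹ * w⁻¹ with hk
  have hkT0 : k ∈ T0 := by
    rw [hk, mul_assoc y, mul_assoc y]
    exact mul_mem hy ((mem_normalizer_iff.1 (hT0inv hw) y⁻¹).1 (inv_mem hy))
  set z := c * k * c⁻¹ with hz
  have hzT : z ∈ T := hce ▸ ⟨k, hT0T' hkT0, rfl⟩
  have hzt : z ∈ core t := core_conj_mem hct (hT0.1 hkT0).1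
  -- `T ∩ O(C(t))` is invariant under a cycle of the four group
  have htri : ∀ g ∈ normalizer (T : Set G), ∀ e ∈ T, e ∈ core t → g * e * g⁻¹ ∈ core t := by
    intro g hg e he het
    obtain ⟨m, hm, hme⟩ := hctrl T hT.isPGroup hTN g hg
    have h1 : e ∈ coreH N := hN.core_inf_le hG.ih hNt hG.ns_mem het (hTN he)
    have h2 : g * e * g⁻¹ ∈ coreH N := hme e he ▸ coreH_conj hm h1
    exact coreH_inf_le hs ht2 (hG.hns t ht2) hN.cov h2
      (PB_commute (hT.1 ((mem_normalizer_iff.1 hg e).1 he))).1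
  obtain ⟨τ, hτ, hcyc⟩ := hasCycle hs hG.no_two S hG.ns_mem htS hsS ht1 hs1 hts
  have hτfix : ∀ u, u = t ∨ u = s ∨ u = t * s → τ * u * τ⁻¹ = t ∨ τ * u * τ⁻¹ = s ∨ τ * u * τ⁻¹ = t * s := by
    rintro u (rfl | rfl | rfl) <;> rcases hcyc with ⟨h1, h2, h3⟩ | ⟨h1, h2, h3⟩ <;> simp [h1, h2, h3]
  have hτC : τ ∈ normalizer (C : Set G) := by
    have hfw : C.map (MulAut.conj τ).toMonoidHom ≤ C := by
      rintro _ ⟨d, hd, rfl⟩
      obtain ⟨hdt, hds⟩ := mem_cent_pair.1 hd
      have him : ∀ u, Commute d u → Commute (τ * d * τ⁻¹) (τ * u * τ⁻¹) := fun u hu => by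
        simpa using hu.map (MulAut.conj τ).toMonoidHom
      simp only [MulEquiv.coe_toMonoidHom, MulAut.conj_apply]
      rcases hcyc with ⟨h1, h2, h3⟩ | ⟨h1, h2, h3⟩
      · exact mem_cent_pair.2 ⟨h3 ▸ him _ (hdt.mul_right hds), h1 ▸ him _ hdt⟩
      · exact mem_cent_pair.2 ⟨h3 ▸ him _ hds, h2 ▸ him _ (hdt.mul_right hds)⟩
    rw [← CfsgLib.Coprime.conjBy_eq_self_iff]
    exact eq_of_le_of_card_ge hfw (by rw [card_map_of_injective (MulAut.conj τ).injective])
  have hτK : τ ∈ normalizer (PB t s : Set G) := normalizer_le_coreH C hτC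
  have h2inv : (S : Subgroup G) ≤ normalizer (CfsgLib.Coprime.conjBy τ T : Set G) := by
    intro u hu
    have hu' := mem_norm_conj (inv_mem hτ) hu
    rw [inv_inv] at hu'
    rw [← CfsgLib.Coprime.conjBy_eq_self_iff, CfsgLib.Coprime.conjBy_conjBy,
      show u * τ = τ * (τ⁻¹ * u * τ) by group, ← CfsgLib.Coprime.conjBy_conjBy,
      CfsgLib.Coprime.conjBy_eq_self_iff.2 (hTinv hu')]
  obtain ⟨c1, hc1, hc1e⟩ := CfsgLib.Coprime.invariant_sylow_conj hSK (coprime_sylow hs S hKodd)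
    (Or.inr hKsolv) (hT.conjBy hτK) hT h2inv hTinv
  set g := c1 * τ with hg
  have hgN : g ∈ normalizer (T : Set G) := by
    rw [← CfsgLib.Coprime.conjBy_eq_self_iff, hg, ← CfsgLib.Coprime.conjBy_conjBy]
    exact hc1e
  have hgu : ∀ u ∈ (S : Subgroup G), g * u * g⁻¹ = τ * u * τ⁻¹ := fun u hu => by
    have h1 : c1 * (τ * u * τ⁻¹) * c1⁻¹ = τ * u * τ⁻¹ := by
      rw [← mem_centralizer_iff.1 hc1.2 _ (mem_norm_conj hτ hu), mul_inv_cancel_right]
    rw [hg, show c1 * τ * u * (c1 * τ)⁻¹ = c1 * (τ * u * τ⁻¹) * c1⁻¹ by group, h1]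
  -- so it lies in the cores along the cycle
  have hz1 : z ∈ core (g * t * g⁻¹) := by
    have h1 := htri g⁻¹ (inv_mem hgN) z hzT hzt
    rw [inv_inv] at h1
    have h2 := conj_core (g := g) h1
    rwa [show g * (g⁻¹ * z * g) * g⁻¹ = z by group] at h2
  have hz2 : z ∈ core (g * (g * t * g⁻¹) * g⁻¹) := by
    have hzT' : g⁻¹ * z * g ∈ T := by
      have := (mem_normalizer_iff.1 (inv_mem hgN) z).1 hzT
      rwa [inv_inv] at this
    have h1 := htri g⁻¹ (inv_mem hgN) z hzT hzt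
    rw [inv_inv] at h1
    have h2 := htri g⁻¹ (inv_mem hgN) _ hzT' h1
    rw [inv_inv] at h2
    have h3 := conj_core (g := g) (conj_core (g := g) h2)
    rwa [show g * (g * (g⁻¹ * (g⁻¹ * z * g) * g) * g⁻¹) * g⁻¹ = z by group] at h3
  have hzs : z ∈ core s := by
    rw [hgu t htS] at hz1 hz2
    rcases hcyc with ⟨h1, -, -⟩ | ⟨h1, h2, -⟩
    · rwa [h1] at hz1
    · rw [h1, hgu _ (mul_mem htS hsS), h2] at hz2
      exact hz2
  have := core_conj_mem hcs.inv_left hzs
  rw [hz, inv_inv, show c⁻¹ * (c * k * c⁻¹) * c = k by group] at this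
  exact hyw this

/-- Balance. -/
theorem balance (hG : Ctx G) (S : Sylow 2 G) {t s : G} (htS : t ∈ (S : Subgroup G))
    (hsS : s ∈ (S : Subgroup G)) (ht1 : t ≠ 1) (hs1 : s ≠ 1) {x : G} (hx : x ∈ core t) (hxs : Commute x s) :
    x ∈ core s := by
  rcases eq_or_ne t s with rfl | hts
  · exact hx
  have hs := hG.hs
  have ht2 := invol_of_mem hs S htS ht1
  have hs2 := invol_of_mem hs S hsS hs1
  obtain ⟨P⟩ := exists_top_data hs hs2 (hG.hns s hs2)
  -- the part inside `M`
  have hin : ∀ y ∈ core t, ∀ (hys : Commute y s), tp s y hys ∈ P.M → tp s y hys = 1 := by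
    intro y hy hys hyM
    by_contra hne
    set d := orderOf (tp s y hys) with hd
    have hd1 : d ≠ 1 := fun e => hne (orderOf_eq_one_iff.1 e)
    obtain ⟨r, hr, hrd⟩ := Nat.exists_prime_and_dvd hd1
    haveI := Fact.mk hr
    have hyo := odd_orderOf_core hy
    have hdm : d ∣ orderOf y := by
      rw [hd]
      refine orderOf_dvd_of_pow_eq_one ?_
      rw [← tp_pow hys]
      exact (tp_congr _ (Commute.one_left s) (pow_orderOf_eq_one y)).trans (map_one (pr s))
    have hr2 : r ≠ 2 := fun e =>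
      Nat.not_even_iff_odd.2 hyo (even_iff_two_dvd.2 (e ▸ hrd.trans hdm))
    have hm0 := (orderOf_pos y).ne'
    set e := orderOf y / r ^ (orderOf y).factorization r with he
    have hre : ¬ r ∣ e := Nat.not_dvd_ordCompl hr hm0
    have hpow : (y ^ e) ^ r ^ (orderOf y).factorization r = 1 := by
      rw [← pow_mul, he, Nat.div_mul_cancel (Nat.ordProj_dvd _ r), pow_orderOf_eq_one]
    have hcore := balance_prime hG S htS hsS ht1 hs1 hts P hr2 (pow_mem hy e) (hys.pow_left e) ⟨_, hpow⟩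
      (by rw [tp_pow hys]; exact pow_mem hyM e)
    have h1 := tp_core hcore
    rw [tp_congr _ (hys.pow_left e) rfl, tp_pow hys] at h1
    exact hre (hrd.trans (orderOf_dvd_of_pow_eq_one h1))
  have htsc : Commute t s := comm_eight hs S htS hsS
  refine mem_core_of_tp hs2 hxs (odd_orderOf_core hx) ?_
  refine P.eq_one_of_cent_M (fun R => top_sylow hs hs2 R) (tp_invol hs2 ht2 htsc hts)
    (tp_odd hxs (odd_orderOf_core hx)) fun m hm hma => ?_
  obtain ⟨c, hc, rfl⟩ := exists_tp_eq m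
  obtain ⟨k, hk, hkc⟩ := exists_commute_lift hs hs2 (c := ⟨c, mem_centralizer_singleton_iff.2 hc.eq⟩)
    (d := ⟨t, mem_centralizer_singleton_iff.2 htsc.eq⟩) (Subtype.ext ((hs S).2 t htS)) hma
  set c' := (k : G) * c with hc'
  have hkcore : (k : G) ∈ core s := mem_map_of_mem _ hk
  have hc's : Commute c' s := (core_commute hkcore).mul_left hc
  have hc't : Commute c' t := congrArg Subtype.val hkc.eq
  have he : tp s c' hc's = tp s c hc := by
    rw [tp_congr hc's ((core_commute hkcore).mul_left hc) hc', tp_mul (core_commute hkcore) hc, tp_core hkcore,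
      one_mul]
  have hy : c' * x * c'⁻¹ * x⁻¹ ∈ core t := mul_mem (core_conj_mem hc't hx) (inv_mem hx)
  have hys : Commute (c' * x * c'⁻¹ * x⁻¹) s :=
    ((hc's.mul_left hxs).mul_left hc's.inv_left).mul_left hxs.inv_left
  have h1 : tp s (c' * x * c'⁻¹ * x⁻¹) hys =
      tp s c hc * tp s x hxs * (tp s c hc)⁻¹ * (tp s x hxs)⁻¹ := by
    rw [tp_congr hys (((hc's.mul_left hxs).mul_left hc's.inv_left).mul_left hxs.inv_left) rfl,
      tp_mul ((hc's.mul_left hxs).mul_left hc's.inv_left) hxs.inv_left, tp_conj hc's hxs, tp_inv hxs, he]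
  have h2 := hin _ hy hys (by
    rw [h1, mul_assoc (tp s c hc), mul_assoc (tp s c hc)]
    exact mul_mem hm (P.normal.conj_mem _ (inv_mem hm) _))
  rw [h1, mul_inv_eq_one, mul_inv_eq_iff_eq_mul] at h2
  exact h2.symm

end CfsgLib.Walter.Core
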