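import Cfsg.Agent.Lib.Walter.Core.Section
import Cfsg.Agent.Lib.Coprime.Action

/-!
# Invariant `r`-subgroups with covering normalizers; the centralizer of a four group
-/

set_option autoImplicit false
set_option linter.style.haveILetI false
set_option linter.unusedSectionVars false
set_option maxHeartbeats 1000000

open Subgroup
open CfsgLib.Coprime (IsSylowIn)

namespace CfsgLib.Walter.Core

universe u

attribute [local instance] oddCore_normal

/-- The standing situation of the proof. -/
structure Ctx (G : Type u) [Group G] [Finite G] : Prop where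
  eight : Eight G
  ih : CoreIH G
  hns : ∀ v : G, orderOf v = 2 → ¬ Group.IsSolvable ↥(centralizer ({v} : Set G))

variable {G : Type u} [Group G] [Finite G]

theorem Ctx.hs (h : Ctx G) : SylowEight G := h.eight.sylow

theorem Ctx.no_two (h : Ctx G) : ∀ M : Subgroup G, M.Normal → M.index ≠ 2 :=
  no_index_two h.eight.simple h.eight.noncomm

theorem Ctx.ns_mem (h : Ctx G) {S : Sylow 2 G} : ∀ v ∈ (S : Subgroup G), v ≠ 1 →
    ¬ Group.IsSolvable ↥(centralizer ({v} : Set G)) :=
  fun _ hv hv1 => h.hns _ (invol_of_mem h.hs S hv hv1)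

/-- A proper nontrivial subgroup has a proper normalizer. -/
theorem Ctx.normalizer_ne_top (h : Ctx G) {R : Subgroup G} (hR : R ≠ ⊥) (hRt : R ≠ ⊤) :
    normalizer (R : Set G) ≠ ⊤ := fun e => by
  rcases h.eight.simple.eq_bot_or_eq_top_of_normal R (normalizer_eq_top_iff.1 e) with h1 | h1
  exacts [hR h1, hRt h1]

theorem Ctx.odd_ne_top (h : Ctx G) {R : Subgroup G} (hR : Odd (Nat.card R)) : R ≠ ⊤ := fun e => by
  obtain ⟨S⟩ : Nonempty (Sylow 2 G) := inferInstance
  have h1 : Nat.card (S : Subgroup G) ∣ Nat.card R := card_dvd_of_le (e ▸ le_top)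
  rw [(h.hs S).1] at h1
  exact Nat.not_even_iff_odd.2 hR (even_iff_two_dvd.2 ((show 2 ∣ 8 by norm_num).trans h1))

theorem odd_card_of_pGroup' {r : ℕ} [Fact r.Prime] (hr : r ≠ 2) {A : Subgroup G} (h : IsPGroup r A) :
    Odd (Nat.card A) := by
  obtain ⟨k, hk⟩ := h.exists_card_eq
  rw [hk]
  exact ((Fact.out : r.Prime).odd_of_ne_two hr).pow

theorem coprime_sylow (hs : SylowEight G) (S : Sylow 2 G) {K : Subgroup G} (hK : Odd (Nat.card K)) :
    (Nat.card (S : Subgroup G)).Coprime (Nat.card K) := by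
  rw [(hs S).1, show (8 : ℕ) = 2 ^ 3 by norm_num]
  exact Nat.Coprime.pow_left 3 (Nat.coprime_two_left.2 hK)

theorem le_normalizer_coreH (H : Subgroup G) : H ≤ normalizer (coreH H : Set G) := fun g hg =>
  mem_normalizer_iff.2 fun x => ⟨fun hx => coreH_conj hg hx, fun hx => by
    have := coreH_conj (inv_mem hg) hx
    rwa [inv_inv, show g⁻¹ * (g * x * g⁻¹) * g = x by group] at this⟩

theorem cent_le_normalizer_core (t : G) : centralizer ({t} : Set G) ≤ normalizer (core t : Set G) :=
  le_normalizer_coreH _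

/-- The normalizer of a Sylow subgroup of the core covers the centralizer. -/
theorem covers_normalizer {t : G} {r : ℕ} [Fact r.Prime] {R : Subgroup G} (hR : IsSylowIn r R (core t)) :
    Covers (normalizer (R : Set G)) t := by
  intro c hc
  obtain ⟨o, ho, e⟩ := (hR.conjBy (cent_le_normalizer_core t
    (mem_centralizer_singleton_iff.2 hc.eq))).exists_conj hR
  refine ⟨o, ho, ?_⟩
  rw [← CfsgLib.Coprime.conjBy_eq_self_iff, ← CfsgLib.Coprime.conjBy_conjBy]
  exact e

/-- The invariant `r`-subgroups above `R0` with covering normalizers. -/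
structure Cls (r : ℕ) (S : Sylow 2 G) (t : G) (R0 R : Subgroup G) : Prop where
  pgroup : IsPGroup r R
  inv : (S : Subgroup G) ≤ normalizer (R : Set G)
  above : R0 ≤ R
  cov : Covers (normalizer (R : Set G)) t

/-- A member with the normalizer of largest `r`-part is the Sylow subgroup of the core of its normalizer. -/
theorem exists_top_class (hG : Ctx G) {r : ℕ} [Fact r.Prime] (hr : r ≠ 2) (S : Sylow 2 G) {t : G}
    (htS : t ∈ (S : Subgroup G)) (ht : orderOf t = 2) {R0 : Subgroup G} (hR0 : IsSylowIn r R0 (core t))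
    (hinv : (S : Subgroup G) ≤ normalizer (R0 : Set G)) (hne : R0 ≠ ⊥) :
    ∃ R : Subgroup G, Cls r S t R0 R ∧ Sect S t (normalizer (R : Set G)) ∧ normalizer (R : Set G) ≠ ⊤ ∧
      IsSylowIn r R (coreH (normalizer (R : Set G))) ∧
      ∀ R' : Subgroup G, Cls r S t R0 R' →
        (Nat.card (normalizer (R' : Set G))).factorization r ≤ (Nat.card (normalizer (R : Set G))).factorization r := by
  classical
  have hfin : {R : Subgroup G | Cls r S t R0 R}.Finite := Set.toFinite _
  set f : Subgroup G → ℕ := fun R =>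
    (Nat.card (normalizer (R : Set G))).factorization r * (Nat.card G + 1) + Nat.card R with hf
  obtain ⟨R, hRc, hmax⟩ := Finset.exists_max_image hfin.toFinset f
    ⟨R0, hfin.mem_toFinset.2 ⟨hR0.isPGroup, hinv, le_rfl, covers_normalizer hR0⟩⟩
  rw [Set.Finite.mem_toFinset] at hRc
  have hRc' : Cls r S t R0 R := hRc
  replace hmax : ∀ R', Cls r S t R0 R' → f R' ≤ f R := fun R' h => hmax R' (hfin.mem_toFinset.2 h)
  have hle1 : ∀ R', Cls r S t R0 R' →
      (Nat.card (normalizer (R' : Set G))).factorization r ≤ (Nat.card (normalizer (R : Set G))).factorization r := by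
    intro R' h
    by_contra hlt
    have h1 := hmax R' h
    have h2 := Subgroup.card_le_card_group R
    have h4 : ((Nat.card (normalizer (R : Set G))).factorization r + 1) * (Nat.card G + 1) ≤
        (Nat.card (normalizer (R' : Set G))).factorization r * (Nat.card G + 1) :=
      Nat.mul_le_mul_right _ (by omega)
    rw [add_mul, one_mul] at h4
    simp only [hf] at h1
    omega
  set H := normalizer (R : Set G) with hH
  have hSect : Sect S t H := ⟨hG.hs, htS, ht, hRc'.inv, hRc'.cov⟩
  have hRbot : R ≠ ⊥ := fun e => hne (le_bot_iff.1 (e ▸ hRc'.above))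
  have hRodd := odd_card_of_pGroup' hr hRc'.pgroup
  have hRK : R ≤ coreH H := le_coreH le_normalizer hRodd fun g hg u hu => (mem_normalizer_iff.1 hg u).1 hu
  have hSK : (S : Subgroup G) ≤ normalizer (coreH H : Set G) := hSect.le.trans (le_normalizer_coreH H)
  obtain ⟨R', hR', hRR', hR'inv⟩ := CfsgLib.Coprime.le_invariant_sylow hSK
    (coprime_sylow hG.hs S (odd_coreH H)) (Or.inr (CfsgLib.FT.isSolvable_of_odd _ (odd_coreH H))) hRK
    hRc'.pgroup hRc'.inv
  have htz : zpowers t ≤ (S : Subgroup G) := zpowers_le.2 htS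
  have hcl : Cls r S t R0 R' := by
    refine ⟨hR'.isPGroup, hR'inv, hRc'.above.trans hRR', fun c hc => ?_⟩
    obtain ⟨o, ho, hoc⟩ := hRc'.cov c hc
    have hct : Commute (o * c) t := (core_commute ho).mul_left hc
    have h1 : IsSylowIn r (CfsgLib.Coprime.conjBy (o * c) R') (coreH H) :=
      hR'.conjBy (le_normalizer_coreH H hoc)
    have h2 : zpowers t ≤ normalizer (CfsgLib.Coprime.conjBy (o * c) R' : Set G) := by
      rw [zpowers_le]
      refine (CfsgLib.Coprime.conjBy_eq_self_iff).1 ?_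
      rw [CfsgLib.Coprime.conjBy_conjBy, ← hct.eq, ← CfsgLib.Coprime.conjBy_conjBy,
        CfsgLib.Coprime.conjBy_eq_self_iff.2 (hR'inv htS)]
    obtain ⟨k, hk, e⟩ := CfsgLib.Coprime.invariant_sylow_conj (htz.trans hSK)
      ((coprime_sylow hG.hs S (odd_coreH H)).coprime_dvd_left (card_dvd_of_le htz))
      (Or.inr (CfsgLib.FT.isSolvable_of_odd _ (odd_coreH H))) h1 hR' h2 (htz.trans hR'inv)
    have hk' : k ∈ core t := coreH_inf_le hG.hs ht (hG.hns t ht) hRc'.cov hk.1
      (mem_centralizer_iff.1 hk.2 t (mem_zpowers t)).symm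
    refine ⟨k * o, mul_mem hk' ho, ?_⟩
    rw [← CfsgLib.Coprime.conjBy_eq_self_iff, mul_assoc, ← CfsgLib.Coprime.conjBy_conjBy]
    exact e
  -- a Sylow subgroup of `H` normalizes `R'`
  have hR'H : R' ≤ H := hR'.1.trans (coreH_le H)
  obtain ⟨J, hJ⟩ := (hR'.isPGroup.of_equiv (subgroupOfEquivOfLe hR'H).symm).exists_le_sylow
  set J' := (J : Subgroup H).map H.subtype with hJ'
  have hR'J : R' ≤ J' := (map_subgroupOf_eq_of_le hR'H).ge.trans (map_mono hJ)
  have heq : J' ⊓ coreH H = R' := by
    refine (eq_of_le_of_card_ge (le_inf hR'J hR'.1) ?_).symm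
    obtain ⟨a, ha⟩ := ((J.2.map H.subtype).to_le (inf_le_left : J' ⊓ coreH H ≤ J')).exists_card_eq
    rw [hR'.2, ha]
    exact Nat.pow_le_pow_right (Fact.out : r.Prime).pos
      (((Fact.out : r.Prime).pow_dvd_iff_le_factorization Nat.card_pos.ne').1 (ha ▸ card_dvd_of_le inf_le_right))
  have hJN : J' ≤ normalizer (R' : Set G) := by
    rw [← heq]
    exact CfsgLib.Coprime.inf_le_normalizer le_normalizer ((map_subtype_le _).trans (le_normalizer_coreH H))
  have hv : (Nat.card H).factorization r ≤ (Nat.card (normalizer (R' : Set G))).factorization r := by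
    refine ((Fact.out : r.Prime).pow_dvd_iff_le_factorization Nat.card_pos.ne').1 ?_
    rw [← J.card_eq_multiplicity, ← card_map_of_injective H.subtype_injective]
    exact card_dvd_of_le hJN
  have hRR : R' = R := by
    refine (eq_of_le_of_card_ge hRR' ?_).symm
    have h1 := hmax R' hcl
    have h2 := hle1 R' hcl
    simp only [hf] at h1
    have h3 : (Nat.card (normalizer (R' : Set G))).factorization r = (Nat.card H).factorization r :=
      le_antisymm h2 hv
    rw [h3, ← hH] at h1
    omega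
  exact ⟨R, hRc', hSect, hG.normalizer_ne_top hRbot (hG.odd_ne_top hRodd), by rwa [hRR] at hR', hle1⟩

/-- The odd core of the centralizer of two involutions. -/
def PB (t v : G) : Subgroup G := coreH (centralizer ({t, v} : Set G))

theorem mem_cent_pair {t v x : G} : x ∈ centralizer ({t, v} : Set G) ↔ Commute x t ∧ Commute x v := by
  simp only [mem_centralizer_iff, Set.mem_insert_iff, Set.mem_singleton_iff, forall_eq_or_imp, forall_eq]
  exact ⟨fun h => ⟨h.1.symm, h.2.symm⟩, fun h => ⟨h.1.symm, h.2.symm⟩⟩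

theorem PB_commute {t v x : G} (hx : x ∈ PB t v) : Commute x t ∧ Commute x v :=
  mem_cent_pair.1 (coreH_le _ hx)

/-- Elements of odd order of the centralizer of a four group lie in its odd core. -/
theorem mem_PB (hs : SylowEight G) (S : Sylow 2 G) {t v x : G} (htS : t ∈ (S : Subgroup G))
    (hvS : v ∈ (S : Subgroup G)) (ht1 : t ≠ 1) (hv1 : v ≠ 1) (htv : t ≠ v) (hxt : Commute x t)
    (hxv : Commute x v) (hx : Odd (orderOf x)) : x ∈ PB t v := by
  haveI : Fact (Nat.Prime 2) := ⟨Nat.prime_two⟩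
  set C := centralizer ({t, v} : Set G) with hC
  have hle : (S : Subgroup G) ≤ C := fun s hs' =>
    mem_cent_pair.2 ⟨comm_eight hs S hs' htS, comm_eight hs S hs' hvS⟩
  obtain ⟨hB, h4, hBl⟩ := pair_le hs S htS hvS ht1 hv1 htv
  have hi : ((closure ({t, v} : Set G)).subgroupOf (S : Subgroup G)).index = 2 := by
    have := ((closure ({t, v} : Set G)).subgroupOf (S : Subgroup G)).card_mul_index
    rw [Nat.card_congr (subgroupOfEquivOfLe hB).toEquiv, h4, (hs S).1] at this
    omega
  have hNC : normalizer (((S.subtype hle : Sylow 2 C) : Subgroup C) : Set C) ≤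
      centralizer (((S.subtype hle : Sylow 2 C) : Subgroup C) : Set C) := by
    intro n hn
    have hnG : (n : G) ∈ normalizer ((S : Subgroup G) : Set G) := by
      refine mem_normalizer_iff.2 fun y => ⟨fun hy => ?_, fun hy => ?_⟩
      · have h1 := (mem_normalizer_iff.1 hn ⟨y, hle hy⟩).1 (by rw [Sylow.coe_subtype, mem_subgroupOf]; exact hy)
        rw [Sylow.coe_subtype, mem_subgroupOf] at h1
        exact h1
      · have hyC : y ∈ C := by
          have := mul_mem (mul_mem (inv_mem n.2) (hle hy)) n.2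
          rwa [show (n : G)⁻¹ * ((n : G) * y * (n : G)⁻¹) * n = y by group] at this
        have h1 := (mem_normalizer_iff.1 hn ⟨y, hyC⟩).2 (by rw [Sylow.coe_subtype, mem_subgroupOf]; exact hy)
        rw [Sylow.coe_subtype, mem_subgroupOf] at h1
        exact h1
    obtain ⟨hnt, hnv⟩ := mem_cent_pair.1 n.2
    have hfixB : ∀ c ∈ closure ({t, v} : Set G), (n : G) * c * (n : G)⁻¹ = c := fun c hc => by
      rcases hBl c hc with e | e | e | e <;> rw [e]
      · group
      · rw [hnt.eq, mul_inv_cancel_right]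
      · rw [hnv.eq, mul_inv_cancel_right]
      · rw [(hnt.mul_right hnv).eq, mul_inv_cancel_right]
    refine mem_centralizer_iff.2 fun y hy => Subtype.ext ?_
    rw [SetLike.mem_coe, Sylow.coe_subtype, mem_subgroupOf] at hy
    have hfix : (n : G) * y * (n : G)⁻¹ = y := by
      by_cases hyB : (y : G) ∈ closure ({t, v} : Set G)
      · exact hfixB _ hyB
      set y' := (n : G) * y * (n : G)⁻¹ with hy'
      have hy'S : y' ∈ (S : Subgroup G) := mem_norm_conj hnG hy
      have hy'B : y' ∉ closure ({t, v} : Set G) := fun h => hyB (by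
        have e1 : (n : G) * y' * (n : G)⁻¹ = y' := hfixB y' h
        have e2 : y' = (y : G) := (MulAut.conj (n : G)).injective (e1.trans hy')
        exact e2 ▸ h)
      have hc : y * y' ∈ closure ({t, v} : Set G) :=
        ((mul_mem_iff_of_index_two hi (a := (⟨(y : G), hy⟩ : (S : Subgroup G))) (b := ⟨y', hy'S⟩)).2
          (iff_of_false hyB hy'B) :)
      refine fix_of_sq hs S hnG hy ?_
      calc (n : G) * y' * (n : G)⁻¹ = (n : G) * ((y : G) * (y * y')) * (n : G)⁻¹ := by
            rw [← mul_assoc (y : G) y, (hs S).2 _ hy, one_mul]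
        _ = y' * (y * y') := by
            rw [show (n : G) * ((y : G) * (y * y')) * (n : G)⁻¹ =
              ((n : G) * y * (n : G)⁻¹) * ((n : G) * (y * y') * (n : G)⁻¹) by group, hfixB _ hc]
        _ = (y : G) := by
            rw [comm_eight hs S hy hy'S, ← mul_assoc, (hs S).2 _ hy'S, one_mul]
    rw [mul_inv_eq_iff_eq_mul] at hfix
    exact hfix.symm
  obtain ⟨P, N, hN, hc⟩ := CfsgLib.Fusion.hasNormalPComplement_of_normalizer_le_centralizer _ hNC
  have hNodd : Odd (Nat.card N) := by
    rw [← hc.index_eq_card, ← Nat.not_even_iff_odd, even_iff_two_dvd]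
    exact P.not_dvd_index
  haveI := hN
  have hxN : (⟨x, mem_cent_pair.2 ⟨hxt, hxv⟩⟩ : C) ∈ N := by
    refine (QuotientGroup.eq_one_iff _).1 (orderOf_eq_one_iff.1 ?_)
    have h1 := orderOf_map_dvd (QuotientGroup.mk' N) (⟨x, mem_cent_pair.2 ⟨hxt, hxv⟩⟩ : C)
    rw [← Subgroup.orderOf_coe] at h1
    have h2 := orderOf_dvd_natCard (QuotientGroup.mk' N (⟨x, mem_cent_pair.2 ⟨hxt, hxv⟩⟩ : C))
    obtain ⟨k, hk⟩ := P.2.exists_card_eq
    rw [← index_eq_card, hc.symm.index_eq_card, hk] at h2
    exact Nat.eq_one_of_dvd_coprimes (Nat.Coprime.pow_left k (Nat.coprime_two_left.2 hx)) h2 h1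
  exact (mem_coreH (x := (⟨x, mem_cent_pair.2 ⟨hxt, hxv⟩⟩ : C))).2
    (CfsgLib.Coprime.le_pPrimeCore (Nat.coprime_two_right.2 hNodd) hxN)

/-- A covering subgroup above `R0` contains a Sylow `r`-subgroup of the core of a four group centralizer. -/
theorem exists_sylow_PB (hG : Ctx G) {r : ℕ} [Fact r.Prime] (S : Sylow 2 G) {t v : G}
    (htS : t ∈ (S : Subgroup G)) (hvS : v ∈ (S : Subgroup G)) (ht1 : t ≠ 1) (hv1 : v ≠ 1) (htv : t ≠ v)
    {H : Subgroup G} (hH : Sect S t H) {R0 : Subgroup G} (hR0 : IsSylowIn r R0 (core t))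
    (hinv : (S : Subgroup G) ≤ normalizer (R0 : Set G)) (hR0H : R0 ≤ H) :
    ∃ T : Subgroup G, IsSylowIn r T (PB t v) ∧ T ≤ H ∧ (S : Subgroup G) ≤ normalizer (T : Set G) := by
  have hs := hG.hs
  set C := centralizer ({t, v} : Set G) with hC
  set K := PB t v with hK
  set O : Subgroup G := core t ⊓ centralizer ({v} : Set G) with hO
  set L : Subgroup G := K ⊓ H with hL
  have hSC : (S : Subgroup G) ≤ C := fun s hs' =>
    mem_cent_pair.2 ⟨comm_eight hs S hs' htS, comm_eight hs S hs' hvS⟩
  have hCt : C ≤ centralizer ({t} : Set G) := fun c hc =>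
    mem_centralizer_singleton_iff.2 (mem_cent_pair.1 hc).1.eq
  have hCv : C ≤ centralizer ({v} : Set G) := fun c hc =>
    mem_centralizer_singleton_iff.2 (mem_cent_pair.1 hc).2.eq
  have hOodd : Odd (Nat.card O) := (odd_core t).of_dvd_nat (card_dvd_of_le inf_le_left)
  have hCO : C ≤ normalizer (O : Set G) :=
    CfsgLib.Coprime.inf_le_normalizer (hCt.trans (cent_le_normalizer_core t)) (hCv.trans le_normalizer)
  have hOK : O ≤ K := fun o ho =>
    mem_PB hs S htS hvS ht1 hv1 htv (core_commute ho.1) (mem_centralizer_singleton_iff.1 ho.2)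
      (hOodd.of_dvd_nat (Subgroup.orderOf_dvd_natCard O ho))
  have hKC : K ≤ C := coreH_le _
  have hSK : (S : Subgroup G) ≤ normalizer (K : Set G) := hSC.trans (le_normalizer_coreH C)
  have hKodd : Odd (Nat.card K) := odd_coreH C
  have hLodd : Odd (Nat.card L) := hKodd.of_dvd_nat (card_dvd_of_le inf_le_left)
  have hSL : (S : Subgroup G) ≤ normalizer (L : Set G) :=
    CfsgLib.Coprime.inf_le_normalizer hSK (hH.le.trans le_normalizer)
  obtain ⟨T, hT, hTinv⟩ := CfsgLib.Coprime.exists_invariant_sylow hSL (coprime_sylow hs S hLodd)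
    (Or.inr (CfsgLib.FT.isSolvable_of_odd _ hLodd)) r
  refine ⟨T, ⟨hT.1.trans inf_le_left, ?_⟩, hT.1.trans inf_le_right, hTinv⟩
  rw [hT.2]
  refine congrArg (r ^ ·) (le_antisymm
    (((Fact.out : r.Prime).pow_dvd_iff_le_factorization Nat.card_pos.ne').1
      ((Nat.ordProj_dvd _ r).trans (card_dvd_of_le inf_le_left))) ?_)
  -- `L` meets every coset of `O` in `K`
  haveI hON : (O.subgroupOf K).Normal := (normal_subgroupOf_iff_le_normalizer hOK).2 (hKC.trans hCO)
  set q := QuotientGroup.mk' (O.subgroupOf K) with hq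
  have hsurj : Function.Surjective (q.comp (Subgroup.inclusion (inf_le_left : L ≤ K))) := by
    intro x
    obtain ⟨k, rfl⟩ := QuotientGroup.mk'_surjective (O.subgroupOf K) x
    obtain ⟨hkt, hkv⟩ := PB_commute k.2
    obtain ⟨o, ho, hok⟩ := hH.cov k hkt
    set C0 : Subgroup G := H ⊓ centralizer ({t} : Set G) with hC0
    have hokC : o * k ∈ C0 := ⟨hok, mem_centralizer_singleton_iff.2 ((core_commute ho).mul_left hkt).eq⟩
    have hvC : v ∈ C0 := ⟨hH.le hvS, mem_centralizer_singleton_iff.2 (comm_eight hs S hvS htS)⟩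
    haveI hn : ((core t).subgroupOf C0).Normal := ⟨fun y hy c => by
      rw [mem_subgroupOf] at hy ⊢
      exact core_conj_mem (mem_centralizer_singleton_iff.1 c.2.2) hy⟩
    have hsq : (⟨v, hvC⟩ : C0) * ⟨v, hvC⟩ = 1 := Subtype.ext ((hs S).2 v hvS)
    obtain ⟨k', hk', hkc⟩ := CfsgLib.GW.exists_fix_lift (K := (core t).subgroupOf C0)
      ((odd_core t).of_dvd_nat (card_comap_dvd_of_injective (core t) C0.subtype (subtype_injective _)))
      (g := ⟨o * k, hokC⟩) hsq (by
        rw [mem_subgroupOf]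
        show o * (k : G) * v * (o * (k : G))⁻¹ * v ∈ core t
        rw [show o * (k : G) * v * (o * (k : G))⁻¹ * v = o * ((k : G) * v * (k : G)⁻¹) * o⁻¹ * v by group,
          hkv.eq, mul_inv_cancel_right, mul_assoc, mul_assoc]
        refine mul_mem ho ?_
        have h1 := core_conj_mem (comm_eight hs S hvS htS) (inv_mem ho)
        rw [CfsgLib.Invol.invol_inv (invol_of_mem hs S hvS hv1)] at h1
        simpa [mul_assoc] using h1)
    have hkc' : Commute ((k' : G) * (o * (k : G))) v := congrArg Subtype.val hkc.eq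
    have hk'o : (k' : G) * o ∈ O := ⟨mul_mem (mem_subgroupOf.1 hk') ho, mem_centralizer_singleton_iff.2 (by
      have := hkc'.mul_left hkv.inv_left
      rwa [mul_assoc, mul_inv_cancel_right] at this : Commute ((k' : G) * o) v).eq⟩
    refine ⟨⟨(k' : G) * o * k, mul_mem (hOK hk'o) k.2, ?_⟩, ?_⟩
    · rw [mul_assoc]
      exact mul_mem k'.2.1 hok
    · show q ⟨(k' : G) * o * k, _⟩ = q k
      have e : (⟨(k' : G) * o * k, mul_mem (hOK hk'o) k.2⟩ : K) = ⟨(k' : G) * o, hOK hk'o⟩ * k := rfl
      rw [e, map_mul, show q ⟨(k' : G) * o, hOK hk'o⟩ = 1 from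
        (QuotientGroup.eq_one_iff _).2 (mem_subgroupOf.2 hk'o), one_mul]
  -- a Sylow subgroup of `O` lies in `H`
  have hSO : (S : Subgroup G) ≤ normalizer (O : Set G) := hSC.trans hCO
  obtain ⟨Q, hQ, hQinv⟩ := CfsgLib.Coprime.exists_invariant_sylow hSO (coprime_sylow hs S hOodd)
    (Or.inr (CfsgLib.FT.isSolvable_of_odd _ hOodd)) r
  have hSc : (S : Subgroup G) ≤ normalizer (core t : Set G) :=
    (le_centralizer_of_mem hs S htS).trans (cent_le_normalizer_core t)
  have hcsolv := CfsgLib.FT.isSolvable_of_odd _ (odd_core t)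
  obtain ⟨R', hR', hQR', hR'inv⟩ := CfsgLib.Coprime.le_invariant_sylow hSc (coprime_sylow hs S (odd_core t))
    (Or.inr hcsolv) (hQ.1.trans inf_le_left) hQ.isPGroup hQinv
  obtain ⟨c, hc, hce⟩ := CfsgLib.Coprime.invariant_sylow_conj hSc (coprime_sylow hs S (odd_core t))
    (Or.inr hcsolv) hR' hR0 hR'inv hinv
  have hcO : c ∈ O := ⟨hc.1, mem_centralizer_singleton_iff.2 (mem_centralizer_iff.1 hc.2 v hvS).symm⟩
  set Q' := CfsgLib.Coprime.conjBy c Q with hQ'
  have hQ'le : Q' ≤ O ⊓ L := by
    have h1 := (hQ.conjBy (le_normalizer hcO)).1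
    exact le_inf h1 (le_inf (h1.trans hOK) ((map_mono hQR').trans (hce.le.trans hR0H)))
  set φ := q.comp (Subgroup.inclusion (inf_le_left : L ≤ K)) with hφ
  have hker : r ^ (Nat.card O).factorization r ∣ Nat.card φ.ker := by
    have hle : Q'.subgroupOf L ≤ φ.ker := fun x hx =>
      (QuotientGroup.eq_one_iff _).2 (mem_subgroupOf.2 (hQ'le hx).1)
    refine dvd_trans ?_ (card_dvd_of_le hle)
    rw [Nat.card_congr (subgroupOfEquivOfLe (hQ'le.trans inf_le_right)).toEquiv,
      (hQ.conjBy (le_normalizer hcO)).2]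
  have h1 := φ.ker.card_mul_index
  rw [index_ker, MonoidHom.range_eq_top.2 hsurj, card_top] at h1
  have h2 := (O.subgroupOf K).card_mul_index
  rw [Nat.card_congr (subgroupOfEquivOfLe hOK).toEquiv, index_eq_card] at h2
  refine ((Fact.out : r.Prime).pow_dvd_iff_le_factorization Nat.card_pos.ne').1 ?_
  rw [← h2, Nat.factorization_mul Nat.card_pos.ne' Nat.card_pos.ne', Finsupp.coe_add, Pi.add_apply, pow_add, ← h1]
  exact mul_dvd_mul hker (Nat.ordProj_dvd _ r)

end CfsgLib.Walter.Core
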