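import Cfsg.Agent.Lib.Walter.Core.Section

/-!
# Moving between a covering subgroup modulo its odd core and the centralizer modulo its kernel
-/

set_option autoImplicit false
set_option linter.style.haveILetI false
set_option linter.unusedSectionVars false

open Subgroup

namespace CfsgLib.Walter.Core

universe u

attribute [local instance] oddCore_normal

variable {G : Type u} [Group G] [Finite G] {S : Sylow 2 G} {t : G} {H : Subgroup G}

/-- A lift of an element of odd order modulo an odd core has odd order. -/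
theorem odd_lift (H : Subgroup G) (y : H) (h : Odd (orderOf (QuotientGroup.mk' (Cfsg.oddCore H) y))) :
    Odd (orderOf (y : G)) := by
  set q := QuotientGroup.mk' (Cfsg.oddCore H)
  have h1 : y ^ orderOf (q y) ∈ Cfsg.oddCore H :=
    (QuotientGroup.eq_one_iff _).1 (show q (y ^ orderOf (q y)) = 1 by rw [map_pow, pow_orderOf_eq_one])
  have h2 : Odd (orderOf (y ^ orderOf (q y))) := odd_order_of_mem
    (Nat.coprime_two_right.1 (CfsgLib.Coprime.pPrimeCore_coprime Nat.prime_two)) h1
  rw [Subgroup.orderOf_coe]
  refine (h.mul h2).of_dvd_nat (orderOf_dvd_of_pow_eq_one ?_)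
  rw [pow_mul, pow_orderOf_eq_one]

/-- Elements commuting modulo the odd core commute modulo the kernel. -/
theorem tp_commute_of_quot (hs : SylowEight G) {w : G} (hw : orderOf w = 2)
    (hns : ¬ Group.IsSolvable ↥(centralizer ({w} : Set G))) (hc : Covers H w) {p z : H} (hp : Commute (p : G) w)
    (hz : Commute (z : G) w)
    (hpz : Commute (QuotientGroup.mk' (Cfsg.oddCore H) p) (QuotientGroup.mk' (Cfsg.oddCore H) z)) :
    Commute (tp w p hp) (tp w z hz) := by
  have h1 : p * z * p⁻¹ * z⁻¹ ∈ Cfsg.oddCore H :=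
    (QuotientGroup.eq_one_iff _).1 (show QuotientGroup.mk' (Cfsg.oddCore H) _ = 1 by
      simp only [map_mul, map_inv]
      rw [hpz.eq]; group)
  have h2 : (p : G) * z * (p : G)⁻¹ * (z : G)⁻¹ ∈ core w := coreH_inf_le hs hw hns hc
    (mem_coreH.2 h1 : ((p * z * p⁻¹ * z⁻¹ : H) : G) ∈ coreH H)
    (((hp.mul_left hz).mul_left hp.inv_left).mul_left hz.inv_left)
  have h3 := tp_core h2
  rw [tp_congr _ (((hp.mul_left hz).mul_left hp.inv_left).mul_left hz.inv_left) rfl,
    tp_mul ((hp.mul_left hz).mul_left hp.inv_left) hz.inv_left, tp_conj hp hz, tp_inv, mul_inv_eq_one,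
    mul_inv_eq_iff_eq_mul] at h3
  exact h3

end CfsgLib.Walter.Core
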