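import Cfsg.Agent.Lib.Walter.Core.ZJ
import Cfsg.Agent.Lib.Walter.Core.Kill
import Cfsg.Agent.S0118

/-!
# A covering subgroup controlling `r`-fusion
-/

set_option autoImplicit false
set_option linter.style.haveILetI false
set_option linter.unusedSectionVars false
set_option maxHeartbeats 1000000

open Subgroup
open CfsgLib.Coprime (IsSylowIn)

namespace CfsgLib.Walter.Core

universe u

attribute [local instance] oddCore_normal

variable {G : Type u} [Group G] [Finite G]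

/-- The `r`-part of the centralizer of `⟨t, v⟩` is moved by `S` outside the core of `C(t)`. -/
def Bad (r : ℕ) (S : Sylow 2 G) (t v : G) : Prop :=
  ∃ T : Subgroup G, IsPGroup r T ∧ (∀ x ∈ T, Commute x t ∧ Commute x v) ∧
    (S : Subgroup G) ≤ normalizer (T : Set G) ∧ ∃ y ∈ T, ∃ w ∈ (S : Subgroup G), y * w * y⁻¹ * w⁻¹ ∉ core t

theorem Bad.transport {r : ℕ} {S : Sylow 2 G} {t v g : G} (hg : g ∈ normalizer ((S : Subgroup G) : Set G))
    (h : Bad r S t v) : Bad r S (g * t * g⁻¹) (g * v * g⁻¹) := by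
  obtain ⟨T, hT, hTc, hTS, y, hy, w, hw, hyw⟩ := h
  refine ⟨T.map (MulAut.conj g).toMonoidHom, hT.map _, ?_, ?_, g * y * g⁻¹, ⟨y, hy, rfl⟩, g * w * g⁻¹,
    mem_norm_conj hg hw, fun h1 => hyw ?_⟩
  · rintro _ ⟨x, hx, rfl⟩
    obtain ⟨h1, h2⟩ := hTc x hx
    exact ⟨by simpa using h1.map (MulAut.conj g).toMonoidHom, by simpa using h2.map (MulAut.conj g).toMonoidHom⟩
  · intro s hs
    have hs' := mem_norm_conj (inv_mem hg) hs
    rw [inv_inv] at hs'
    rw [← CfsgLib.Coprime.conjBy_eq_self_iff]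
    show CfsgLib.Coprime.conjBy s (CfsgLib.Coprime.conjBy g T) = CfsgLib.Coprime.conjBy g T
    rw [CfsgLib.Coprime.conjBy_conjBy, show s * g = g * (g⁻¹ * s * g) by group, ← CfsgLib.Coprime.conjBy_conjBy,
      CfsgLib.Coprime.conjBy_eq_self_iff.2 (hTS hs')]
  · have h2 := conj_core (g := g⁻¹) h1
    rw [show g⁻¹ * (g * t * g⁻¹) * g⁻¹⁻¹ = t by group] at h2
    convert h2 using 1
    group

variable {S : Sylow 2 G} {t : G}

/-- Elements of the Sylow subgroup centralizing the invariant subgroup are powers of `t`. -/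
theorem cent_inv_le {H : Subgroup G} (h : Sect S t H)
    (hns : ¬ Group.IsSolvable ↥(centralizer ({t} : Set G))) {R R0 : Subgroup G}
    (hRn : H ≤ normalizer (R : Set G)) (hR0 : R0 ≤ R) (hR0t : R0 ≤ core t) {w x : G}
    (hw : w ∈ (S : Subgroup G)) (hx : x ∈ R0) (hwx : ¬ Commute w x) :
    ∀ s ∈ (S : Subgroup G), (∀ y ∈ R, Commute s y) → s ∈ zpowers t := by
  intro s hs hsc
  by_contra hst
  haveI : Fact (Nat.Prime 2) := ⟨Nat.prime_two⟩
  have hs1 : s ≠ 1 := fun e => hst (e ▸ one_mem _)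
  have hst' : s ≠ t := fun e => hst (e ▸ mem_zpowers _)
  have ht1 := CfsgLib.Invol.invol_ne_one h.ord
  set tH : H := ⟨t, h.le h.mem⟩ with htH
  have hnsH : ¬ Group.IsSolvable ↥(centralizer ({tH} : Set H)) := by
    intro hsol
    haveI := hsol
    refine not_solvable_inf h.hs h.ord hns h.cov (Group.isSolvable_of_isSolvable_injective
      (f := (Subgroup.inclusion (inf_le_left : H ⊓ centralizer ({t} : Set G) ≤ H)).codRestrict
        (centralizer ({tH} : Set H)) fun x => mem_centralizer_singleton_iff.2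
          (Subtype.ext (mem_centralizer_singleton_iff.1 x.2.2))) fun a b e =>
      Subtype.ext (congrArg (fun z : centralizer ({tH} : Set H) => ((z : H) : G)) e))
  obtain ⟨n, hn, hnt0, hmv, -⟩ := exists_mover (sylowEight_of_le h.hs S h.le) (S.subtype h.le)
    (t := tH) (by rw [Sylow.coe_subtype, mem_subgroupOf]; exact h.mem)
    (fun e => ht1 (congrArg Subtype.val e)) hnsH
  have hsT : (⟨s, h.le hs⟩ : H) ∈ ((S.subtype h.le : Sylow 2 H) : Subgroup H) := by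
    rw [Sylow.coe_subtype, mem_subgroupOf]; exact hs
  obtain ⟨m1, m2⟩ := hmv ⟨s, h.le hs⟩ hsT (fun e => hs1 (congrArg Subtype.val e))
    fun e => hst' (congrArg Subtype.val e)
  set s' := (n : G) * s * (n : G)⁻¹ with hs'
  have hs'S : s' ∈ (S : Subgroup G) := by
    have h1 := (mem_normalizer_iff.1 hn _).1 hsT
    rw [Sylow.coe_subtype, mem_subgroupOf] at h1
    exact h1
  have hs'c : ∀ y ∈ R, Commute s' y := fun y hy => by
    have hy' : (n : G)⁻¹ * y * n ∈ R := by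
      have := (mem_normalizer_iff.1 (hRn (inv_mem n.2)) y).1 hy
      rwa [inv_inv] at this
    have h1 := (hsc _ hy').map (MulAut.conj (n : G)).toMonoidHom
    simp only [MulEquiv.coe_toMonoidHom, MulAut.conj_apply] at h1
    rwa [show (n : G) * ((n : G)⁻¹ * y * n) * (n : G)⁻¹ = y by group] at h1
  obtain ⟨hQ, h4, hQl⟩ := pair_le h.hs S h.mem hs ht1 hs1 hst'.symm
  set D : Subgroup G := (S : Subgroup G) ⊓ centralizer (R0 : Set G) with hD
  have hcD : ∀ u ∈ (S : Subgroup G), (∀ y ∈ R0, Commute u y) → u ∈ D := fun u hu hc =>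
    ⟨hu, mem_centralizer_iff.2 fun y hy => (hc y hy).symm⟩
  have htD : t ∈ D := hcD t h.mem fun y hy => (core_commute (hR0t hy)).symm
  have hsD : s ∈ D := hcD s hs fun y hy => hsc y (hR0 hy)
  have hs'D : s' ∈ D := hcD s' hs'S fun y hy => hs'c y (hR0 hy)
  have hle : closure ({t, s} : Set G) ≤ D := (closure_le _).2 (by rintro u (rfl | rfl) <;> assumption)
  have hnot : s' ∉ closure ({t, s} : Set G) := fun hmem => by
    rcases hQl s' hmem with e | e | e | e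
    · exact hs1 (conj_eq_one_iff.1 e)
    · refine hst' ((MulAut.conj (n : G)).injective (e.trans ?_))
      rw [MulAut.conj_apply]
      have hnt : Commute (n : G) t := congrArg Subtype.val hnt0.eq
      rw [hnt.eq, mul_inv_cancel_right]
    · exact m1 (Subtype.ext e)
    · exact m2 (Subtype.ext e)
  have hlt : closure ({t, s} : Set G) < D := lt_of_le_of_ne hle fun e => hnot (e ▸ hs'D)
  have hDS : D = (S : Subgroup G) := by
    refine eq_of_le_of_card_ge inf_le_left ?_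
    have h1 : Nat.card (closure ({t, s} : Set G)) ∣ Nat.card D := card_dvd_of_le hle
    have h2 : Nat.card (closure ({t, s} : Set G)) ≠ Nat.card D := fun e =>
      hlt.ne (eq_of_le_of_card_ge hle e.ge)
    rw [(h.hs S).1]
    rw [h4] at h1 h2
    obtain ⟨a, ha⟩ := h1
    have hpos := Nat.card_pos (α := D)
    by_contra hcon
    have : a = 1 := by omega
    omega
  exact hwx ((mem_centralizer_iff.1 (hDS.ge hw).2 x hx).symm :)

/-- From a bad pair: an `r`-element of `H` centralizing both, outside the core, a commutator with `S`. -/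
theorem exists_bad_elt (hG : Ctx G) {r : ℕ} [Fact r.Prime] (hr : r ≠ 2) {v : G} (htS : t ∈ (S : Subgroup G))
    (hvS : v ∈ (S : Subgroup G)) (ht1 : t ≠ 1) (hv1 : v ≠ 1) (htv : t ≠ v) {H : Subgroup G} (hH : Sect S t H)
    {R0 : Subgroup G} (hR0 : IsSylowIn r R0 (core t)) (hinv : (S : Subgroup G) ≤ normalizer (R0 : Set G))
    (hR0H : R0 ≤ H) (hbad : Bad r S t v) :
    ∃ k ∈ H, Commute k t ∧ Commute k v ∧ (∃ j, k ^ r ^ j = 1) ∧ k ∉ core t ∧
      ∃ y : G, Commute y t ∧ Commute y v ∧ ∃ w ∈ (S : Subgroup G), k = y * w * y⁻¹ * w⁻¹ := by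
  obtain ⟨T, hT, hTc, hTS, y, hy, w, hw, hyw⟩ := hbad
  have hs := hG.hs
  have hTodd := odd_card_of_pGroup' hr hT
  have hTPB : T ≤ PB t v := fun x hx =>
    mem_PB hs S htS hvS ht1 hv1 htv (hTc x hx).1 (hTc x hx).2 (hTodd.of_dvd_nat (Subgroup.orderOf_dvd_natCard T hx))
  have hSC : (S : Subgroup G) ≤ centralizer ({t, v} : Set G) := fun s hs' =>
    mem_cent_pair.2 ⟨comm_eight hs S hs' htS, comm_eight hs S hs' hvS⟩
  have hSK : (S : Subgroup G) ≤ normalizer (PB t v : Set G) := hSC.trans (le_normalizer_coreH _)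
  have hKodd : Odd (Nat.card (PB t v)) := odd_coreH _
  obtain ⟨T', hT', hTT', hT'inv⟩ := CfsgLib.Coprime.le_invariant_sylow hSK (coprime_sylow hs S hKodd)
    (Or.inr (CfsgLib.FT.isSolvable_of_odd _ hKodd)) hTPB hT hTS
  obtain ⟨TH, hTH, hTHH, hTHinv⟩ := exists_sylow_PB hG S htS hvS ht1 hv1 htv hH hR0 hinv hR0H
  obtain ⟨c, hc, hce⟩ := CfsgLib.Coprime.invariant_sylow_conj hSK (coprime_sylow hs S hKodd)
    (Or.inr (CfsgLib.FT.isSolvable_of_odd _ hKodd)) hT' hTH hT'inv hTHinv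
  obtain ⟨hct, hcv⟩ := PB_commute hc.1
  have hcw : c * w * c⁻¹ = w := by
    rw [← mem_centralizer_iff.1 hc.2 w hw, mul_inv_cancel_right]
  have hw' : w⁻¹ = w := inv_eq_of_mul_eq_one_right ((hs S).2 w hw)
  have hk : y * w * y⁻¹ * w⁻¹ ∈ T := by
    rw [mul_assoc y, mul_assoc y]
    exact mul_mem hy ((mem_normalizer_iff.1 (hTS hw) y⁻¹).1 (inv_mem hy))
  have hkH : c * (y * w * y⁻¹ * w⁻¹) * c⁻¹ ∈ TH := hce ▸ ⟨_, hTT' hk, rfl⟩
  obtain ⟨hyt, hyv⟩ := hTc y hy
  obtain ⟨j, hj⟩ := hT ⟨_, hk⟩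
  refine ⟨_, hTHH hkH, (PB_commute (hTH.1 hkH)).1, (PB_commute (hTH.1 hkH)).2, ⟨j, ?_⟩, fun h1 => hyw ?_,
    c * y * c⁻¹, (hct.mul_left hyt).mul_left hct.inv_left, (hcv.mul_left hyv).mul_left hcv.inv_left, w, hw, ?_⟩
  · rw [conj_pow, show (y * w * y⁻¹ * w⁻¹) ^ r ^ j = 1 from congrArg Subtype.val hj, mul_one, mul_inv_cancel]
  · have h2 := core_conj_mem hct.inv_left h1
    rwa [inv_inv, show c⁻¹ * (c * (y * w * y⁻¹ * w⁻¹) * c⁻¹) * c = y * w * y⁻¹ * w⁻¹ by group] at h2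
  · conv_rhs => rw [← hcw]
    group

/-- The invariant subgroup lies in the odd core of any larger covering subgroup. -/
theorem le_coreH_over (hG : Ctx G) {r : ℕ} [Fact r.Prime] (hr : r ≠ 2) {H N R : Subgroup G} (hH : Sect S t H)
    (hN : Sect S t N) (hNt : N ≠ ⊤) (hHN : H ≤ N) (hRH : R ≤ H) (hRn : H ≤ normalizer (R : Set G))
    (hRp : IsPGroup r R)
    (hk : ∀ v ∈ (S : Subgroup G), v ≠ 1 → v ≠ t → ∃ k ∈ H, Commute k t ∧ Commute k v ∧ (∃ j, k ^ r ^ j = 1) ∧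
      k ∉ core t ∧ ∃ y : G, Commute y t ∧ Commute y v ∧ ∃ w ∈ (S : Subgroup G), k = y * w * y⁻¹ * w⁻¹) :
    R ≤ coreH N := by
  haveI : Fact (Nat.Prime 2) := ⟨Nat.prime_two⟩
  have hs := hG.hs
  have ht1 := CfsgLib.Invol.invol_ne_one hN.ord
  have hnst := hG.hns t hN.ord
  have hRN : R ≤ N := hRH.trans hHN
  have hRodd := odd_card_of_pGroup' hr hRp
  set q := QuotientGroup.mk' (Cfsg.oddCore N) with hq
  -- fixed points of `t` die
  have claim1 : ∀ x (hx : x ∈ R), Commute (q ⟨x, hRN hx⟩) (hN.bar t hN.mem) → x ∈ coreH N := by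
    intro x hx hxt
    obtain ⟨y, hyt, hyx⟩ := hN.exists_lift hN.mem hxt
    set U : Subgroup G := (R ⊔ coreH N) ⊓ centralizer ({t} : Set G) with hU
    have hRnK : R ≤ normalizer (coreH N : Set G) := hRN.trans (le_normalizer_coreH N)
    have hUodd : Odd (Nat.card U) := (hRodd.mul (odd_coreH N)).of_dvd_nat
      ((card_dvd_of_le inf_le_left).trans (CfsgLib.Coprime.card_sup_dvd_of_le_normalizer hRnK))
    have hyU : (y : G) ∈ U := by
      refine ⟨?_, mem_centralizer_singleton_iff.2 hyt.eq⟩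
      have h1 : y * (⟨x, hRN hx⟩ : N)⁻¹ ∈ Cfsg.oddCore N := (QuotientGroup.eq_one_iff _).1
        (show q _ = 1 by rw [map_mul, map_inv, hyx, mul_inv_cancel])
      have h2 : (y : G) * x⁻¹ ∈ coreH N := mem_coreH.2 h1
      rw [show (y : G) = (y : G) * x⁻¹ * x by group]
      exact mul_mem (mem_sup_right h2) (mem_sup_left hx)
    have hUcore : U ≤ core t := by
      refine le_core_of_covers hs hN.ord hnst hH.cov (fun u hu => mem_centralizer_singleton_iff.1 hu.2) hUodd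
        fun c hc hct u hu => ⟨?_, mem_centralizer_singleton_iff.2
          (((hct.mul_left (mem_centralizer_singleton_iff.1 hu.2)).mul_left hct.inv_left).eq)⟩
      have hcn : c ∈ normalizer ((R ⊔ coreH N : Subgroup G) : Set G) :=
        CfsgLib.Coprime.sup_le_normalizer hRn (hHN.trans (le_normalizer_coreH N)) hc
      exact (mem_normalizer_iff.1 hcn u).1 hu.1
    have hy1 : (y : G) ∈ coreH N := hN.core_inf_le hG.ih hNt hG.ns_mem (hUcore hyU) y.2
    have hqy : q y = 1 := (QuotientGroup.eq_one_iff _).2 (mem_coreH.1 hy1)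
    rw [hyx] at hqy
    exact mem_coreH (x := (⟨x, hRN hx⟩ : N)).2 ((QuotientGroup.eq_one_iff _).1 hqy)
  intro x0 hx0
  rcases hN.dichotomy hnst with hA | ⟨K, -, -, -, -, -, -, hcov⟩
  · exact claim1 x0 hx0 (hA _)
  set Xn := (R.subgroupOf N).map q with hXn
  have hXnp : IsPGroup r Xn := (hRp.of_equiv (subgroupOfEquivOfLe hRN).symm).map q
  have hXodd : Odd (Nat.card Xn) := odd_card_of_pGroup' hr hXnp
  have hmemX : ∀ ξ ∈ Xn, ∃ x, ∃ hx : x ∈ R, q ⟨x, hRN hx⟩ = ξ := by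
    rintro _ ⟨z, hz, rfl⟩
    exact ⟨z, mem_subgroupOf.1 hz, rfl⟩
  have hconjX : ∀ h : N, (h : G) ∈ H → ∀ ξ ∈ Xn, q h * ξ * (q h)⁻¹ ∈ Xn := by
    rintro h hh _ ⟨z, hz, rfl⟩
    exact ⟨h * z * h⁻¹, mem_subgroupOf.2 ((mem_normalizer_iff.1 (hRn hh) z).1 (mem_subgroupOf.1 hz)), by simp⟩
  have hbarX : ∀ v (hv : v ∈ (S : Subgroup G)), ∀ ξ ∈ Xn, hN.bar v hv * ξ * (hN.bar v hv)⁻¹ ∈ Xn :=
    fun v hv => hconjX ⟨v, hN.le hv⟩ (hH.le hv)
  have hbar2 : ∀ v (hv : v ∈ (S : Subgroup G)), hN.bar v hv * hN.bar v hv = 1 := fun v hv => by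
    rw [Sect.bar, ← map_mul]
    exact (congrArg _ (Subtype.ext ((hs S).2 v hv))).trans (map_one _)
  -- `t` inverts
  set τ := hN.bar t hN.mem with hτ
  have hτi : τ⁻¹ = τ := inv_eq_of_mul_eq_one_right (hbar2 t hN.mem)
  have hinv : ∀ ξ ∈ Xn, τ * ξ * τ⁻¹ = ξ⁻¹ := by
    let f : Xn → Xn := fun ξ => ⟨(ξ : N ⧸ Cfsg.oddCore N)⁻¹ * (τ * ξ * τ⁻¹),
      mul_mem (inv_mem ξ.2) (hbarX t hN.mem _ ξ.2)⟩
    have hfinj : Function.Injective f := by
      intro a b e
      have e' : (a : N ⧸ Cfsg.oddCore N)⁻¹ * (τ * a * τ⁻¹) = (b : N ⧸ Cfsg.oddCore N)⁻¹ * (τ * b * τ⁻¹) :=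
        congrArg Subtype.val e
      have hfix : Commute ((b : N ⧸ Cfsg.oddCore N) * (a : N ⧸ Cfsg.oddCore N)⁻¹) τ := by
        refine (mul_inv_eq_iff_eq_mul.1 ?_).symm
        calc τ * ((b : N ⧸ Cfsg.oddCore N) * (a : N ⧸ Cfsg.oddCore N)⁻¹) * τ⁻¹
            = (b : N ⧸ Cfsg.oddCore N) * ((b : N ⧸ Cfsg.oddCore N)⁻¹ * (τ * b * τ⁻¹)) * (τ * a * τ⁻¹)⁻¹ := by
              group
          _ = (b : N ⧸ Cfsg.oddCore N) * (a : N ⧸ Cfsg.oddCore N)⁻¹ := by rw [← e']; group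
      obtain ⟨x, hx, hxe⟩ := hmemX _ (mul_mem b.2 (inv_mem a.2))
      have h1 := claim1 x hx (by rw [hxe]; exact hfix)
      have h2 : q ⟨x, hRN hx⟩ = 1 := (QuotientGroup.eq_one_iff _).2 (mem_coreH.1 h1)
      rw [hxe, mul_inv_eq_one] at h2
      exact Subtype.ext h2.symm
    intro ξ hξ
    obtain ⟨ζ, hζ⟩ := (Finite.injective_iff_surjective.1 hfinj) ⟨ξ, hξ⟩
    have e : (ζ : N ⧸ Cfsg.oddCore N)⁻¹ * (τ * ζ * τ⁻¹) = ξ := congrArg Subtype.val hζ
    rw [← e, hτi]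
    calc τ * ((ζ : N ⧸ Cfsg.oddCore N)⁻¹ * (τ * ζ * τ)) * τ
        = (τ * (ζ : N ⧸ Cfsg.oddCore N)⁻¹ * τ) * (ζ : N ⧸ Cfsg.oddCore N) * (τ * τ) := by group
      _ = ((ζ : N ⧸ Cfsg.oddCore N)⁻¹ * (τ * ζ * τ))⁻¹ := by
        rw [hbar2 t hN.mem, mul_one, mul_inv_rev, inv_inv, mul_inv_rev, mul_inv_rev, hτi, ← mul_assoc]
  have hcomm : ∀ a ∈ Xn, ∀ b ∈ Xn, a * b = b * a := fun a ha b hb => by
    have h1 := hinv _ (mul_mem ha hb)
    rw [show τ * (a * b) * τ⁻¹ = (τ * a * τ⁻¹) * (τ * b * τ⁻¹) by group, hinv a ha, hinv b hb, ← mul_inv_rev,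
      inv_inj] at h1
    exact h1.symm
  -- fixed points of the other involutions die
  have claim2 : ∀ v (hv : v ∈ (S : Subgroup G)), v ≠ 1 → v ≠ t → ∀ ξ ∈ Xn, Commute ξ (hN.bar v hv) → ξ = 1 := by
    intro v hv hv1 hvt ξ hξ hξv
    obtain ⟨k, hkH, hkt, hkv, ⟨j, hj⟩, hknot, y, hyt, hyv, w, hw, hkeq⟩ := hk v hv hv1 hvt
    have hv2 := invol_of_mem hs S hv hv1
    have hnsv := hG.hns v hv2
    have hcv := hcov v hv hv1
    set U : Subgroup (N ⧸ Cfsg.oddCore N) := Xn ⊓ centralizer ({hN.bar v hv} : Set (N ⧸ Cfsg.oddCore N)) with hU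
    by_contra hξ1
    have hUne : U ≠ ⊥ := fun e => hξ1 (mem_bot.1 (e ▸ ⟨hξ, mem_centralizer_singleton_iff.2 hξv.eq⟩))
    set kN : N := ⟨k, hHN hkH⟩ with hkN
    have hkvq : Commute (q kN) (hN.bar v hv) := by
      show _ = _
      rw [Sect.bar, ← map_mul, ← map_mul]
      exact congrArg _ (Subtype.ext hkv.eq)
    have hkU : zpowers (q kN) ≤ normalizer (U : Set (N ⧸ Cfsg.oddCore N)) := by
      rw [zpowers_le]
      refine CfsgLib.Coprime.inf_le_normalizer (A := zpowers (q kN)) ?_ ?_ (mem_zpowers _)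
      · rw [zpowers_le]
        refine mem_normalizer_iff.2 fun z => ⟨fun hz => hconjX kN hkH z hz, fun hz => ?_⟩
        have := hconjX kN⁻¹ (inv_mem hkH) _ hz
        rw [map_inv, inv_inv] at this
        rwa [show (q kN)⁻¹ * (q kN * z * (q kN)⁻¹) * q kN = z by group] at this
      · rw [zpowers_le]
        exact le_normalizer (mem_centralizer_singleton_iff.2 hkvq.eq)
    have hkj : (q kN) ^ r ^ j = 1 := by
      rw [← map_pow, show kN ^ r ^ j = 1 from Subtype.ext (by simpa using hj), map_one]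
    have hne := CfsgLib.GW.CaseB.inf_centralizer_ne_bot (CfsgLib.Coprime.isPGroup_zpowers hkj)
      (hXnp.to_le (inf_le_left : U ≤ Xn)) hUne hkU
    obtain ⟨μ, hμ, hμ1⟩ := (bot_or_exists_ne_one _).resolve_left hne
    obtain ⟨⟨hμX, hμv⟩, hμk⟩ := hμ
    obtain ⟨z, hzv, hzμ⟩ := hN.exists_lift hv (mem_centralizer_singleton_iff.1 hμv)
    have hzo : Odd (orderOf (z : G)) := odd_lift N z (by
      rw [hzμ]; exact hXodd.of_dvd_nat (Subgroup.orderOf_dvd_natCard Xn hμX))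
    have htv : Commute t v := comm_eight hs S hN.mem hv
    set a := tp v t htv with ha
    have ha2 : orderOf a = 2 := tp_invol hv2 hN.ord htv hvt.symm
    set x' := tp v k hkv with hx'
    obtain ⟨P⟩ := exists_top_data hs hv2 hnsv
    have hwv : Commute w v := comm_eight hs S hw hv
    have hwM : tp v w hwv ∈ P.M := by
      rcases eq_or_ne w v with e | e
      · rw [tp_congr hwv (Commute.refl v) e, tp_self]; exact one_mem _
      rcases eq_or_ne w 1 with e' | e'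
      · rw [tp_congr hwv (Commute.one_left v) e']
        exact (show tp v 1 (Commute.one_left v) = 1 from map_one _) ▸ one_mem _
      exact P.mem_of_invol (tp_invol hv2 (invol_of_mem hs S hw e') hwv e)
    have hxM : x' ∈ P.M := by
      rw [hx', tp_congr hkv (((hyv.mul_left hwv).mul_left hyv.inv_left).mul_left hwv.inv_left) hkeq,
        tp_mul ((hyv.mul_left hwv).mul_left hyv.inv_left) hwv.inv_left, tp_conj hyv hwv, tp_inv hwv]
      exact mul_mem (P.normal.conj_mem _ hwM _) (inv_mem hwM)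
    have hko : Odd (orderOf k) := ((Fact.out : r.Prime).odd_of_ne_two hr).pow.of_dvd_nat
      (orderOf_dvd_of_pow_eq_one hj)
    have hx1 : x' ≠ 1 := fun e => hknot (coreH_inf_le hs hN.ord hnst hN.cov
      ((hN.of_covers hv hv1 hcv).core_inf_le hG.ih hNt hG.ns_mem (mem_core_of_tp hv2 hkv hko e) (hHN hkH)) hkt)
    have hxa : Commute x' a := by
      show _ = _
      rw [hx', ha, ← tp_mul, ← tp_mul]
      exact tp_congr _ _ hkt.eq
    have hzk : Commute (tp v z hzv) x' := tp_commute_of_quot hs hv2 hnsv hcv (p := z) (z := kN) hzv hkv (by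
      rw [hzμ]; exact ((mem_centralizer_iff.1 hμk (q kN) (mem_zpowers _)).symm :))
    have hzinv : a * tp v z hzv * a⁻¹ = (tp v z hzv)⁻¹ := by
      set e : N := ⟨t, hN.le hN.mem⟩ * z * (⟨t, hN.le hN.mem⟩ : N)⁻¹ * z with he
      have hqe : q e = 1 := by
        rw [he, map_mul, map_mul, map_mul, map_inv, hzμ]
        exact (congrArg (· * μ) (hinv μ hμX)).trans (inv_mul_cancel μ)
      have hec : (e : G) ∈ core v := coreH_inf_le hs hv2 hnsv hcv
        (mem_coreH.2 ((QuotientGroup.eq_one_iff _).1 hqe))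
        (((htv.mul_left hzv).mul_left htv.inv_left).mul_left hzv)
      have h3 := tp_core hec
      rw [tp_congr _ (((htv.mul_left hzv).mul_left htv.inv_left).mul_left hzv)
        (show (e : G) = t * (z : G) * t⁻¹ * (z : G) from rfl),
        tp_mul ((htv.mul_left hzv).mul_left htv.inv_left) hzv, tp_conj htv hzv] at h3
      exact eq_inv_of_mul_eq_one_left h3
    have hone := P.eq_one_of_inverted ha2 hxM hx1 (tp_odd hkv hko) hxa (tp_odd hzv hzo) hzk hzinv
    have hzc : (z : G) ∈ coreH N :=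
      (hN.of_covers hv hv1 hcv).core_inf_le hG.ih hNt hG.ns_mem (mem_core_of_tp hv2 hzv hzo hone) z.2
    exact hμ1 (by rw [← hzμ]; exact (QuotientGroup.eq_one_iff _).2 (mem_coreH.1 hzc))
  obtain ⟨a, haS, ha1, hat⟩ := exists_two hs S hN.mem ht1
  obtain ⟨b, hbS, hb1, hbt, hba, hbta⟩ := exists_third hs S hN.mem haS ht1 ha1 hat.symm
  have hab1 : a * b ≠ 1 := fun e => hba (by
    rw [← one_mul b, ← (hs S).2 a haS, mul_assoc, e, mul_one])
  have habt : a * b ≠ t := fun e => hbta (by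
    rw [← e, comm_eight hs S haS hbS, mul_assoc, (hs S).2 a haS, mul_one])
  have habS : a * b ∈ (S : Subgroup G) := mul_mem haS hbS
  have hinvv : ∀ v (hv : v ∈ (S : Subgroup G)), v ≠ 1 → v ≠ t → ∀ ξ ∈ Xn,
      hN.bar v hv * ξ * (hN.bar v hv)⁻¹ = ξ⁻¹ := by
    intro v hv hv1 hvt ξ hξ
    set σ := hN.bar v hv with hσ
    have h1 := hbarX v hv ξ hξ
    have hσi : σ⁻¹ = σ := inv_eq_of_mul_eq_one_right (hbar2 v hv)
    have h2 := claim2 v hv hv1 hvt _ (mul_mem hξ h1) ((mul_inv_eq_iff_eq_mul.1 (by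
      calc σ * (ξ * (σ * ξ * σ⁻¹)) * σ⁻¹ = (σ * ξ * σ⁻¹) * (σ * σ * ξ * (σ⁻¹ * σ⁻¹)) := by group
        _ = ξ * (σ * ξ * σ⁻¹) := by
          rw [hbar2 v hv, hσi, hbar2 v hv, one_mul, mul_one]
          exact hcomm _ (by rw [hσi] at h1; exact h1) _ hξ)).symm)
    exact eq_inv_of_mul_eq_one_right h2
  have hsq2 : ∀ ξ ∈ Xn, ξ = 1 := fun ξ hξ => by
    have h1 := hinvv a haS ha1 hat ξ hξ
    have h2 := hinvv b hbS hb1 hbt ξ hξ
    have h3 := hinvv (a * b) habS hab1 habt ξ hξ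
    have e : hN.bar (a * b) habS = hN.bar a haS * hN.bar b hbS := by
      rw [Sect.bar, Sect.bar, Sect.bar, ← map_mul]; rfl
    rw [e, show hN.bar a haS * hN.bar b hbS * ξ * (hN.bar a haS * hN.bar b hbS)⁻¹ =
      hN.bar a haS * (hN.bar b hbS * ξ * (hN.bar b hbS)⁻¹) * (hN.bar a haS)⁻¹ by group, h2, ← conj_inv, h1,
      inv_inv] at h3
    exact eq_one_of_two_odd (k := 1) (by rw [pow_one, pow_two]; exact eq_inv_iff_mul_eq_one.1 h3)
      (hXodd.of_dvd_nat (Subgroup.orderOf_dvd_natCard Xn hξ))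
  have h1 := hsq2 _ (mem_map_of_mem q (mem_subgroupOf.2 hx0 : (⟨x0, hRN hx0⟩ : N) ∈ R.subgroupOf N))
  exact mem_coreH (x := (⟨x0, hRN hx0⟩ : N)).2 ((QuotientGroup.eq_one_iff _).1 h1)

/-- A covering subgroup containing the invariant Sylow subgroup of the core that controls `r`-fusion. -/
theorem exists_control (hG : Ctx G) {r : ℕ} [Fact r.Prime] (hr : r ≠ 2) (htS : t ∈ (S : Subgroup G))
    (ht : orderOf t = 2) {R0 : Subgroup G} (hR0 : IsSylowIn r R0 (core t))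
    (hinv : (S : Subgroup G) ≤ normalizer (R0 : Set G)) {w x : G} (hw : w ∈ (S : Subgroup G)) (hx : x ∈ R0)
    (hwx : ¬ Commute w x) (hbad : ∀ v ∈ (S : Subgroup G), v ≠ 1 → v ≠ t → Bad r S t v) :
    ∃ N : Subgroup G, Sect S t N ∧ N ≠ ⊤ ∧ R0 ≤ N ∧ ∀ T : Subgroup G, IsPGroup r T → T ≤ N →
      ∀ g ∈ normalizer (T : Set G), ∃ n ∈ N, ∀ z ∈ T, n * z * n⁻¹ = g * z * g⁻¹ := by
  have hs := hG.hs
  have hrp : r.Prime := Fact.out
  have ht1 := CfsgLib.Invol.invol_ne_one ht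
  have hne : R0 ≠ ⊥ := fun e => hwx (by rw [e, mem_bot] at hx; rw [hx]; exact Commute.one_right w)
  obtain ⟨R, hRc, hH, hHt, hRK, hmax⟩ := exists_top_class hG hr S htS ht hR0 hinv hne
  set H := normalizer (R : Set G) with hHdef
  have hR0H : R0 ≤ H := hRc.above.trans le_normalizer
  have hRbot : R ≠ ⊥ := fun e => hne (le_bot_iff.1 (e ▸ hRc.above))
  obtain ⟨J, hZn, hZR, hZ1⟩ := exists_zj_normal hH hr hRK le_rfl hRbot
    (cent_inv_le hH (hG.hns t ht) le_rfl hRc.above hR0.1 hw hx hwx)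
  set J' := (J : Subgroup H).map H.subtype with hJ'
  set Z := Cfsg.centerThompsonOf r J' with hZ
  set N := normalizer (Z : Set G) with hNdef
  have hN : Sect S t N := ⟨hs, htS, ht, hH.le.trans hZn, hH.cov.mono hZn⟩
  have hNt : N ≠ ⊤ := hG.normalizer_ne_top hZ1
    (hG.odd_ne_top (odd_card_of_pGroup' hr (hRc.pgroup.to_le hZR)))
  have hRN := le_coreH_over hG hr hH hN hNt hZn le_normalizer le_rfl hRc.pgroup fun v hv hv1 hvt =>
    exists_bad_elt hG hr htS hv ht1 hv1 hvt.symm hH hR0 hinv hR0H (hbad v hv hv1 hvt)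
  -- `N` has the same `r`-part
  have hSK : (S : Subgroup G) ≤ normalizer (coreH N : Set G) := hN.le.trans (le_normalizer_coreH N)
  have hKodd := odd_coreH N
  obtain ⟨R', hR', hRR', hR'inv⟩ := CfsgLib.Coprime.le_invariant_sylow hSK (coprime_sylow hs S hKodd)
    (Or.inr (CfsgLib.FT.isSolvable_of_odd _ hKodd)) hRN hRc.pgroup hRc.inv
  have htz : zpowers t ≤ (S : Subgroup G) := zpowers_le.2 htS
  have hcl : Cls r S t R0 R' := by
    refine ⟨hR'.isPGroup, hR'inv, hRc.above.trans hRR', fun c hc => ?_⟩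
    obtain ⟨o, ho, hoc⟩ := hN.cov c hc
    have hct : Commute (o * c) t := (core_commute ho).mul_left hc
    have h1 : IsSylowIn r (CfsgLib.Coprime.conjBy (o * c) R') (coreH N) :=
      hR'.conjBy (le_normalizer_coreH N hoc)
    have h2 : zpowers t ≤ normalizer (CfsgLib.Coprime.conjBy (o * c) R' : Set G) := by
      rw [zpowers_le]
      refine (CfsgLib.Coprime.conjBy_eq_self_iff).1 ?_
      rw [CfsgLib.Coprime.conjBy_conjBy, ← hct.eq, ← CfsgLib.Coprime.conjBy_conjBy,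
        CfsgLib.Coprime.conjBy_eq_self_iff.2 (hR'inv htS)]
    obtain ⟨k, hk, e⟩ := CfsgLib.Coprime.invariant_sylow_conj (htz.trans hSK)
      ((coprime_sylow hs S hKodd).coprime_dvd_left (card_dvd_of_le htz))
      (Or.inr (CfsgLib.FT.isSolvable_of_odd _ hKodd)) h1 hR' h2 (htz.trans hR'inv)
    have hk' : k ∈ core t := coreH_inf_le hs ht (hG.hns t ht) hN.cov hk.1
      (mem_centralizer_iff.1 hk.2 t (mem_zpowers t)).symm
    refine ⟨k * o, mul_mem hk' ho, ?_⟩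
    rw [← CfsgLib.Coprime.conjBy_eq_self_iff, mul_assoc, ← CfsgLib.Coprime.conjBy_conjBy]
    exact e
  have hR'N : R' ≤ N := hR'.1.trans (coreH_le N)
  obtain ⟨Q, hQ⟩ := (hR'.isPGroup.of_equiv (subgroupOfEquivOfLe hR'N).symm).exists_le_sylow
  set Q' := (Q : Subgroup N).map N.subtype with hQ'
  have hR'Q : R' ≤ Q' := (map_subgroupOf_eq_of_le hR'N).ge.trans (map_mono hQ)
  have hQN : Q' ≤ normalizer (R' : Set G) := by
    have heq : Q' ⊓ coreH N = R' := by
      refine (eq_of_le_of_card_ge (le_inf hR'Q hR'.1) ?_).symm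
      obtain ⟨a, ha⟩ := ((Q.2.map N.subtype).to_le (inf_le_left : Q' ⊓ coreH N ≤ Q')).exists_card_eq
      rw [hR'.2, ha]
      exact Nat.pow_le_pow_right hrp.pos
        ((hrp.pow_dvd_iff_le_factorization Nat.card_pos.ne').1 (ha ▸ card_dvd_of_le inf_le_right))
    rw [← heq]
    exact CfsgLib.Coprime.inf_le_normalizer le_normalizer ((map_subtype_le _).trans (le_normalizer_coreH N))
  have hv : (Nat.card N).factorization r ≤ (Nat.card H).factorization r := by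
    refine le_trans ((hrp.pow_dvd_iff_le_factorization Nat.card_pos.ne').1 ?_) (hmax R' hcl)
    rw [← Q.card_eq_multiplicity, ← card_map_of_injective N.subtype_injective]
    exact card_dvd_of_le hQN
  have hJN : J' ≤ N := (map_subtype_le _).trans hZn
  have hJcard : Nat.card J' = r ^ (Nat.card N).factorization r := by
    rw [hJ', card_map_of_injective H.subtype_injective, J.card_eq_multiplicity]
    exact congrArg (r ^ ·) (le_antisymm
      ((hrp.pow_dvd_iff_le_factorization Nat.card_pos.ne').1 ((Nat.ordProj_dvd _ r).trans (card_dvd_of_le hZn))) hv)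
  -- `J` is a Sylow subgroup of `G`
  obtain ⟨U, hU⟩ : ∃ U : Sylow r G, (U : Subgroup G) = J' := by
    obtain ⟨U, hU⟩ := (J.2.map H.subtype : IsPGroup r J').exists_le_sylow
    refine ⟨U, le_antisymm ?_ hU⟩
    by_contra hlt
    have h1 := CfsgLib.Coprime.lt_inf_normalizer U.2 (lt_of_le_not_ge hU hlt)
    have h2 : (U : Subgroup G) ⊓ normalizer (J' : Set G) ≤ N :=
      inf_le_right.trans (CfsgLib.CFun.normalizer_le_normalizer_centerThompsonOf J')
    obtain ⟨a, ha⟩ := (U.2.to_le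
      (inf_le_left : (U : Subgroup G) ⊓ normalizer (J' : Set G) ≤ U)).exists_card_eq
    have h3 : a ≤ (Nat.card N).factorization r :=
      (hrp.pow_dvd_iff_le_factorization Nat.card_pos.ne').1 (ha ▸ card_dvd_of_le h2)
    have h4 := eq_of_le_of_card_ge h1.le (by rw [ha, hJcard]; exact Nat.pow_le_pow_right hrp.pos h3)
    exact h1.ne h4
  refine ⟨N, hN, hNt, hR0H.trans hZn, fun T hT hTN g hg => ?_⟩
  set JN : Sylow r N := Sylow.ofCard (J'.subgroupOf N) (by
    rw [Nat.card_congr (subgroupOfEquivOfLe hJN).toEquiv]; exact hJcard) with hJN'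
  obtain ⟨Q1, hQ1⟩ := (hT.of_equiv (subgroupOfEquivOfLe hTN).symm).exists_le_sylow
  obtain ⟨m, hm⟩ := MulAction.exists_smul_eq N Q1 JN
  have hmT : ∀ z ∈ T, (m : G) * z * (m : G)⁻¹ ∈ J' := fun z hz => by
    have h1 : m * ⟨z, hTN hz⟩ * m⁻¹ ∈ (JN : Subgroup N) := by
      rw [← hm, Sylow.coe_subgroup_smul]
      exact ⟨⟨z, hTN hz⟩, hQ1 (mem_subgroupOf.2 hz), rfl⟩
    exact mem_subgroupOf.1 h1
  obtain ⟨n, hn, hnz⟩ := Cfsg.Agent.S0118.result hr (not_involves_slTwo (abTwo_of_eight hs) hr) U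
    ((fun z => (m : G) * z * (m : G)⁻¹) '' (T : Set G))
    (by rintro _ ⟨z, hz, rfl⟩; exact hU.ge (hmT z hz)) ((m : G) * g⁻¹ * (m : G)⁻¹) (by
      rintro _ ⟨_, ⟨z, hz, rfl⟩, rfl⟩
      show _ ∈ (U : Subgroup G)
      rw [hU]
      show ((m : G) * g⁻¹ * (m : G)⁻¹)⁻¹ * ((m : G) * z * (m : G)⁻¹) * ((m : G) * g⁻¹ * (m : G)⁻¹) ∈ J'
      rw [show ((m : G) * g⁻¹ * (m : G)⁻¹)⁻¹ * ((m : G) * z * (m : G)⁻¹) * ((m : G) * g⁻¹ * (m : G)⁻¹) =
        (m : G) * (g * z * g⁻¹) * (m : G)⁻¹ by group]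
      exact hmT _ ((mem_normalizer_iff.1 hg z).1 hz))
  rw [hU] at hn
  refine ⟨(m : G)⁻¹ * n⁻¹ * m, mul_mem (mul_mem (inv_mem m.2) (inv_mem hn)) m.2, fun z hz => ?_⟩
  have h1 := hnz _ ⟨z, hz, rfl⟩
  calc (m : G)⁻¹ * n⁻¹ * m * z * ((m : G)⁻¹ * n⁻¹ * m)⁻¹
      = (m : G)⁻¹ * (n⁻¹ * ((m : G) * z * (m : G)⁻¹) * n) * m := by group
    _ = g * z * g⁻¹ := by rw [h1]; group

end CfsgLib.Walter.Core
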