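import Cfsg.Agent.Lib.Walter.Rank.Quot
import Cfsg.Agent.Lib.Invol.KleinPair
import Cfsg.Agent.Lib.Invol.DihedralSylow
import Cfsg.Agent.Lib.Fusion.Transfer
import Cfsg.Agent.Lib.FT.NoMinSimple

/-!
# Fusion in a Sylow `2`-subgroup of order eight and exponent two
-/

set_option autoImplicit false
set_option linter.style.haveILetI false
set_option linter.unusedSectionVars false

open Subgroup

namespace CfsgLib.Walter.Core

universe u

variable {X : Type u} [Group X] [Finite X]

theorem comm_eight (hs : SylowEight X) (S : Sylow 2 X) {x y : X} (hx : x ∈ (S : Subgroup X))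
    (hy : y ∈ (S : Subgroup X)) : x * y = y * x := by
  have h := (hs S).2
  calc x * y = (x * y)⁻¹ := eq_inv_of_mul_eq_one_left (h _ (mul_mem hx hy))
    _ = y * x := by
      rw [mul_inv_rev, inv_eq_of_mul_eq_one_right (h y hy), inv_eq_of_mul_eq_one_right (h x hx)]

theorem abTwo_of_eight (hs : SylowEight X) : AbTwo X := fun S a b => Subtype.ext (comm_eight hs S a.2 b.2)

theorem invol_of_mem (hs : SylowEight X) (S : Sylow 2 X) {x : X} (hx : x ∈ (S : Subgroup X)) (h1 : x ≠ 1) :
    orderOf x = 2 :=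
  orderOf_eq_prime (by rw [pow_two]; exact (hs S).2 x hx) h1

theorem exists_sylow_of_invol {x : X} (hx : orderOf x = 2) : ∃ S : Sylow 2 X, x ∈ (S : Subgroup X) := by
  obtain ⟨S, hS⟩ := (IsPGroup.of_card (n := 1) (by rw [Nat.card_zpowers, hx, pow_one]) :
    IsPGroup 2 (zpowers x)).exists_le_sylow
  exact ⟨S, hS (mem_zpowers x)⟩

theorem le_centralizer_of_mem (hs : SylowEight X) (S : Sylow 2 X) {x : X} (hx : x ∈ (S : Subgroup X)) :
    (S : Subgroup X) ≤ centralizer ({x} : Set X) :=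
  fun _ hy => mem_centralizer_singleton_iff.2 (comm_eight hs S hy hx)

theorem pair_le (hs : SylowEight X) (S : Sylow 2 X) {a b : X} (ha : a ∈ (S : Subgroup X))
    (hb : b ∈ (S : Subgroup X)) (ha1 : a ≠ 1) (hb1 : b ≠ 1) (hab : a ≠ b) :
    closure ({a, b} : Set X) ≤ (S : Subgroup X) ∧ Nat.card (closure ({a, b} : Set X)) = 4 ∧
      ∀ w ∈ closure ({a, b} : Set X), w = 1 ∨ w = a ∨ w = b ∨ w = a * b := by
  have ha2 := invol_of_mem hs S ha ha1
  have hb2 := invol_of_mem hs S hb hb1
  have hc : Commute a b := comm_eight hs S ha hb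
  haveI := CfsgLib.Invol.isKleinFour_closure_pair ha2 hb2 hab hc
  exact ⟨(closure_le _).2 (by rintro w (rfl | rfl) <;> assumption), IsKleinFour.card_four,
    fun w hw => CfsgLib.Invol.mem_klein ha2 hb2 hab hc hw⟩

theorem exists_third (hs : SylowEight X) (S : Sylow 2 X) {a b : X} (ha : a ∈ (S : Subgroup X))
    (hb : b ∈ (S : Subgroup X)) (ha1 : a ≠ 1) (hb1 : b ≠ 1) (hab : a ≠ b) :
    ∃ c ∈ (S : Subgroup X), c ≠ 1 ∧ c ≠ a ∧ c ≠ b ∧ c ≠ a * b := by
  obtain ⟨hle, h4, -⟩ := pair_le hs S ha hb ha1 hb1 hab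
  obtain ⟨c, hc, hcn⟩ : ∃ c ∈ (S : Subgroup X), c ∉ closure ({a, b} : Set X) := by
    by_contra! h
    have := Nat.le_of_dvd Nat.card_pos (card_dvd_of_le (fun x hx => h x hx : (S : Subgroup X) ≤ _))
    rw [(hs S).1, h4] at this
    omega
  have hab' : a * b ∈ closure ({a, b} : Set X) := mul_mem (subset_closure (by simp)) (subset_closure (by simp))
  exact ⟨c, hc, fun e => hcn (e ▸ one_mem _), fun e => hcn (e ▸ subset_closure (by simp)),
    fun e => hcn (e ▸ subset_closure (by simp)), fun e => hcn (e ▸ hab')⟩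

theorem exists_two (hs : SylowEight X) (S : Sylow 2 X) {a : X} (ha : a ∈ (S : Subgroup X)) (ha1 : a ≠ 1) :
    ∃ b ∈ (S : Subgroup X), b ≠ 1 ∧ b ≠ a := by
  by_contra! h
  have hle : (S : Subgroup X) ≤ zpowers a := fun x hx => by
    by_cases hx1 : x = 1
    · exact hx1 ▸ one_mem _
    · exact h x hx hx1 ▸ mem_zpowers a
  have := card_dvd_of_le hle
  rw [(hs S).1, Nat.card_zpowers, invol_of_mem hs S ha ha1] at this
  norm_num at this

/-- Elements of the Sylow subgroup conjugate in the group are conjugate in its normalizer. -/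
theorem conj_in_normalizer (hs : SylowEight X) (S : Sylow 2 X) {x : X} (hx : x ∈ (S : Subgroup X)) {g : X}
    (hg : g * x * g⁻¹ ∈ (S : Subgroup X)) :
    ∃ n ∈ normalizer ((S : Subgroup X) : Set X), n * x * n⁻¹ = g * x * g⁻¹ :=
  haveI : Fact (Nat.Prime 2) := ⟨Nat.prime_two⟩
  CfsgLib.Fusion.exists_normalizer_conj_eq_of_central S (le_centralizer_of_mem hs S hx) g
    (le_centralizer_of_mem hs S hg)

theorem mem_norm_conj {S : Subgroup X} {n : X} (hn : n ∈ normalizer (S : Set X)) {x : X} (hx : x ∈ S) :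
    n * x * n⁻¹ ∈ S := (mem_normalizer_iff.1 hn x).1 hx

/-- The orbit of an element of `S` under the normalizer. -/
def orb (S : Subgroup X) (a : X) : Set X := {y | ∃ n ∈ normalizer (S : Set X), n * a * n⁻¹ = y}

theorem orb_odd (hs : SylowEight X) (S : Sylow 2 X) {a : X} (ha : a ∈ (S : Subgroup X)) :
    Odd (orb (S : Subgroup X) a).ncard := by
  classical
  haveI : Fact (Nat.Prime 2) := ⟨Nat.prime_two⟩
  set N := normalizer ((S : Subgroup X) : Set X) with hN
  letI : MulAction N X := MulAction.compHom X (MulAut.conj.comp N.subtype)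
  have horb : MulAction.orbit N a = orb (S : Subgroup X) a := by
    ext y
    constructor
    · rintro ⟨n, rfl⟩; exact ⟨n, n.2, rfl⟩
    · rintro ⟨n, hn, rfl⟩; exact ⟨⟨n, hn⟩, rfl⟩
  have hst : (S : Subgroup X).subgroupOf N ≤ MulAction.stabilizer N a := fun n hn => by
    show (n : X) * a * (n : X)⁻¹ = a
    rw [comm_eight hs S (mem_subgroupOf.1 hn) ha, mul_inv_cancel_right]
  rw [← horb, ← MulAction.index_stabilizer]
  have hd : (MulAction.stabilizer N a).index ∣ (S : Subgroup X).index :=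
    (index_dvd_of_le hst).trans (relIndex_dvd_index_of_le le_normalizer)
  have hodd : Odd (S : Subgroup X).index := Nat.not_even_iff_odd.1 fun he => S.not_dvd_index he.two_dvd
  exact hodd.of_dvd_nat hd

/-- Without subgroups of index two the normalizer is transitive on the involutions of `S`. -/
theorem transitive (hs : SylowEight X) (hno : ∀ M : Subgroup X, M.Normal → M.index ≠ 2) (S : Sylow 2 X) {a b : X}
    (ha : a ∈ (S : Subgroup X)) (ha1 : a ≠ 1) (hb : b ∈ (S : Subgroup X)) (hb1 : b ≠ 1) :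
    ∃ n ∈ normalizer ((S : Subgroup X) : Set X), n * a * n⁻¹ = b := by
  classical
  haveI : Fact (Nat.Prime 2) := ⟨Nat.prime_two⟩
  set O : X → Set X := orb (S : Subgroup X) with hO
  -- every orbit meets every four subgroup
  have hmeet : ∀ v ∈ (S : Subgroup X), ∀ w ∈ (S : Subgroup X), v ≠ 1 → w ≠ 1 → v ≠ w →
      ∀ u ∈ (S : Subgroup X), ∃ y ∈ O u, y ∈ closure ({v, w} : Set X) := by
    intro v hv w hw hv1 hw1 hvw u hu
    obtain ⟨hle, h4, -⟩ := pair_le hs S hv hw hv1 hw1 hvw
    have hi : (closure ({v, w} : Set X)).relIndex (S : Subgroup X) = 2 := by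
      rw [relIndex]
      have := ((closure ({v, w} : Set X)).subgroupOf (S : Subgroup X)).card_mul_index
      rw [Nat.card_congr (subgroupOfEquivOfLe hle).toEquiv, h4, (hs S).1] at this
      omega
    by_contra! hno'
    obtain ⟨M, hM, hM2, -⟩ := CfsgLib.Fusion.thompson_transfer S hle hi (u := u)
      (by rw [pow_two]; exact (hs S).2 u hu) fun g hg => by
        obtain ⟨n, hn, e⟩ := conj_in_normalizer hs S hu (hle hg)
        exact hno' _ ⟨n, hn, rfl⟩ (e ▸ hg)
    exact hno M hM hM2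
  have hsub : ∀ u ∈ (S : Subgroup X), u ≠ 1 → O u ⊆ ((S : Subgroup X) : Set X) \ {1} := by
    rintro u hu hu1 _ ⟨n, hn, rfl⟩
    exact ⟨mem_norm_conj hn hu, fun e => hu1 (conj_eq_one_iff.1 e)⟩
  have hbig : ∀ u ∈ (S : Subgroup X), u ≠ 1 → 3 ≤ (O u).ncard := by
    intro u hu hu1
    have hodd : Odd (O u).ncard := orb_odd hs S hu
    by_contra hlt
    have h1 : (O u).ncard = 1 := by rw [Nat.odd_iff] at hodd; omega
    obtain ⟨z, hz⟩ := Set.ncard_eq_one.1 h1
    have huO : u ∈ O u := ⟨1, one_mem _, by group⟩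
    rw [hz, Set.mem_singleton_iff] at huO
    obtain ⟨v, hv, hv1, hvu⟩ := exists_two hs S hu hu1
    obtain ⟨w, hw, hw1, hwu, hwv, hwuv⟩ := exists_third hs S hu hv hu1 hv1 hvu.symm
    obtain ⟨y, hy, hyQ⟩ := hmeet v hv w hw hv1 hw1 hwv.symm u hu
    rw [hz, Set.mem_singleton_iff] at hy
    rcases (pair_le hs S hv hw hv1 hw1 hwv.symm).2.2 y hyQ with e | e | e | e
    · exact hu1 (by rw [huO, ← hy, e])
    · exact hvu (by rw [huO, ← hy, e])
    · exact hwu (by rw [huO, ← hy, e])
    · apply hwuv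
      rw [huO, ← hy, e, mul_assoc, comm_eight hs S hw hv, ← mul_assoc, (hs S).2 v hv, one_mul]
  have hdisj : ∀ u w : X, w ∉ O u → Disjoint (O u) (O w) := fun u w hw => Set.disjoint_left.2 fun y hy hy' => by
    obtain ⟨n, hn, e⟩ := hy
    obtain ⟨m, hm, e'⟩ := hy'
    exact hw ⟨m⁻¹ * n, mul_mem (inv_mem hm) hn, by
      rw [show m⁻¹ * n * u * (m⁻¹ * n)⁻¹ = m⁻¹ * (n * u * n⁻¹) * m by group, e, ← e']
      group⟩
  have h7 : (((S : Subgroup X) : Set X) \ {1}).ncard = 7 := by
    rw [Set.ncard_sdiff (Set.singleton_subset_iff.2 (one_mem _)), Set.ncard_singleton,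
      ← Nat.card_coe_set_eq]
    show Nat.card (S : Subgroup X) - 1 = 7
    rw [(hs S).1]
  by_contra! hne
  have hd : Disjoint (O a) (O b) := hdisj a b fun ⟨n, hn, e⟩ => hne n hn e
  have hab : (O a ∪ O b).ncard = (O a).ncard + (O b).ncard := Set.ncard_union_eq hd
  have hU : O a ∪ O b ⊆ ((S : Subgroup X) : Set X) \ {1} := Set.union_subset (hsub a ha ha1) (hsub b hb hb1)
  have hle := Set.ncard_le_ncard hU
  have hoa : Odd (O a).ncard := orb_odd hs S ha
  have hob : Odd (O b).ncard := orb_odd hs S hb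
  rw [Nat.odd_iff] at hoa hob
  have h3a := hbig a ha ha1
  have h3b := hbig b hb hb1
  obtain ⟨c, hc⟩ := Set.ncard_eq_one.1 (show ((((S : Subgroup X) : Set X) \ {1}) \ (O a ∪ O b)).ncard = 1 by
    rw [Set.ncard_sdiff hU, h7, hab]; omega)
  have hcS : c ∈ (((S : Subgroup X) : Set X) \ {1}) \ (O a ∪ O b) := hc ▸ rfl
  have hsubc : O c ⊆ {c} := hc ▸ fun y hy => ⟨hsub c hcS.1.1 hcS.1.2 hy, fun h => h.elim
    (fun h => Set.disjoint_left.1 (hdisj a c fun h' => hcS.2 (Or.inl h')) h hy)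
    (fun h => Set.disjoint_left.1 (hdisj b c fun h' => hcS.2 (Or.inr h')) h hy)⟩
  have := Set.ncard_le_ncard hsubc
  rw [Set.ncard_singleton] at this
  have := hbig c hcS.1.1 hcS.1.2
  omega

/-- An element of the normalizer whose square fixes an element of `S` fixes it. -/
theorem fix_of_sq (hs : SylowEight X) (S : Sylow 2 X) {n u : X}
    (hn : n ∈ normalizer ((S : Subgroup X) : Set X)) (hu : u ∈ (S : Subgroup X))
    (h2 : n * (n * u * n⁻¹) * n⁻¹ = u) : n * u * n⁻¹ = u := by
  haveI : Fact (Nat.Prime 2) := ⟨Nat.prime_two⟩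
  obtain ⟨k, m, hm, hkm⟩ := Nat.exists_eq_two_pow_mul_odd (orderOf_pos n).ne'
  have hnm : n ^ m ∈ (S : Subgroup X) := by
    have hp : IsPGroup 2 (zpowers (n ^ m)) := IsPGroup.of_card (n := k) (by
      have hm0 : m ≠ 0 := fun e => by rw [e] at hm; exact absurd hm (by decide)
      rw [Nat.card_zpowers, orderOf_pow_of_dvd hm0 ⟨2 ^ k, by rw [hkm]; ring⟩, hkm,
        Nat.mul_div_cancel _ (Nat.pos_of_ne_zero hm0)])
    have h1 : n ^ m ∈ zpowers (n ^ m) ⊓ normalizer ((S : Subgroup X) : Set X) :=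
      ⟨mem_zpowers _, pow_mem hn m⟩
    exact ((hp.inf_normalizer_sylow S).le h1).2
  have hmu : Commute (n ^ m) u := comm_eight hs S hnm hu
  have h2' : Commute (n ^ 2) u := by
    rw [pow_two]
    refine mul_inv_eq_iff_eq_mul.1 ?_
    calc n * n * u * (n * n)⁻¹ = n * (n * u * n⁻¹) * n⁻¹ := by group
      _ = u := h2
  obtain ⟨j, rfl⟩ := hm
  rw [pow_succ, pow_mul] at hmu
  have h1 : Commute ((n ^ 2) ^ j)⁻¹ u := (h2'.pow_left j).inv_left
  have h3 := h1.mul_left hmu
  rw [inv_mul_cancel_left] at h3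
  rw [h3.eq, mul_inv_cancel_right]

/-- A non-solvable centralizer moves every element of `S` outside `⟨t⟩`. -/
theorem exists_mover (hs : SylowEight X) (S : Sylow 2 X) {t : X} (htS : t ∈ (S : Subgroup X)) (ht1 : t ≠ 1)
    (hns : ¬ Group.IsSolvable ↥(centralizer ({t} : Set X))) :
    ∃ n ∈ normalizer ((S : Subgroup X) : Set X), Commute n t ∧
      (∀ u ∈ (S : Subgroup X), u ≠ 1 → u ≠ t → n * u * n⁻¹ ≠ u ∧ n * u * n⁻¹ ≠ t * u) ∧
      ∃ a ∈ (S : Subgroup X), ∃ b ∈ (S : Subgroup X), a ≠ 1 ∧ b ≠ 1 ∧ a ≠ b ∧ a ≠ t ∧ b ≠ t ∧ a * b ≠ t ∧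
        n * a * n⁻¹ = b ∧ n * b * n⁻¹ = a * b ∧ n * (a * b) * n⁻¹ = a := by
  classical
  haveI : Fact (Nat.Prime 2) := ⟨Nat.prime_two⟩
  set C := centralizer ({t} : Set X) with hC
  have hle : (S : Subgroup X) ≤ C := le_centralizer_of_mem hs S htS
  have hsq := (hs S).2
  have ht2 := hsq t htS
  obtain ⟨n, hn, hnt, u0, hu0, hmove⟩ : ∃ n ∈ normalizer ((S : Subgroup X) : Set X), Commute n t ∧
      ∃ u ∈ (S : Subgroup X), n * u * n⁻¹ ≠ u := by
    by_contra! h
    refine hns ?_
    have hNC : normalizer (((S.subtype hle : Sylow 2 C) : Subgroup C) : Set C) ≤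
        centralizer (((S.subtype hle : Sylow 2 C) : Subgroup C) : Set C) := by
      intro n hn
      have hnX : (n : X) ∈ normalizer ((S : Subgroup X) : Set X) := by
        refine mem_normalizer_iff.2 fun y => ⟨fun hy => ?_, fun hy => ?_⟩
        · have h1 := (mem_normalizer_iff.1 hn ⟨y, hle hy⟩).1 (by rw [Sylow.coe_subtype, mem_subgroupOf]; exact hy)
          rw [Sylow.coe_subtype, mem_subgroupOf] at h1
          exact h1
        · have hyC : y ∈ C := by
            have := mul_mem (mul_mem (inv_mem n.2) (hle hy)) n.2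
            rwa [show (n : X)⁻¹ * ((n : X) * y * (n : X)⁻¹) * n = y by group] at this
          have h1 := (mem_normalizer_iff.1 hn ⟨y, hyC⟩).2 (by rw [Sylow.coe_subtype, mem_subgroupOf]; exact hy)
          rw [Sylow.coe_subtype, mem_subgroupOf] at h1
          exact h1
      refine mem_centralizer_iff.2 fun y hy => Subtype.ext ?_
      rw [SetLike.mem_coe, Sylow.coe_subtype, mem_subgroupOf] at hy
      have h2 := h n hnX (mem_centralizer_singleton_iff.1 n.2) y hy
      rw [mul_inv_eq_iff_eq_mul] at h2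
      exact h2.symm
    obtain ⟨P, N, hN, hc⟩ := CfsgLib.Fusion.hasNormalPComplement_of_normalizer_le_centralizer _ hNC
    haveI : Group.IsSolvable N := CfsgLib.FT.isSolvable_of_odd _ (by
      rw [← hc.index_eq_card, ← Nat.not_even_iff_odd, even_iff_two_dvd]
      exact P.not_dvd_index)
    obtain ⟨k, hk⟩ := P.2.exists_card_eq
    haveI : Group.IsSolvable (C ⧸ N) := by
      haveI := (IsPGroup.of_card (n := k) (show Nat.card (C ⧸ N) = 2 ^ k by
        rw [← index_eq_card, hc.symm.index_eq_card, hk])).isNilpotent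
      infer_instance
    exact Group.isSolvable_of_ker_le_range N.subtype (QuotientGroup.mk' N) (by simp)
  have hfix : ∀ u ∈ (S : Subgroup X), n * (n * u * n⁻¹) * n⁻¹ = u → n * u * n⁻¹ = u := fun u hu =>
    fix_of_sq hs S hn hu
  set f : X → X := fun u => n * u * n⁻¹ with hf
  have hfmul : ∀ x y : X, f (x * y) = f x * f y := fun x y => by simp only [hf]; group
  have hft : f t = t := by simp only [hf]; rw [hnt.eq, mul_inv_cancel_right]
  have hfS : ∀ {x}, x ∈ (S : Subgroup X) → f x ∈ (S : Subgroup X) := fun hx => mem_norm_conj hn hx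
  have hfinj : ∀ {x y}, f x = f y → x = y := fun e => (MulAut.conj n).injective e
  -- if `u` is fixed or sent to `t u` it is fixed
  have hstep : ∀ u ∈ (S : Subgroup X), f u = t * u → f u = u := fun u hu e => hfix u hu (by
    show f (f u) = u
    rw [e, hfmul, hft, e, ← mul_assoc, ht2, one_mul])
  have hu1 : u0 ≠ 1 := fun e => hmove (by rw [e]; group)
  have hu0t : u0 ≠ t := fun e => hmove (by rw [e]; exact hft)
  set u1 := f u0 with hu1def
  have hu1S := hfS hu0
  have hu11 : u1 ≠ 1 := fun e => hu1 (conj_eq_one_iff.1 e)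
  have hu10 : u1 ≠ u0 := hmove
  have hu1t : u1 ≠ t := fun e => hu0t (hfinj (e.trans hft.symm))
  have hu1tu : u1 ≠ t * u0 := fun e => hmove (hstep u0 hu0 e)
  -- the whole Sylow subgroup
  have hlist : ∀ x ∈ (S : Subgroup X), x = 1 ∨ x = u0 ∨ x = u1 ∨ x = u0 * u1 ∨
      x = t ∨ x = t * u0 ∨ x = t * u1 ∨ x = t * (u0 * u1) := by
    intro x hx
    obtain ⟨hQ, h4, hQl⟩ := pair_le hs S hu0 hu1S hu1 hu11 hu10.symm
    by_cases hxQ : x ∈ closure ({u0, u1} : Set X)
    · rcases hQl x hxQ with h | h | h | h <;> tauto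
    have htQ : t ∉ closure ({u0, u1} : Set X) := fun h => by
      rcases hQl t h with e | e | e | e
      · exact ht1 e
      · exact hu0t e.symm
      · exact hu1t e.symm
      · exact hu1tu (by rw [e, comm_eight hs S hu0 hu1S, mul_assoc, hsq u0 hu0, mul_one])
    have htx : t * x ∈ closure ({u0, u1} : Set X) := by
      have hi : ((closure ({u0, u1} : Set X)).subgroupOf (S : Subgroup X)).index = 2 := by
        have := ((closure ({u0, u1} : Set X)).subgroupOf (S : Subgroup X)).card_mul_index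
        rw [Nat.card_congr (subgroupOfEquivOfLe hQ).toEquiv, h4, (hs S).1] at this
        omega
      exact ((mul_mem_iff_of_index_two hi (a := (⟨t, htS⟩ : (S : Subgroup X))) (b := ⟨x, hx⟩)).2
        (iff_of_false htQ hxQ) :)
    have ex : x = t * (t * x) := by rw [← mul_assoc, ht2, one_mul]
    rcases hQl _ htx with h | h | h | h <;> rw [h] at ex <;> (try rw [mul_one] at ex) <;> tauto
  have hu2S := hfS hu1S
  have hu2 : f u1 = u0 * u1 ∨ f u1 = t * (u0 * u1) := by
    rcases hlist _ hu2S with h | h | h | h | h | h | h | h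
    · exact absurd (conj_eq_one_iff.1 h) hu11
    · exact absurd (hfix u0 hu0 h) hmove
    · exact absurd (hfinj (x := u1) (y := u0) h).symm hu10.symm
    · exact Or.inl h
    · exact absurd (hfinj (h.trans hft.symm)) hu1t
    · refine absurd (hfix u0 hu0 ?_) hmove
      have e1 : f (f (f (f u0))) = u0 := by
        show f (f (f u1)) = u0
        rw [h, hfmul t u0, hft, show f u0 = u1 from rfl, hfmul t u1, hft, h, ← mul_assoc, ht2, one_mul]
      have e2 := fix_of_sq hs S (mul_mem hn hn) hu0 (by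
        refine Eq.trans ?_ e1
        simp only [hf]; group)
      calc n * (n * u0 * n⁻¹) * n⁻¹ = n * n * u0 * (n * n)⁻¹ := by group
        _ = u0 := e2
    · exact absurd (hfix u1 hu1S (by
        show f (f u1) = u1
        rw [h, hfmul, hft, h, ← mul_assoc, ht2, one_mul])) fun e => hu10 (hfinj e)
    · exact Or.inr h
  -- the cycle
  have hcyc : ∀ a b : X, a ∈ (S : Subgroup X) → b ∈ (S : Subgroup X) → f a = b → f b = a * b →
      f (a * b) = a := fun a b ha hb ea eb => by
    rw [hfmul, ea, eb, ← mul_assoc, comm_eight hs S hb ha, mul_assoc, hsq b hb, mul_one]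
  obtain ⟨a, haS, b, hbS, ha1, hb1, hab, hat, hbt, habt, ea, eb⟩ : ∃ a ∈ (S : Subgroup X),
      ∃ b ∈ (S : Subgroup X), a ≠ 1 ∧ b ≠ 1 ∧ a ≠ b ∧ a ≠ t ∧ b ≠ t ∧ a * b ≠ t ∧ f a = b ∧ f b = a * b := by
    have htu0 : t * u0 ≠ 1 := fun e => hu0t (by
      rw [← one_mul u0, ← ht2, mul_assoc, e, mul_one])
    rcases hu2 with h | h
    · exact ⟨u0, hu0, u1, hu1S, hu1, hu11, hu10.symm, hu0t, hu1t, fun e => hu1tu (by
        rw [← e, comm_eight hs S hu0 hu1S, mul_assoc, hsq u0 hu0, mul_one]), rfl, h⟩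
    · have eprod : t * u0 * (t * u1) = u0 * u1 := by
        rw [comm_eight hs S htS hu0, mul_assoc, ← mul_assoc t t, ht2, one_mul]
      refine ⟨t * u0, mul_mem htS hu0, t * u1, mul_mem htS hu1S, htu0, fun e => hu1t ?_, fun e =>
        hu10 (mul_left_cancel e).symm, fun e => hu1 (mul_eq_left.1 e), fun e => hu11 (mul_eq_left.1 e), ?_, ?_, ?_⟩
      · rw [← one_mul u1, ← ht2, mul_assoc, e, mul_one]
      · rw [eprod]
        exact fun e => hu1tu (by
          rw [← e, comm_eight hs S hu0 hu1S, mul_assoc, hsq u0 hu0, mul_one])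
      · rw [hfmul, hft]
      · rw [eprod, hfmul, hft, h, ← mul_assoc, ht2, one_mul]
  refine ⟨n, hn, hnt, fun u hu hu1' hut => ?_, a, haS, b, hbS, ha1, hb1, hab, hat, hbt, habt, ea, eb,
    hcyc a b haS hbS ea eb⟩
  have hne : f u ≠ u := by
    intro e
    rcases hlist u hu with h | h | h | h | h | h | h | h
    · exact hu1' h
    · exact hmove (h ▸ e)
    · rw [h] at e; exact hu10 (hfinj e)
    · rw [h, hfmul, show f u0 = u1 from rfl] at e
      rcases hu2 with h' | h' <;> rw [h'] at e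
      · rw [← mul_assoc, comm_eight hs S hu1S hu0, mul_assoc, hsq u1 hu1S, mul_one] at e
        exact hu11 (mul_eq_left.1 e.symm)
      · rw [← mul_assoc, comm_eight hs S hu1S htS, mul_assoc, ← mul_assoc u1, comm_eight hs S hu1S hu0,
          mul_assoc, hsq u1 hu1S, mul_one] at e
        exact hu1t (mul_left_cancel (e.symm.trans (comm_eight hs S htS hu0)))
    · exact hut h
    · rw [h, hfmul, hft] at e
      exact hmove (mul_left_cancel e)
    · rw [h, hfmul, hft] at e
      exact hu10 (hfinj (mul_left_cancel e))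
    · rw [h, hfmul, hft, hfmul, show f u0 = u1 from rfl] at e
      have e' := mul_left_cancel e
      rcases hu2 with h' | h' <;> rw [h'] at e'
      · rw [← mul_assoc, comm_eight hs S hu1S hu0, mul_assoc, hsq u1 hu1S, mul_one] at e'
        exact hu11 (mul_eq_left.1 e'.symm)
      · rw [← mul_assoc, comm_eight hs S hu1S htS, mul_assoc, ← mul_assoc u1, comm_eight hs S hu1S hu0,
          mul_assoc, hsq u1 hu1S, mul_one] at e'
        exact hu1t (mul_left_cancel (e'.symm.trans (comm_eight hs S htS hu0)))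
  exact ⟨hne, fun e => hne (hstep u hu e)⟩

end CfsgLib.Walter.Core
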