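import Cfsg.Agent.Lib.Walter.Core.Eight

/-!
# Four groups and simple components for Sylow `2`-subgroups of order eight and exponent two
-/

set_option autoImplicit false
set_option linter.style.haveILetI false
set_option linter.unusedSectionVars false

open Subgroup

namespace CfsgLib.Walter.Core

universe u

variable {X : Type u} [Group X] [Finite X]

/-- The four group `⟨x, y⟩` has an element of the normalizer permuting its involutions cyclically. -/
def HasCycle (S : Subgroup X) (x y : X) : Prop :=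
  ∃ n ∈ normalizer (S : Set X), (n * x * n⁻¹ = y ∧ n * y * n⁻¹ = x * y ∧ n * (x * y) * n⁻¹ = x) ∨
    (n * x * n⁻¹ = x * y ∧ n * (x * y) * n⁻¹ = y ∧ n * y * n⁻¹ = x)

theorem hasCycle_conj {S : Subgroup X} {x y g : X} (hg : g ∈ normalizer (S : Set X)) (h : HasCycle S x y) :
    HasCycle S (g * x * g⁻¹) (g * y * g⁻¹) := by
  obtain ⟨n, hn, hc⟩ := h
  have key : ∀ p q : X, n * p * n⁻¹ = q → g * n * g⁻¹ * (g * p * g⁻¹) * (g * n * g⁻¹)⁻¹ = g * q * g⁻¹ := by
    intro p q e
    rw [← e]; group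
  refine ⟨g * n * g⁻¹, mul_mem (mul_mem hg hn) (inv_mem hg), ?_⟩
  rw [show g * x * g⁻¹ * (g * y * g⁻¹) = g * (x * y) * g⁻¹ by group]
  rcases hc with ⟨h1, h2, h3⟩ | ⟨h1, h2, h3⟩
  · exact Or.inl ⟨key _ _ h1, key _ _ h2, key _ _ h3⟩
  · exact Or.inr ⟨key _ _ h1, key _ _ h2, key _ _ h3⟩

theorem hasCycle_mul {S : Subgroup X} {x y : X} (hsq : x * x = 1) (h : HasCycle S x y) :
    HasCycle S x (x * y) := by
  obtain ⟨n, hn, hc⟩ := h
  refine ⟨n, hn, ?_⟩
  rw [show x * (x * y) = y by rw [← mul_assoc, hsq, one_mul]]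
  exact hc.symm

/-- A mover fixing `x` makes the four groups through `x` conjugate. -/
theorem exists_to_base (hs : SylowEight X) (S : Sylow 2 X) {n x a b : X}
    (hn : n ∈ normalizer ((S : Subgroup X) : Set X)) (hnt : Commute n x) (hx : x ∈ (S : Subgroup X))
    (haS : a ∈ (S : Subgroup X)) (hbS : b ∈ (S : Subgroup X)) (hx1 : x ≠ 1) (ha1 : a ≠ 1) (hb1 : b ≠ 1)
    (hab : a ≠ b) (hax : a ≠ x) (hbx : b ≠ x) (habx : a * b ≠ x) (ea : n * a * n⁻¹ = b)
    (eb : n * b * n⁻¹ = a * b) (ec : n * (a * b) * n⁻¹ = a) :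
    ∀ z ∈ (S : Subgroup X), z ≠ 1 → z ≠ x → ∃ g ∈ normalizer ((S : Subgroup X) : Set X),
      g * x * g⁻¹ = x ∧ (g * z * g⁻¹ = a ∨ g * z * g⁻¹ = x * a) := by
  intro z hz hz1 hzx
  have hxx := (hs S).2 x hx
  have hl : z = a ∨ z = b ∨ z = a * b ∨ z = x * a ∨ z = x * b ∨ z = x * (a * b) := by
    obtain ⟨hQ, h4, hQl⟩ := pair_le hs S haS hbS ha1 hb1 hab
    have hi : ((closure ({a, b} : Set X)).subgroupOf (S : Subgroup X)).index = 2 := by
      have := ((closure ({a, b} : Set X)).subgroupOf (S : Subgroup X)).card_mul_index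
      rw [Nat.card_congr (subgroupOfEquivOfLe hQ).toEquiv, h4, (hs S).1] at this
      omega
    have hxQ : x ∉ closure ({a, b} : Set X) := fun h => by
      rcases hQl x h with e | e | e | e
      exacts [hx1 e, hax e.symm, hbx e.symm, habx e.symm]
    by_cases hzQ : z ∈ closure ({a, b} : Set X)
    · rcases hQl z hzQ with e | e | e | e
      exacts [absurd e hz1, Or.inl e, Or.inr (Or.inl e), Or.inr (Or.inr (Or.inl e))]
    · have h1 : x * z ∈ closure ({a, b} : Set X) :=
        ((mul_mem_iff_of_index_two hi (a := (⟨x, hx⟩ : (S : Subgroup X))) (b := ⟨z, hz⟩)).2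
          (iff_of_false hxQ hzQ) :)
      have ez : z = x * (x * z) := by rw [← mul_assoc, hxx, one_mul]
      rcases hQl _ h1 with e | e | e | e <;> rw [e] at ez
      · exact absurd (ez.trans (mul_one x)) hzx
      · exact Or.inr (Or.inr (Or.inr (Or.inl ez)))
      · exact Or.inr (Or.inr (Or.inr (Or.inr (Or.inl ez))))
      · exact Or.inr (Or.inr (Or.inr (Or.inr (Or.inr ez))))
  have hnx : n * x * n⁻¹ = x := by rw [hnt.eq, mul_inv_cancel_right]
  have e1 : ∀ p : X, n * (x * p) * n⁻¹ = x * (n * p * n⁻¹) := fun p => by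
    rw [show n * (x * p) * n⁻¹ = (n * x * n⁻¹) * (n * p * n⁻¹) by group, hnx]
  have hn2 : ∀ p : X, n * n * p * (n * n)⁻¹ = n * (n * p * n⁻¹) * n⁻¹ := fun p => by group
  rcases hl with e | e | e | e | e | e <;> subst e
  · exact ⟨1, one_mem _, by group, Or.inl (by group)⟩
  · exact ⟨n * n, mul_mem hn hn, by rw [hn2, hnx, hnx], Or.inl (by rw [hn2, eb, ec])⟩
  · exact ⟨n, hn, hnx, Or.inl ec⟩
  · exact ⟨1, one_mem _, by group, Or.inr (by group)⟩
  · exact ⟨n * n, mul_mem hn hn, by rw [hn2, hnx, hnx], Or.inr (by rw [hn2, e1, eb, e1, ec])⟩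
  · exact ⟨n, hn, hnx, Or.inr (by rw [e1, ec])⟩

/-- All four groups of `S` have a cycle, when all centralizers of its involutions are non-solvable. -/
theorem hasCycle (hs : SylowEight X) (hno : ∀ M : Subgroup X, M.Normal → M.index ≠ 2) (S : Sylow 2 X)
    (hns : ∀ t ∈ (S : Subgroup X), t ≠ 1 → ¬ Group.IsSolvable ↥(centralizer ({t} : Set X)))
    {x y : X} (hx : x ∈ (S : Subgroup X)) (hy : y ∈ (S : Subgroup X)) (hx1 : x ≠ 1) (hy1 : y ≠ 1) (hxy : x ≠ y) :
    HasCycle (S : Subgroup X) x y := by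
  obtain ⟨n, hn, hnt, -, a, haS, b, hbS, ha1, hb1, hab, hax, hbx, habx, ea, eb, ec⟩ :=
    exists_mover hs S hx hx1 (hns x hx hx1)
  have hxx := (hs S).2 x hx
  have key := exists_to_base hs S hn hnt hx haS hbS hx1 ha1 hb1 hab hax hbx habx ea eb ec
  -- all pairs reduce to `(x, a)`
  have hab' : HasCycle (S : Subgroup X) a b := ⟨n, hn, Or.inl ⟨ea, eb, ec⟩⟩
  obtain ⟨g0, hg0, e0⟩ := transitive hs hno S haS ha1 hx hx1
  have h0 := hasCycle_conj hg0 hab'
  rw [e0] at h0
  have hz1 : g0 * b * g0⁻¹ ≠ 1 := fun e => hb1 (conj_eq_one_iff.1 e)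
  have hzx : g0 * b * g0⁻¹ ≠ x := fun e => hab ((MulAut.conj g0).injective (e.trans e0.symm)).symm
  obtain ⟨g1, hg1, e1x, e1⟩ := key _ (mem_norm_conj hg0 hbS) hz1 hzx
  have h1 := hasCycle_conj hg1 h0
  rw [e1x] at h1
  have hxa : HasCycle (S : Subgroup X) x a := by
    rcases e1 with e | e <;> rw [e] at h1
    · exact h1
    · have := hasCycle_mul hxx h1
      rwa [← mul_assoc, hxx, one_mul] at this
  obtain ⟨g, hg, ex, e⟩ := key y hy hy1 hxy.symm
  have h2 : HasCycle (S : Subgroup X) x (g * y * g⁻¹) := by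
    rcases e with e | e <;> rw [e]
    · exact hxa
    · exact hasCycle_mul hxx hxa
  have h3 := hasCycle_conj (inv_mem hg) h2
  rwa [show g⁻¹ * x * g⁻¹⁻¹ = x by
      calc g⁻¹ * x * g⁻¹⁻¹ = g⁻¹ * (g * x * g⁻¹) * g⁻¹⁻¹ := by rw [ex]
        _ = x := by group,
    show g⁻¹ * (g * y * g⁻¹) * g⁻¹⁻¹ = y by group] at h3

/-- A normal subgroup whose order is prime to two is trivial when the odd core is. -/
theorem eq_bot_of_odd_normal (hO : Cfsg.oddCore X = ⊥) (W : Subgroup X) [W.Normal] (hW : Odd (Nat.card W)) :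
    W = ⊥ :=
  le_bot_iff.1 (hO ▸ CfsgLib.Coprime.le_pPrimeCore (Nat.coprime_two_right.2 hW))

/-- Either the involution is central or there is a simple normal subgroup with the whole Sylow subgroup. -/
theorem central_or_simple (hs : SylowEight X) (hO : Cfsg.oddCore X = ⊥) {t : X} (ht : orderOf t = 2)
    (hns : ¬ Group.IsSolvable ↥(centralizer ({t} : Set X))) :
    (∀ x : X, Commute x t) ∨ ∃ K : Subgroup X, K.Normal ∧ IsSimpleGroup K ∧ ¬ IsMulCommutative K ∧
      SylowEight K ∧ Odd K.index ∧ ∀ S : Sylow 2 X, (S : Subgroup X) ≤ K := by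
  classical
  haveI : Fact (Nat.Prime 2) := ⟨Nat.prime_two⟩
  have hab := abTwo_of_eight hs
  have ht1 : t ≠ 1 := CfsgLib.Invol.invol_ne_one ht
  obtain ⟨S, htS⟩ := exists_sylow_of_invol ht
  obtain ⟨K, hK⟩ := Rank.exists_component hO hab fun h => hns (by haveI := h; infer_instance)
  obtain ⟨hKs, hKnc⟩ := Rank.simple_component hO hab hK
  -- the trace in `S` has order at least four
  have hbig : ∀ L : Subgroup X, Cfsg.IsComponent L → ∀ P : Sylow 2 X,
      4 ≤ Nat.card ((P : Subgroup X) ⊓ L : Subgroup X) := by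
    intro L hL P
    obtain ⟨R, hR, hR1⟩ := Rank.exists_sylow_component hO P hL
    rw [← hR, card_map_of_injective L.subtype_injective]
    obtain ⟨k, hk⟩ := R.2.exists_card_eq
    rcases k with _ | _ | k
    · rw [pow_zero] at hk; exact absurd (Subgroup.card_eq_one.1 hk) hR1
    · exfalso
      rw [zero_add, pow_one] at hk
      obtain ⟨hs', hnc'⟩ := Rank.simple_component hO hab hL
      haveI := hs'
      have hcy : IsCyclic (R : Subgroup L) := isCyclic_of_prime_card hk
      obtain ⟨P', N, hN, hc⟩ := CfsgLib.Fusion.hasNormalPComplement_of_normalizer_le_centralizer R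
        (IsCyclic.normalizer_le_centralizer ((Nat.minFac_eq_two_iff _).2
          (hk ▸ card_subgroup_dvd_card (R : Subgroup L))) hcy)
      rcases hN.eq_bot_or_eq_top with e | e
      · have hP : (P' : Subgroup L) = ⊤ := isComplement'_bot_left.1 (e ▸ hc)
        refine hnc' ⟨⟨fun x y => ?_⟩⟩
        exact congrArg Subtype.val (Rank.abTwo_subgroup hab L P' ⟨x, hP.ge (mem_top x)⟩ ⟨y, hP.ge (mem_top y)⟩)
      · have hd := hc.index_eq_card
        rw [e, card_top] at hd
        have h1 := (P' : Subgroup L).card_mul_index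
        rw [hd] at h1
        have hP : (P' : Subgroup L) = ⊥ := Subgroup.card_eq_one.1
          (Nat.eq_of_mul_eq_mul_right Nat.card_pos (h1.trans (one_mul _).symm))
        have h2 : 2 ∣ Nat.card L := hk ▸ card_subgroup_dvd_card _
        exact P'.ne_bot_of_dvd_card h2 hP
    · rw [hk, pow_succ, pow_succ]
      have := Nat.one_le_two_pow (n := k)
      omega
  -- uniqueness, hence normality
  have huniq : ∀ L : Subgroup X, Cfsg.IsComponent L → L = K := by
    intro L hL
    by_contra hne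
    have hc := CfsgLib.Coprime.commutator_eq_bot_iff_forall.1 (CfsgLib.Coprime.components_commute hL hK hne)
    set A := (S : Subgroup X) ⊓ L with hA
    set B := (S : Subgroup X) ⊓ K with hB
    have hdis : Disjoint A B := disjoint_iff.2 (eq_bot_iff.2 fun x hx => Subgroup.mem_bot.2 (by
      have h1 : x ∈ K ⊓ centralizer (K : Set X) := ⟨hx.2.2, mem_centralizer_iff.2 fun y hy =>
        (hc x hx.1.2 y hy).symm⟩
      rwa [Rank.component_inf_centralizer hO hab hK, Subgroup.mem_bot] at h1))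
    have hmap : Function.Injective (fun p : A × B => (⟨(p.1 : X) * p.2,
        mul_mem p.1.2.1 p.2.2.1⟩ : (S : Subgroup X))) := fun p q e =>
      Subgroup.mul_injective_of_disjoint hdis (congrArg Subtype.val e)
    have := Nat.card_le_card_of_injective _ hmap
    rw [Nat.card_prod, (hs S).1] at this
    have h1 := hbig L hL S
    have h2 := hbig K hK S
    nlinarith
  haveI hKn : K.Normal := ⟨fun x hx g => by
    have h1 : Cfsg.IsComponent (CfsgLib.Coprime.conjBy g K) :=
      CfsgLib.Coprime.isComponent_map_equiv (MulAut.conj g) hK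
    rw [← huniq _ h1]
    exact CfsgLib.Coprime.mem_conjBy.2 (by
      rw [show g⁻¹ * (g * x * g⁻¹) * g = x by group]; exact hx)⟩
  by_cases h8 : (S : Subgroup X) ≤ K
  · refine Or.inr ⟨K, hKn, hKs, hKnc, fun R => ?_, ?_, fun P => ?_⟩
    · have h1 : Nat.card (R : Subgroup K) = 8 := by
        rw [R.card_eq_multiplicity]
        have hd : Nat.card K ∣ Nat.card X := card_subgroup_dvd_card K
        have h3 : 2 ^ 3 ∣ Nat.card K := by
          have := card_dvd_of_le h8
          rwa [(hs S).1] at this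
        have h4 : ¬ 2 ^ 4 ∣ Nat.card X := fun h => by
          have := S.pow_dvd_card_of_pow_dvd_card h
          rw [(hs S).1] at this
          exact absurd (Nat.le_of_dvd (by norm_num) this) (by norm_num)
        have e3 := (Nat.prime_two.pow_dvd_iff_le_factorization Nat.card_pos.ne').1 h3
        have e4 : (Nat.card K).factorization 2 < 4 := by
          by_contra hlt
          exact h4 (((Nat.prime_two.pow_dvd_iff_le_factorization Nat.card_pos.ne').2 (not_lt.1 hlt)).trans hd)
        rw [show (Nat.card K).factorization 2 = 3 by omega]; rfl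
      refine ⟨h1, fun x hx => ?_⟩
      obtain ⟨P, hP⟩ := (R.2.map K.subtype).exists_le_sylow
      exact Subtype.ext ((hs P).2 _ (hP (mem_map_of_mem K.subtype hx)))
    · rw [← Nat.not_even_iff_odd, even_iff_two_dvd]
      exact fun h => S.not_dvd_index (h.trans (index_dvd_of_le h8))
    · obtain ⟨g, hg⟩ := MulAction.exists_smul_eq X S P
      rw [← hg, Sylow.coe_subgroup_smul]
      rintro _ ⟨x, hx, rfl⟩
      exact hKn.conj_mem x (h8 hx) g
  refine Or.inl fun x => ?_
  obtain ⟨n, hn, hnt, hmv, -⟩ := exists_mover hs S htS ht1 hns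
  have hV : Nat.card ((S : Subgroup X) ⊓ K : Subgroup X) = 4 := by
    have h1 := hbig K hK S
    have hd : Nat.card ((S : Subgroup X) ⊓ K : Subgroup X) ∣ 8 := (hs S).1 ▸ card_dvd_of_le inf_le_left
    have hne : Nat.card ((S : Subgroup X) ⊓ K : Subgroup X) ≠ 8 := fun e => h8 (by
      have := eq_of_le_of_card_ge (inf_le_left : (S : Subgroup X) ⊓ K ≤ _) (by rw [e, (hs S).1])
      exact this ▸ inf_le_right)
    obtain ⟨k, hk3, hk⟩ := (Nat.dvd_prime_pow Nat.prime_two).1 (show _ ∣ 2 ^ 3 from hd)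
    rw [hk] at h1 hne ⊢
    interval_cases k <;> omega
  -- `t` is outside `K`
  have htK : t ∉ K := fun htK => by
    have htV : t ∈ (S : Subgroup X) ⊓ K := ⟨htS, htK⟩
    obtain ⟨v, hv, hv1, hvt⟩ : ∃ v ∈ (S : Subgroup X) ⊓ K, v ≠ 1 ∧ v ≠ t := by
      by_contra! h
      have hle : (S : Subgroup X) ⊓ K ≤ zpowers t := fun z hz => by
        by_cases hz1 : z = 1
        · exact hz1 ▸ one_mem _
        · exact h z hz hz1 ▸ mem_zpowers t
      have := card_dvd_of_le hle
      rw [hV, Nat.card_zpowers, ht] at this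
      norm_num at this
    obtain ⟨hle, h4, hl⟩ := pair_le hs S htS hv.1 ht1 hv1 hvt.symm
    have heq : closure ({t, v} : Set X) = (S : Subgroup X) ⊓ K := eq_of_le_of_card_ge
      ((closure_le _).2 (by rintro w (rfl | rfl) <;> assumption)) (by rw [hV, h4])
    have hw : n * v * n⁻¹ ∈ closure ({t, v} : Set X) :=
      heq ▸ ⟨mem_norm_conj hn hv.1, hKn.conj_mem v hv.2 n⟩
    obtain ⟨m1, m2⟩ := hmv v hv.1 hv1 hvt
    rcases hl _ hw with e | e | e | e
    · exact hv1 (conj_eq_one_iff.1 e)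
    · exact hvt ((MulAut.conj n).injective (e.trans (by rw [MulAut.conj_apply, hnt.eq, mul_inv_cancel_right])))
    · exact m1 e
    · exact m2 e
  obtain ⟨v, hv, hvc⟩ := Rank.exists_split hO hab S hK htS
  set C := centralizer (K : Set X) with hC
  haveI hCn : C.Normal := Subgroup.normal_centralizer
  have hCK : K ⊓ C = ⊥ := Rank.component_inf_centralizer hO hab hK
  -- the two-part of `C` has order at most two
  obtain ⟨R, hR⟩ : ∃ R : Sylow 2 C, (R : Subgroup C).map C.subtype = (S : Subgroup X) ⊓ C :=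
    CfsgLib.LS.sylow_inf_subnormal S (Normal.isSubnormal inferInstance)
  have hR2 : Nat.card (R : Subgroup C) ≤ 2 := by
    have e : Nat.card (R : Subgroup C) = Nat.card ((S : Subgroup X) ⊓ C : Subgroup X) := by
      rw [← hR, card_map_of_injective C.subtype_injective]
    set A := (S : Subgroup X) ⊓ K with hA
    set B := (S : Subgroup X) ⊓ C with hB
    have hdis : Disjoint A B := disjoint_iff.2 (eq_bot_iff.2 fun z hz => hCK ▸ ⟨hz.1.2, hz.2.2⟩)
    have hmap : Function.Injective (fun p : A × B => (⟨(p.1 : X) * p.2,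
        mul_mem p.1.2.1 p.2.2.1⟩ : (S : Subgroup X))) := fun p q e =>
      Subgroup.mul_injective_of_disjoint hdis (congrArg Subtype.val e)
    have := Nat.card_le_card_of_injective _ hmap
    rw [Nat.card_prod, (hs S).1, hV] at this
    omega
  set z := t * v⁻¹ with hz
  have hzS : z ∈ (S : Subgroup X) := mul_mem htS (inv_mem hv.1)
  have hz1 : z ≠ 1 := fun e => htK (by rw [mul_inv_eq_one.1 e]; exact hv.2)
  have hzR : (⟨z, hvc⟩ : C) ∈ (R : Subgroup C) := by
    obtain ⟨w, hw, e⟩ := hR.ge (show z ∈ (S : Subgroup X) ⊓ C from ⟨hzS, hvc⟩)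
    exact (Subtype.ext e : w = ⟨z, hvc⟩) ▸ hw
  have hR2' : Nat.card (R : Subgroup C) = 2 := by
    refine le_antisymm hR2 ?_
    by_contra hlt
    have h1 : Nat.card (R : Subgroup C) = 1 := by have := Nat.card_pos (α := (R : Subgroup C)); omega
    rw [Subgroup.card_eq_one.1 h1, Subgroup.mem_bot] at hzR
    exact hz1 (congrArg Subtype.val hzR)
  -- `C` has a normal complement, which is trivial
  obtain ⟨P', N, hN, hc⟩ := CfsgLib.Fusion.hasNormalPComplement_of_normalizer_le_centralizer R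
    (IsCyclic.normalizer_le_centralizer ((Nat.minFac_eq_two_iff _).2
      (hR2' ▸ card_subgroup_dvd_card (R : Subgroup C))) (isCyclic_of_prime_card hR2'))
  have hNodd : Odd (Nat.card N) := by
    rw [← hc.index_eq_card, ← Nat.not_even_iff_odd, even_iff_two_dvd]
    exact P'.not_dvd_index
  haveI := hN
  have hNle : N ≤ Cfsg.oddCore C := CfsgLib.Coprime.le_pPrimeCore (Nat.coprime_two_right.2 hNodd)
  have hcoreC : Cfsg.oddCore C = ⊥ := (map_eq_bot_iff_of_injective _ C.subtype_injective).1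
    (le_bot_iff.1 (hO ▸ CfsgLib.Coprime.pPrimeCore_map_subtype_eq Nat.prime_two C ▸ inf_le_left))
  have hPtop : (P' : Subgroup C) = ⊤ := isComplement'_bot_left.1 ((le_bot_iff.1 (hcoreC ▸ hNle) : N = ⊥) ▸ hc)
  have hCc : ∀ c : C, (c : X) = 1 ∨ (c : X) = z := by
    intro c
    have hc2 : Nat.card C = 2 := by
      rw [← card_top (G := C), ← hPtop, P'.card_eq_multiplicity, ← R.card_eq_multiplicity, hR2']
    by_contra! h
    obtain ⟨w, -, hw⟩ := (Nat.card_eq_two_iff' (1 : C)).1 hc2
    have h1 : c = w := hw c fun e => h.1 (congrArg Subtype.val e)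
    have h2 : (⟨z, hvc⟩ : C) = w := hw _ fun e => hz1 (congrArg Subtype.val e)
    exact h.2 (congrArg Subtype.val (h1.trans h2.symm))
  have hzc : ∀ g : X, Commute g z := fun g => by
    rcases hCc ⟨g * z * g⁻¹, hCn.conj_mem z hvc g⟩ with e | e
    · exact absurd (conj_eq_one_iff.1 e) hz1
    · exact mul_inv_eq_iff_eq_mul.1 e
  have hzt : z = t := by
    by_contra hne
    exact (hmv z hzS hz1 hne).1 (by rw [(hzc n).eq, mul_inv_cancel_right])
  exact hzt ▸ hzc x

end CfsgLib.Walter.Core
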