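import Cfsg.Agent.Lib.GW.XSub
import Cfsg.Agent.Lib.Walter.Defs

/-!
# Groups over `PSL(2, q)`, `q ≡ 3, 5 (mod 8)`: elements of odd order, four groups, generation
-/

set_option autoImplicit false
set_option linter.style.haveILetI false
set_option linter.unusedSectionVars false

open Subgroup

namespace CfsgLib.Walter.Core

open CfsgLib.GW

universe u

/-- A group between `PSL(2, q)` and its automorphism group with four groups as Sylow `2`-subgroups. -/
structure PslData (X : Type u) [Group X] [Finite X] where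
  M : Subgroup X
  [normal : M.Normal]
  F : Type
  [field : Field F]
  [fintype : Fintype F]
  e : M ≃* Matrix.ProjectiveSpecialLinearGroup (Fin 2) F
  cent : centralizer (M : Set X) = ⊥
  five_le : 5 ≤ Fintype.card F
  mod_eight : Fintype.card F % 8 = 3 ∨ Fintype.card F % 8 = 5
  dih : DihTwo X
  index_odd : Odd M.index

attribute [instance] PslData.field PslData.fintype PslData.normal

variable {X : Type u} [Group X] [Finite X] (P : PslData X)

theorem orderOf_dvd_of_mem {H : Subgroup X} {x : X} (hx : x ∈ H) : orderOf x ∣ Nat.card H :=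
  Subgroup.orderOf_dvd_natCard H hx

namespace PslData

theorem odd_card : Odd (Fintype.card P.F) := by
  rw [Nat.odd_iff]
  rcases P.mod_eight with h | h <;> omega

theorem two_ne : (2 : P.F) ≠ 0 :=
  CfsgLib.Perm.Dickson.two_ne_zero_of_odd (by rw [Nat.card_eq_fintype_card]; exact P.odd_card)

/-- An element inverted, modulo `M`, by a two-element lies in `M`. -/
theorem mem_of_inverted {x a : X} (hx : Odd (orderOf x)) (ha : a ∈ P.M) (h : a * x * a⁻¹ = x⁻¹) : x ∈ P.M := by
  have h1 : a * (x * a⁻¹ * x⁻¹) ∈ P.M := mul_mem ha (P.normal.conj_mem _ (inv_mem ha) x)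
  have h2 : (x⁻¹) ^ 2 ∈ P.M := by
    rwa [pow_two, show x⁻¹ * x⁻¹ = a * (x * a⁻¹ * x⁻¹) by rw [← mul_assoc, ← mul_assoc, h]]
  obtain ⟨k, hk⟩ := hx
  have h3 : (x⁻¹ ^ 2) ^ (k + 1) = x⁻¹ := by
    rw [← pow_mul, show 2 * (k + 1) = orderOf x⁻¹ + 1 by rw [orderOf_inv]; omega, pow_add, pow_orderOf_eq_one,
      one_mul, pow_one]
  exact inv_mem_iff.1 (h3 ▸ pow_mem h2 (k + 1))

/-- Two-elements lie in `M`. -/
theorem mem_of_two {a : X} {k : ℕ} (ha : orderOf a = 2 ^ k) : a ∈ P.M := by
  have hd := orderOf_map_dvd (QuotientGroup.mk' P.M) a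
  have hd2 := orderOf_dvd_natCard (QuotientGroup.mk' P.M a)
  rw [ha] at hd
  rw [← Subgroup.index_eq_card] at hd2
  exact (QuotientGroup.eq_one_iff a).1 (orderOf_eq_one_iff.1 (Nat.eq_one_of_dvd_coprimes
    (Nat.Coprime.pow_left k (Nat.coprime_two_left.2 P.index_odd)) hd hd2))

theorem mem_of_invol {a : X} (ha : orderOf a = 2) : a ∈ P.M := P.mem_of_two (k := 1) (by rw [ha, pow_one])

theorem eq_one_of_commute_M {x : X} (h : ∀ m ∈ P.M, Commute x m) : x = 1 := by
  have h1 : x ∈ centralizer (P.M : Set X) := mem_centralizer_iff.2 fun m hm => (h m hm).eq.symm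
  rwa [P.cent, mem_bot] at h1

/-- An odd subgroup normalized by `M` is trivial. -/
theorem eq_bot_of_odd_normalized {U : Subgroup X} (hU : Odd (Nat.card U))
    (hn : ∀ m ∈ P.M, ∀ u ∈ U, m * u * m⁻¹ ∈ U) : U = ⊥ := by
  obtain ⟨hs, -⟩ := CfsgLib.Perm.Dickson.psl_simple_noncomm (F := P.F)
    (by rw [Nat.card_eq_fintype_card]; have := P.five_le; omega)
  haveI := hs
  haveI : IsSimpleGroup P.M := P.e.isSimpleGroup
  refine (eq_bot_iff_forall _).2 fun u hu => P.eq_one_of_commute_M fun m hm => ?_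
  have hc : ∀ m ∈ P.M, m * u * m⁻¹ * u⁻¹ ∈ U ⊓ P.M := fun m hm => mem_inf.2
    ⟨mul_mem (hn m hm u hu) (inv_mem hu), by
      rw [mul_assoc, mul_assoc, ← mul_assoc u m⁻¹ u⁻¹]
      exact mul_mem hm (P.normal.conj_mem _ (inv_mem hm) u)⟩
  have hI : (U ⊓ P.M).subgroupOf P.M = ⊥ := by
    haveI : ((U ⊓ P.M).subgroupOf P.M).Normal := ⟨fun v hv w => by
      rw [mem_subgroupOf] at hv ⊢
      exact mem_inf.2 ⟨hn _ w.2 _ (mem_inf.1 hv).1, (w * v * w⁻¹ : P.M).2⟩⟩
    refine (Subgroup.Normal.eq_bot_or_eq_top inferInstance).resolve_right fun htop => ?_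
    have hle : P.M ≤ U := fun w hw => (mem_inf.1 ((Subgroup.subgroupOf_eq_top.1 htop) hw)).1
    have h2 : 2 ∣ Nat.card P.M := by
      haveI : Fact (Nat.Prime 2) := ⟨Nat.prime_two⟩
      obtain ⟨S⟩ : Nonempty (Sylow 2 X) := inferInstance
      obtain ⟨n, hn2, ⟨eS⟩⟩ := P.dih S
      have he : orderOf ((eS.symm (DihedralGroup.sr 0) : (S : Subgroup X)) : X) = 2 := by
        rw [Subgroup.orderOf_coe, MulEquiv.orderOf_eq, DihedralGroup.orderOf_sr]
      exact he ▸ orderOf_dvd_of_mem (P.mem_of_invol he)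
    exact Nat.not_even_iff_odd.2 hU (even_iff_two_dvd.2 (h2.trans (card_dvd_of_le hle)))
  have h1 := hc m hm
  have h2 : m * u * m⁻¹ * u⁻¹ = 1 := by
    have : (⟨_, (mem_inf.1 h1).2⟩ : P.M) ∈ (U ⊓ P.M).subgroupOf P.M := mem_subgroupOf.2 h1
    rw [hI, mem_bot] at this
    exact congrArg Subtype.val this
  rw [mul_inv_eq_one, mul_inv_eq_iff_eq_mul] at h2
  exact h2.symm

/-- Commuting with a non-trivial element of odd order passes the centralizer of an involution on. -/
theorem commute_trans {a x y : X} (ha : orderOf a = 2) (hx : x ∈ P.M) (hy : y ∈ P.M) (hx1 : x ≠ 1)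
    (hxo : Odd (orderOf x)) (hyo : Odd (orderOf y)) (hxa : Commute x a) (hyx : Commute y x) : Commute y a := by
  have hinj := conjVia_injective P.M P.e P.cent
  obtain ⟨ga, hga⟩ := (mem_diagPart P.M P.e).1 (le_diagPart P.M P.e (P.mem_of_invol ha))
  obtain ⟨gx, hgx⟩ := (mem_diagPart P.M P.e).1 (le_diagPart P.M P.e hx)
  obtain ⟨gy, hgy⟩ := (mem_diagPart P.M P.e).1 (le_diagPart P.M P.e hy)
  have h := Two.commute_trans (a := ga) (x := gx) (y := gy)
    (by rw [← hgx]; exact fun h => hx1 (hinj (h.trans (map_one _).symm)))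
    (by rw [← hgx, orderOf_injective _ hinj]; exact hxo)
    (by rw [← hgy, orderOf_injective _ hinj]; exact hyo)
    (by rw [← hgx, ← hga]; exact hxa.map _) (by rw [← hgy, ← hgx]; exact hyx.map _)
  rw [← hgy, ← hga] at h
  exact hinj (by rw [map_mul, map_mul]; exact h.eq)

/-- An element of `M` of odd order inverted by an involution and commuting with a non-trivial element of odd
order of its centralizer is trivial. -/
theorem eq_one_of_inverted {a x u : X} (ha : orderOf a = 2) (hx : x ∈ P.M) (hx1 : x ≠ 1)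
    (hxo : Odd (orderOf x)) (hxa : Commute x a) (huo : Odd (orderOf u)) (hux : Commute u x)
    (hinv : a * u * a⁻¹ = u⁻¹) : u = 1 := by
  have hc := P.commute_trans ha hx (P.mem_of_inverted huo (P.mem_of_invol ha) hinv) hx1 hxo huo hxa hux
  rw [← hc.eq, mul_inv_cancel_right] at hinv
  have h2 : u ^ 2 = 1 := by rw [pow_two]; exact eq_inv_iff_mul_eq_one.1 hinv
  exact orderOf_eq_one_iff.1 (Nat.eq_one_of_dvd_coprimes (Nat.coprime_two_left.2 huo)
    (orderOf_dvd_of_pow_eq_one h2) dvd_rfl)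

/-- In `PSL(2, q)`, `q ≥ 11`, a subgroup above an involution centralizer with an element outside is everything. -/
theorem le_of_cent (h11 : 11 ≤ Fintype.card P.F) {a : X} (ha : orderOf a = 2) {U : Subgroup X}
    (hU : ∀ m ∈ P.M, Commute m a → m ∈ U) {n : X} (hnM : n ∈ P.M) (hnU : n ∈ U) (hna : ¬ Commute n a) :
    P.M ≤ U := by
  have haM := P.mem_of_invol ha
  set U' := (U.subgroupOf P.M).map P.e.toMonoidHom with hU'
  have ht : orderOf (P.e ⟨a, haM⟩) = 2 := by rw [MulEquiv.orderOf_eq, ← Subgroup.orderOf_coe, ha]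
  have htop : U' = ⊤ := by
    refine cent_maximal P.odd_card h11 ht U' (lt_of_le_of_ne (fun c hc => ?_) fun e => hna ?_)
    · refine ⟨P.e.symm c, mem_subgroupOf.2 (hU _ (P.e.symm c).2 ?_), P.e.apply_symm_apply c⟩
      have := congrArg P.e.symm (mem_centralizer_singleton_iff.1 hc)
      simp only [map_mul, MulEquiv.symm_apply_apply] at this
      exact congrArg Subtype.val this
    · have h1 : P.e ⟨n, hnM⟩ ∈ centralizer ({P.e ⟨a, haM⟩} : Set _) :=
        e ▸ mem_map_of_mem P.e.toMonoidHom (mem_subgroupOf.2 hnU)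
      have h2 := mem_centralizer_singleton_iff.1 h1
      rw [← map_mul, ← map_mul] at h2
      exact congrArg Subtype.val (P.e.injective h2)
  intro m hm
  have hmem : P.e ⟨m, hm⟩ ∈ U' := htop ▸ mem_top _
  obtain ⟨c, hc, hce⟩ := hmem
  have hcm : c = (⟨m, hm⟩ : P.M) := P.e.injective hce
  subst hcm
  exact mem_subgroupOf.1 hc

/-- For `q = 5` there is nothing outside `M`. -/
theorem M_eq_top (h5 : Fintype.card P.F = 5) (x : X) (hx : Odd (orderOf x)) : x ∈ P.M := by
  have hR : Nat.card (RingAut P.F) = 1 := by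
    haveI : Fact (Nat.Prime 5) := ⟨by norm_num⟩
    exact CfsgLib.AutPSL.card_ringAut (p := 5) (f := 1) (by rw [h5, pow_one])
  have hd := index_diagPart_dvd P.M P.e
  rw [hR, Nat.dvd_one, Subgroup.index_eq_one] at hd
  exact mem_of_odd P.M P.e P.cent P.two_ne (hd ▸ mem_top x) hx

theorem q_cases : Fintype.card P.F = 5 ∨ 11 ≤ Fintype.card P.F := by
  rcases P.mod_eight with h | h <;> have := P.five_le <;> omega

/-- An element of odd order centralizing the centralizer in `M` of an involution is trivial. -/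
theorem eq_one_of_centralizes {a b f : X} (ha : orderOf a = 2) (hb : orderOf b = 2) (hab : a ≠ b)
    (hc : Commute a b) (hf : Odd (orderOf f)) (hfa : Commute f a) (hfb : Commute f b)
    (hfC : ∀ m ∈ P.M, Commute m a → Commute f m) {n : X} (hn : n ∈ P.M) (hna : n * a * n⁻¹ = b)
    (hnb : Commute (n * b * n⁻¹) a) : f = 1 := by
  rcases P.q_cases with h5 | h11
  · have hfD := le_diagPart P.M P.e (P.M_eq_top h5 f hf)
    rcases diag_cent_four P.M P.e P.dih P.cent P.two_ne ha hb hab hc hfD hfa hfb with h | h | h | h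
    · exact h
    · rw [h, ha] at hf; exact absurd hf (by decide)
    · rw [h, hb] at hf; exact absurd hf (by decide)
    · rw [h, invol_mul_of_commute ha hb hab hc] at hf; exact absurd hf (by decide)
  have hnc : ∀ d : X, Commute d a → Commute d b → Commute (n * d * n⁻¹) b := fun d hda _ => by
    have h1 : Commute (MulAut.conj n d) (MulAut.conj n a) := hda.map _
    rwa [MulAut.conj_apply, MulAut.conj_apply, hna] at h1
  have hfbn : Commute f (n * b * n⁻¹) := hfC _ (P.normal.conj_mem _ (P.mem_of_invol hb) n) hnb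
  -- the commutator with `n` centralizes the four group and lies in `M`
  set c := f⁻¹ * (n⁻¹ * f * n) with hcdef
  have hcM : c ∈ P.M := by
    rw [show c = (f⁻¹ * n⁻¹ * f) * n by rw [hcdef]; group]
    have := P.normal.conj_mem _ (inv_mem hn) f⁻¹
    rw [inv_inv] at this
    exact mul_mem this hn
  have hback : ∀ w : X, Commute f (n * w * n⁻¹) → Commute (n⁻¹ * f * n) w := fun w hw => by
    have h1 : Commute (MulAut.conj n⁻¹ f) (MulAut.conj n⁻¹ (n * w * n⁻¹)) := hw.map _
    simpa [mul_assoc] using h1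
  have hca : Commute c a := hfa.inv_left.mul_left (hback a (by rw [hna]; exact hfb))
  have hcb : Commute c b := hfb.inv_left.mul_left (hback b hfbn)
  have hcD := le_diagPart P.M P.e hcM
  have hcf : Commute c f := (hfC c hcM hca).symm
  have hc2 : c * c = 1 := by
    rcases diag_cent_four P.M P.e P.dih P.cent P.two_ne ha hb hab hc hcD hca hcb with h | h | h | h <;> rw [h]
    · exact one_mul 1
    · rw [← pow_two, ← ha, pow_orderOf_eq_one]
    · rw [← pow_two, ← hb, pow_orderOf_eq_one]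
    · rw [← pow_two, ← invol_mul_of_commute ha hb hab hc, pow_orderOf_eq_one]
  have hc1 : c = 1 := by
    have h1 : n⁻¹ * f * n = f * c := by rw [hcdef]; group
    have h2 : (f * c) ^ orderOf f = 1 := by
      rw [← h1, show n⁻¹ * f * n = MulAut.conj n⁻¹ f by simp [mul_assoc], ← map_pow, pow_orderOf_eq_one, map_one]
    rw [hcf.symm.mul_pow, pow_orderOf_eq_one, one_mul] at h2
    obtain ⟨k, hk⟩ := hf
    rwa [hk, pow_succ, pow_mul, pow_two, hc2, one_pow, one_mul] at h2
  have hfn : Commute f n := by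
    have h1 : n⁻¹ * f * n = f := (inv_mul_eq_one.1 (hcdef ▸ hc1)).symm
    show f * n = n * f
    calc f * n = n * (n⁻¹ * f * n) := by group
      _ = n * f := by rw [h1]
  have hle : P.M ≤ centralizer ({f} : Set X) :=
    P.le_of_cent h11 ha (fun m hm hma => mem_centralizer_singleton_iff.2 (hfC m hm hma).symm.eq) hn
      (mem_centralizer_singleton_iff.2 hfn.symm.eq) fun h => hab (by rw [← hna, h.eq, mul_inv_cancel_right])
  exact P.eq_one_of_commute_M fun m hm => (mem_centralizer_singleton_iff.1 (hle hm)).symm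

/-- For `q = 5` a subgroup of odd order normalized by a four group is trivial. -/
theorem eq_bot_of_four (h5 : Fintype.card P.F = 5) {a b : X} (ha : orderOf a = 2) (hb : orderOf b = 2)
    (hab : a ≠ b) (hc : Commute a b) {U : Subgroup X} (hU : Odd (Nat.card U))
    (hUa : a ∈ normalizer (U : Set X)) (hUb : b ∈ normalizer (U : Set X)) : U = ⊥ := by
  by_contra hne
  have hcop : (Nat.card (Subgroup.closure ({a, b} : Set X))).Coprime (Nat.card U) := by
    haveI := CfsgLib.Invol.isKleinFour_closure_pair ha hb hab hc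
    rw [IsKleinFour.card_four, show (4 : ℕ) = 2 ^ 2 by norm_num]
    exact Nat.Coprime.pow_left 2 (Nat.coprime_two_left.2 hU)
  set p := (Nat.card U).minFac
  have hp : p.Prime := Nat.minFac_prime fun e => hne (Subgroup.card_eq_one.1 e)
  haveI : Fact p.Prime := ⟨hp⟩
  obtain ⟨R, hR, hAR⟩ := CfsgLib.Coprime.exists_invariant_sylow (A := Subgroup.closure ({a, b} : Set X)) (K := U)
    ((Subgroup.closure_le _).2 (by rintro w (rfl | rfl) <;> assumption)) hcop
    (Or.inr (CfsgLib.FT.isSolvable_of_odd _ hU)) p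
  have hp2 : p ≠ 2 := fun e => Nat.not_even_iff_odd.2 hU (even_iff_two_dvd.2 (e ▸ Nat.minFac_dvd _))
  have hRo : Odd (Nat.card R) := hU.of_dvd_nat (card_dvd_of_le hR.1)
  have hRM : R ≤ P.M := fun r hr => P.M_eq_top h5 r (hRo.of_dvd_nat (orderOf_dvd_of_mem hr))
  obtain ⟨-, h3⟩ := four_invariant P.M P.e P.dih P.cent P.two_ne ha hb hab hc hp2 hR.isPGroup
    (hRM.trans (le_diagPart P.M P.e)) (hAR (Subgroup.subset_closure (by simp)))
    (hAR (Subgroup.subset_closure (by simp)))
  obtain ⟨w, hw, hwR⟩ : ∃ w : X, orderOf w = 2 ∧ ∀ r ∈ R, Commute r w := by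
    rcases h3 with h | h | h
    exacts [⟨a, ha, h⟩, ⟨b, hb, h⟩, ⟨a * b, invol_mul_of_commute ha hb hab hc, h⟩]
  have hwM := P.mem_of_invol hw
  have hR1 : R ≠ ⊥ := fun e => by
    have h1 := hR.2
    rw [e, Subgroup.card_bot] at h1
    have h2 : 0 < (Nat.card U).factorization p :=
      hp.factorization_pos_of_dvd Nat.card_pos.ne' (Nat.minFac_dvd _)
    have := Nat.one_lt_pow h2.ne' hp.one_lt
    omega
  obtain ⟨r, hr, hr1⟩ := (bot_or_exists_ne_one R).resolve_left hR1
  have hC4 := card_cent_psl P.odd_card (P.e ⟨w, hwM⟩)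
    (by rw [MulEquiv.orderOf_eq, ← Subgroup.orderOf_coe, hw])
  rw [h5, show invCard 5 = 4 from rfl] at hC4
  have hrC : P.e ⟨r, hRM hr⟩ ∈ centralizer ({P.e ⟨w, hwM⟩} : Set _) :=
    mem_centralizer_singleton_iff.2 (by
      rw [← map_mul, ← map_mul]; exact congrArg P.e (Subtype.ext (hwR r hr).eq))
  have hd := Subgroup.orderOf_dvd_natCard _ hrC
  rw [hC4] at hd
  rw [MulEquiv.orderOf_eq, ← Subgroup.orderOf_coe] at hd
  refine hr1 (orderOf_eq_one_iff.1 (Nat.eq_one_of_dvd_coprimes ?_ hd dvd_rfl))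
  rw [show (4 : ℕ) = 2 ^ 2 by norm_num]
  exact Nat.Coprime.pow_left 2 (Nat.coprime_two_left.2 (hRo.of_dvd_nat (orderOf_dvd_of_mem hr)))

end PslData

end CfsgLib.Walter.Core
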