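import Cfsg.Agent.Lib.Walter.Core.Field
import Cfsg.Agent.Lib.Fusion.Transfer

/-!
# Groups over `PSL(2, q)`: elements centralizing an involution centralizer
-/

set_option autoImplicit false
set_option linter.style.haveILetI false
set_option linter.unusedSectionVars false

open Subgroup

namespace CfsgLib.Walter.Core

open CfsgLib.GW

universe u

variable {X : Type u} [Group X] [Finite X] (P : PslData X)

namespace PslData

/-- A second involution with an element of `M` carrying the first to it inside a four group. -/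
theorem exists_turn {a : X} (ha : orderOf a = 2) (hsq : ∀ (S : Sylow 2 X), Nat.card (S : Subgroup X) = 4 ∧
    ∀ x ∈ (S : Subgroup X), x * x = 1) :
    ∃ b n : X, orderOf b = 2 ∧ a ≠ b ∧ Commute a b ∧ n ∈ P.M ∧ n * a * n⁻¹ = b ∧ Commute (n * b * n⁻¹) a := by
  haveI : Fact (Nat.Prime 2) := ⟨Nat.prime_two⟩
  obtain ⟨S, hS⟩ := (IsPGroup.of_card (n := 1) (by rw [Nat.card_zpowers, ha, pow_one]) :
    IsPGroup 2 (zpowers a)).exists_le_sylow
  have haS : a ∈ (S : Subgroup X) := hS (mem_zpowers a)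
  obtain ⟨h4, hq⟩ := hsq S
  have hcomm : ∀ x ∈ (S : Subgroup X), ∀ y ∈ (S : Subgroup X), x * y = y * x := fun x hx y hy => by
    calc x * y = (x * y)⁻¹ := eq_inv_of_mul_eq_one_left (hq _ (mul_mem hx hy))
      _ = y * x := by
        rw [mul_inv_rev, inv_eq_of_mul_eq_one_right (hq y hy), inv_eq_of_mul_eq_one_right (hq x hx)]
  obtain ⟨b, hb, hb1, hba⟩ : ∃ b ∈ (S : Subgroup X), b ≠ 1 ∧ b ≠ a := by
    by_contra! h
    have hle : (S : Subgroup X) ≤ zpowers a := fun x hx => by
      by_cases hx1 : x = 1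
      · exact hx1 ▸ one_mem _
      · exact h x hx hx1 ▸ mem_zpowers a
    have := card_dvd_of_le hle
    rw [h4, Nat.card_zpowers, ha] at this
    norm_num at this
  have hb2 : orderOf b = 2 := orderOf_eq_prime (by rw [pow_two]; exact hq b hb) hb1
  have hSM : (S : Subgroup X) ≤ P.M := fun x hx => by
    by_cases hx1 : x = 1
    · exact hx1 ▸ one_mem _
    · exact P.mem_of_invol (orderOf_eq_prime (by rw [pow_two]; exact hq x hx) hx1)
  obtain ⟨m, hm, hme⟩ := isConj_of_invol_mem P.M P.e ha hb2 (hSM haS) (hSM hb)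
  set T : Sylow 2 P.M := S.subtype hSM
  have hcent : ∀ z : P.M, (z : X) ∈ (S : Subgroup X) → (T : Subgroup P.M) ≤ centralizer {z} := by
    intro z hz w hw
    rw [Sylow.coe_subtype, mem_subgroupOf] at hw
    exact mem_centralizer_singleton_iff.2 (Subtype.ext (hcomm _ hw _ hz))
  obtain ⟨n, hn, hne⟩ := CfsgLib.Fusion.exists_normalizer_conj_eq_of_central T (x := ⟨a, hSM haS⟩)
    (hcent _ haS) ⟨m, hm⟩ (hcent _ (by show m * a * m⁻¹ ∈ (S : Subgroup X); rw [hme]; exact hb))
  have hne' : (n : X) * a * (n : X)⁻¹ = b := (congrArg Subtype.val hne).trans hme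
  refine ⟨b, n, hb2, hba.symm, hcomm a haS b hb, n.2, hne', ?_⟩
  have h1 := (mem_normalizer_iff.1 hn ⟨b, hSM hb⟩).1 (by rw [Sylow.coe_subtype, mem_subgroupOf]; exact hb)
  rw [Sylow.coe_subtype, mem_subgroupOf] at h1
  exact hcomm _ h1 a haS

/-- An element of odd order centralizing the centralizer in `M` of an involution is trivial. -/
theorem eq_one_of_cent_M (hsq : ∀ (S : Sylow 2 X), Nat.card (S : Subgroup X) = 4 ∧
    ∀ x ∈ (S : Subgroup X), x * x = 1) {a f : X} (ha : orderOf a = 2) (hf : Odd (orderOf f))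
    (hfC : ∀ m ∈ P.M, Commute m a → Commute f m) : f = 1 := by
  obtain ⟨b, n, hb, hab, hc, hn, hna, hnb⟩ := P.exists_turn ha hsq
  exact P.eq_one_of_centralizes ha hb hab hc hf (hfC a (P.mem_of_invol ha) (Commute.refl a))
    (hfC b (P.mem_of_invol hb) hc.symm) hfC hn hna hnb

end PslData

end CfsgLib.Walter.Core
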