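import Cfsg.Agent.Lib.Walter.Rank.Quot
import Mathlib.LinearAlgebra.Matrix.SpecialLinearGroup
import Mathlib.Tactic.LinearCombination

/-!
# Abelian Sylow `2`-subgroups exclude `SL(2, p)` sections
-/

set_option autoImplicit false
set_option linter.style.haveILetI false
set_option linter.unusedSectionVars false

open Subgroup

namespace CfsgLib.Walter.Core

universe u

variable {G : Type u} [Group G] [Finite G]

/-- A group with abelian Sylow 2-subgroups has no section `SL(2, p)`. -/
theorem not_involves_slTwo (hG : AbTwo G) {p : ℕ} [Fact p.Prime] (hp : p ≠ 2) :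
    ¬ ∃ (H K : Subgroup G) (_ : (K.subgroupOf H).Normal),
      Nonempty ((H ⧸ K.subgroupOf H) ≃* Matrix.SpecialLinearGroup (Fin 2) (ZMod p)) := by
  rintro ⟨H, K, hK, ⟨e⟩⟩
  haveI : Fact (Nat.Prime 2) := ⟨Nat.prime_two⟩
  let φ : H →* Matrix.SpecialLinearGroup (Fin 2) (ZMod p) :=
    e.toMonoidHom.comp (QuotientGroup.mk' (K.subgroupOf H))
  have hφ : Function.Surjective φ := e.surjective.comp (QuotientGroup.mk'_surjective _)
  have hp2 : (2 : ZMod p) ≠ 0 := by
    intro h
    have h' : ((2 : ℕ) : ZMod p) = 0 := by exact_mod_cast h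
    rw [ZMod.natCast_eq_zero_iff] at h'
    exact hp ((Nat.prime_dvd_prime_iff_eq (Fact.out) Nat.prime_two).1 h')
  -- a square root of one is central
  have hone : ∀ m : Matrix.SpecialLinearGroup (Fin 2) (ZMod p), m * m = 1 →
      ∀ n : Matrix.SpecialLinearGroup (Fin 2) (ZMod p), m * n = n * m := by
    intro m hm n
    have hd : m.1 0 0 * m.1 1 1 - m.1 0 1 * m.1 1 0 = 1 := by
      rw [← Matrix.det_fin_two]; exact m.2
    have h00 := congrFun (congrFun (congrArg Subtype.val hm) 0) 0
    have h01 := congrFun (congrFun (congrArg Subtype.val hm) 0) 1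
    have h10 := congrFun (congrFun (congrArg Subtype.val hm) 1) 0
    have h11 := congrFun (congrFun (congrArg Subtype.val hm) 1) 1
    simp [Matrix.mul_apply, Fin.sum_univ_two] at h00 h01 h10 h11
    have h2s : (2 : ZMod p) * (m.1 0 0 - m.1 1 1) = 0 ∨ m.1 0 0 + m.1 1 1 = 0 := by
      by_cases h : m.1 0 0 + m.1 1 1 = 0
      · exact Or.inr h
      · left
        have : (m.1 0 0 - m.1 1 1) * (m.1 0 0 + m.1 1 1) = 0 := by linear_combination h00 - h11
        rw [(mul_eq_zero.1 this).resolve_right h, mul_zero]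
    have hsum : m.1 0 0 + m.1 1 1 ≠ 0 := by
      intro h
      have : (2 : ZMod p) = 0 := by linear_combination -h00 - hd + m.1 0 0 * h
      exact hp2 this
    have e01 : m.1 0 1 = 0 := (mul_eq_zero.1 (show (m.1 0 0 + m.1 1 1) * m.1 0 1 = 0 by
      linear_combination h01)).resolve_left hsum
    have e10 : m.1 1 0 = 0 := (mul_eq_zero.1 (show (m.1 0 0 + m.1 1 1) * m.1 1 0 = 0 by
      linear_combination h10)).resolve_left hsum
    have e11 : m.1 0 0 = m.1 1 1 := sub_eq_zero.1
      ((mul_eq_zero.1 (h2s.resolve_right hsum)).resolve_left hp2)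
    refine Matrix.SpecialLinearGroup.ext _ _ fun i j => ?_
    fin_cases i <;> fin_cases j <;>
      simp [Matrix.mul_apply, Fin.sum_univ_two, e01, e10, e11, mul_comm]
  -- images of 2-subgroups are commutative
  have hcomm : ∀ (P : Subgroup H), IsPGroup 2 P →
      ∀ x ∈ P.map φ, ∀ y ∈ P.map φ, x * y = y * x := by
    intro P hP
    obtain ⟨T, hT⟩ := hP.exists_le_sylow
    suffices h : ∀ a ∈ T, ∀ b ∈ T, φ a * φ b = φ b * φ a by
      rintro _ ⟨a, ha, rfl⟩ _ ⟨b, hb, rfl⟩
      exact h a (hT ha) b (hT hb)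
    intro a ha b hb
    rw [← map_mul, ← map_mul]
    exact congrArg φ (congrArg Subtype.val (Rank.abTwo_subgroup hG H T ⟨a, ha⟩ ⟨b, hb⟩))
  -- a quaternion subgroup
  obtain ⟨a, b, hab⟩ := ZMod.sq_add_sq p (-1)
  let i : Matrix.SpecialLinearGroup (Fin 2) (ZMod p) :=
    ⟨!![0, 1; -1, 0], by simp [Matrix.det_fin_two]⟩
  let j : Matrix.SpecialLinearGroup (Fin 2) (ZMod p) :=
    ⟨!![a, b; b, -a], by simp [Matrix.det_fin_two]; linear_combination -hab⟩
  have hij : i * j = -(j * i) := by
    refine Subtype.ext ?_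
    show (!![0, 1; -1, 0] * !![a, b; b, -a] : Matrix (Fin 2) (Fin 2) (ZMod p)) =
      -(!![a, b; b, -a] * !![0, 1; -1, 0])
    simp [Matrix.mul_fin_two]
  have hi2 : i * i = -1 := by
    refine Subtype.ext ?_
    show (!![0, 1; -1, 0] * !![0, 1; -1, 0] : Matrix (Fin 2) (Fin 2) (ZMod p)) = -1
    simp [Matrix.mul_fin_two, Matrix.one_fin_two]
  have hj2 : j * j = -1 := by
    refine Subtype.ext ?_
    show (!![a, b; b, -a] * !![a, b; b, -a] : Matrix (Fin 2) (Fin 2) (ZMod p)) = -1
    have e1 : a * a + b * b = -1 := by linear_combination hab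
    have e2 : b * b + a * a = -1 := by linear_combination hab
    simp [Matrix.mul_fin_two, Matrix.one_fin_two, e1, e2, mul_comm b a]
  set Q := Subgroup.closure ({i, j} : Set (Matrix.SpecialLinearGroup (Fin 2) (ZMod p))) with hQ
  have hQ2 : IsPGroup 2 Q := by
    have hi4 : ∀ x : Matrix.SpecialLinearGroup (Fin 2) (ZMod p), x * x = -1 →
        IsPGroup 2 (zpowers x) := by
      intro x hx
      have : x ^ 4 = 1 := by
        rw [show x ^ 4 = (x * x) * (x * x) by rw [pow_succ, pow_succ, pow_two]; group, hx,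
          neg_mul_neg, one_mul]
      have hd : orderOf x ∣ 2 ^ 2 := orderOf_dvd_of_pow_eq_one this
      obtain ⟨m, -, hm⟩ := (Nat.dvd_prime_pow Nat.prime_two).1 hd
      exact IsPGroup.of_card (n := m) (by rw [Nat.card_zpowers, hm])
    have hnorm : zpowers j ≤ normalizer (zpowers i : Set (Matrix.SpecialLinearGroup (Fin 2) (ZMod p))) := by
      have h1 : j * i * j⁻¹ = i⁻¹ := by
        have h0 : i⁻¹ = -i := inv_eq_of_mul_eq_one_right (by rw [mul_neg, hi2, neg_neg])
        rw [h0, mul_inv_eq_iff_eq_mul, neg_mul, hij, neg_neg]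
      have h2 : j⁻¹ * i * j = i⁻¹ := by
        have h0 : j * i⁻¹ * j⁻¹ = i := by rw [← conj_inv, h1, inv_inv]
        calc j⁻¹ * i * j = j⁻¹ * (j * i⁻¹ * j⁻¹) * j := by rw [h0]
          _ = i⁻¹ := by group
      rw [zpowers_le, mem_normalizer_iff]
      refine fun x => ⟨?_, ?_⟩
      · rintro ⟨m, rfl⟩
        exact ⟨-m, by simp only; rw [← conj_zpow, h1, inv_zpow']⟩
      · rintro ⟨m, hm⟩
        refine ⟨-m, ?_⟩
        simp only at hm ⊢
        calc i ^ (-m) = (j⁻¹ * i * j) ^ m := by rw [h2, inv_zpow']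
          _ = j⁻¹ * i ^ m * j := by
            have := conj_zpow (a := j⁻¹) (b := i) (i := m)
            rwa [inv_inv] at this
          _ = x := by rw [hm]; group
    have h := (hi4 i hi2).to_sup_of_normal_left' (hi4 j hj2) hnorm
    refine h.to_le ?_
    rw [hQ, closure_le]
    rintro x (rfl | rfl)
    · exact mem_sup_left (mem_zpowers _)
    · exact mem_sup_right (mem_zpowers _)
  obtain ⟨S, hS⟩ := hQ2.exists_le_sylow
  obtain ⟨T, hT⟩ := Sylow.mapSurjective_surjective hφ 2 S
  have hcc := hcomm T T.2 i (by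
      have := hS (subset_closure (show i ∈ ({i, j} : Set _) by simp))
      rwa [← hT] at this) j (by
      have := hS (subset_closure (show j ∈ ({i, j} : Set _) by simp))
      rwa [← hT] at this)
  rw [hij] at hcc
  have hM : -(!![a, b; b, -a] * !![0, 1; -1, 0] : Matrix (Fin 2) (Fin 2) (ZMod p)) =
      !![a, b; b, -a] * !![0, 1; -1, 0] := congrArg Subtype.val hcc
  have h2 := congrFun (congrFun hM 0) 0
  have h2' := congrFun (congrFun hM 0) 1
  simp at h2 h2'
  have ha : a = 0 := by
    have : (2 : ZMod p) * a = 0 := by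
      first | linear_combination h2' | linear_combination -h2'
    exact (mul_eq_zero.1 this).resolve_left hp2
  have hb : b = 0 := by
    have : (2 : ZMod p) * b = 0 := by
      first | linear_combination h2 | linear_combination -h2
    exact (mul_eq_zero.1 this).resolve_left hp2
  rw [ha, hb] at hab
  simp at hab

end CfsgLib.Walter.Core
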