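import Cfsg.Agent.Lib.Walter.Core.Field
import Cfsg.Agent.Lib.GW.Final
import Cfsg.Agent.Lib.GW.CoprimeFour
import Cfsg.Agent.Lib.Bender.Consumers.PslFacts

/-!
# The centralizer of an involution modulo its odd core and the involution

`Top t` is `C(t) / O(C(t))⟨t⟩`; when `C(t)` is not solvable it lies over `PSL(2, q)`, `q ≡ 3, 5 (mod 8)`.
-/

set_option autoImplicit false
set_option linter.style.haveILetI false
set_option linter.unusedSectionVars false

open Subgroup

namespace CfsgLib.Walter.Core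

open CfsgLib.GW

universe u

/-- The odd core is normal. -/
theorem oddCore_normal (X : Type u) [Group X] : (Cfsg.oddCore X).Normal := by
  haveI := CfsgLib.Coprime.pPrimeCore_characteristic (G := X) 2
  infer_instance

attribute [local instance] oddCore_normal

/-- An element of a two-group with odd order is trivial. -/
theorem eq_one_of_two_odd {X : Type u} [Group X] {x : X} {k : ℕ} (h : x ^ 2 ^ k = 1) (ho : Odd (orderOf x)) :
    x = 1 :=
  orderOf_eq_one_iff.1 (Nat.eq_one_of_dvd_coprimes (Nat.Coprime.pow_left k (Nat.coprime_two_left.2 ho))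
    (orderOf_dvd_of_pow_eq_one h) dvd_rfl)

theorem odd_order_of_mem {X : Type u} [Group X] [Finite X] {H : Subgroup X} (hH : Odd (Nat.card H)) {x : X}
    (hx : x ∈ H) : Odd (orderOf x) :=
  hH.of_dvd_nat (Subgroup.orderOf_dvd_natCard H hx)

/-- A core-free non-solvable group with four groups as Sylow `2`-subgroups. -/
theorem exists_pslData {X : Type u} [Group X] [Finite X] (hO : Cfsg.oddCore X = ⊥) (hns : ¬ Group.IsSolvable X)
    (S : Sylow 2 X) (h4 : Nat.card (S : Subgroup X) = 4) (hsq : ∀ x ∈ (S : Subgroup X), x * x = 1) :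
    Nonempty (PslData X) := by
  haveI : Fact (Nat.Prime 2) := ⟨Nat.prime_two⟩
  haveI : IsKleinFour (S : Subgroup X) :=
    { card_four := h4
      exponent_two := by
        haveI : Nontrivial (S : Subgroup X) := Finite.one_lt_card_iff_nontrivial.1 (by omega)
        refine Monoid.exponent_eq_prime_iff Nat.prime_two |>.2 fun g hg => orderOf_eq_prime ?_ hg
        exact Subtype.ext (by rw [SubgroupClass.coe_pow, pow_two]; exact hsq g g.2) }
  obtain ⟨eS⟩ : Nonempty ((S : Subgroup X) ≃* DihedralGroup 2) := IsKleinFour.nonempty_mulEquiv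
  have hdih : DihTwo X := dihTwo_of_sylow S le_rfl eS
  rcases typeTwo_or_typeC hdih.dihLE (gwBelow _) with ⟨k, hk⟩ | htc
  · refine absurd ?_ hns
    have hP : IsPGroup 2 X := IsPGroup.of_card (n := k) (by
      rw [← hk, hO, index_bot])
    haveI := hP.isNilpotent
    infer_instance
  let e0 : X ⧸ Cfsg.oddCore X ≃* X := (QuotientGroup.quotientMulEquivOfEq hO).trans QuotientGroup.quotientBot
  rcases htc with ⟨V, -, -, -, hc⟩ | ⟨M0, hM0n, hM0s, hM0c, -, hM0C, hM0P⟩
  · refine absurd (solvable_of_small (G := X) ?_) hns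
    rw [← Nat.card_congr e0.toEquiv]
    rcases hc with h | h <;> omega
  set M := M0.map e0.toMonoidHom with hM
  haveI hMn : M.Normal := hM0n.map _ e0.surjective
  have hMC : centralizer (M : Set X) = ⊥ := by
    refine (eq_bot_iff_forall _).2 fun x hx => ?_
    have h1 : e0.symm x ∈ centralizer (M0 : Set (X ⧸ Cfsg.oddCore X)) := mem_centralizer_iff.2 fun m hm => by
      have := congrArg e0.symm (mem_centralizer_iff.1 hx (e0 m) (mem_map_of_mem e0.toMonoidHom hm))
      simpa using this
    rw [hM0C, mem_bot] at h1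
    simpa using congrArg e0 h1
  have eM : M ≃* M0 := (M0.equivMapOfInjective e0.toMonoidHom e0.injective).symm
  haveI : IsSimpleGroup M := by haveI := hM0s; exact eM.isSimpleGroup
  have hMP : IsPSLTwoOrA7 M := hM0P.congr eM
  have hd : Nat.card M ∣ Nat.card X := card_subgroup_dvd_card M
  have h8 : ¬ 8 ∣ Nat.card X := fun h8 => by
    have := S.not_dvd_index
    rw [← (S : Subgroup X).card_mul_index, h4] at h8
    omega
  rcases hMP with ⟨F, _, _, hodd, h3, ⟨e⟩⟩ | ⟨e⟩
  swap
  · exfalso
    obtain ⟨e⟩ := e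
    rw [Nat.card_congr e.toEquiv, nat_card_alternatingGroup, Nat.card_eq_fintype_card, Fintype.card_fin] at hd
    exact h8 ((show 8 ∣ Nat.factorial 7 / 2 by decide).trans hd)
  have h2 : (2 : F) ≠ 0 := CfsgLib.Perm.Dickson.two_ne_zero_of_odd (by rwa [Nat.card_eq_fintype_card])
  have hcard := CfsgLib.Classical.PslBin.card_psl_two (F := F) h2
  rw [← CfsgLib.Perm.Dickson.card_S2P, Nat.card_eq_fintype_card (α := F), ← Nat.card_congr e.toEquiv] at hcard
  set q := Fintype.card F with hq
  have h5 : 5 ≤ q := by obtain ⟨j, hj⟩ := hodd; omega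
  have h4M : 4 ∣ Nat.card M := by
    have h8q : 8 ∣ (q - 1) * (q + 1) := by
      obtain ⟨j, hj⟩ := hodd
      rw [hj, show 2 * j + 1 - 1 = 2 * j by omega, show 2 * j * (2 * j + 1 + 1) = 4 * (j * (j + 1)) by ring]
      exact mul_dvd_mul_left 4 (Nat.even_mul_succ_self j).two_dvd
    obtain ⟨c, hc⟩ := h8q
    rw [hc] at hcard
    exact ⟨q * c, by linarith⟩
  have hMi : Odd M.index := by
    rw [← Nat.not_even_iff_odd, even_iff_two_dvd]
    intro h2i
    exact h8 ((show 8 ∣ 4 * 2 from dvd_rfl).trans ((mul_dvd_mul h4M h2i).trans (dvd_of_eq M.card_mul_index)))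
  refine ⟨⟨M, F, e, hMC, h5, ?_, hdih, hMi⟩⟩
  by_contra hne
  have h8M : 8 ∣ Nat.card M := by
    have hq8 : q % 8 = 1 ∨ q % 8 = 7 := by obtain ⟨j, hj⟩ := hodd; omega
    have h16 : 16 ∣ (q - 1) * (q + 1) := by
      rcases hq8 with h | h
      · exact (mul_dvd_mul (show 8 ∣ q - 1 by omega) (show 2 ∣ q + 1 by omega))
      · exact (mul_dvd_mul (show 2 ∣ q - 1 by omega) (show 8 ∣ q + 1 by omega))
    obtain ⟨c, hc⟩ := h16
    rw [hc] at hcard
    exact ⟨q * c, by linarith⟩
  exact h8 (h8M.trans hd)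

section

variable {G : Type u} [Group G]

/-- The involution as an element of its centralizer. -/
abbrev tauC (t : G) : ↥(centralizer ({t} : Set G)) := ⟨t, mem_centralizer_singleton_iff.2 rfl⟩

theorem tauC_central (t : G) (c : ↥(centralizer ({t} : Set G))) : Commute (tauC t) c :=
  Subtype.ext (mem_centralizer_singleton_iff.1 c.2).symm

/-- The core of the centralizer, in `G`. -/
def core (t : G) : Subgroup G :=
  (Cfsg.oddCore ↥(centralizer ({t} : Set G))).map (centralizer ({t} : Set G)).subtype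

/-- The odd core and the involution. -/
def kerT (t : G) : Subgroup ↥(centralizer ({t} : Set G)) :=
  Cfsg.oddCore ↥(centralizer ({t} : Set G)) ⊔ zpowers (tauC t)

instance kerT_normal (t : G) : (kerT t).Normal := by
  haveI : (zpowers (tauC t)).Normal := ⟨fun x hx g => by
    obtain ⟨i, rfl⟩ := hx
    rw [← ((tauC_central t g).zpow_left i).eq, mul_inv_cancel_right]
    exact zpow_mem (mem_zpowers _) i⟩
  exact Subgroup.sup_normal _ _

/-- `C(t) / O(C(t))⟨t⟩`. -/
abbrev Top (t : G) : Type u := ↥(centralizer ({t} : Set G)) ⧸ kerT t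

/-- The projection. -/
abbrev pr (t : G) : ↥(centralizer ({t} : Set G)) →* Top t := QuotientGroup.mk' (kerT t)

theorem core_le (t : G) : core t ≤ centralizer ({t} : Set G) := map_subtype_le _

theorem mem_core {t : G} {c : ↥(centralizer ({t} : Set G))} :
    (c : G) ∈ core t ↔ c ∈ Cfsg.oddCore ↥(centralizer ({t} : Set G)) :=
  ⟨fun h => by obtain ⟨d, hd, e⟩ := mem_map.1 h; exact Subtype.ext e ▸ hd, fun h => mem_map_of_mem _ h⟩

variable [Finite G]

theorem odd_core (t : G) : Odd (Nat.card (core t)) := by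
  rw [core, Nat.card_congr ((Cfsg.oddCore _).equivMapOfInjective _ (subtype_injective _)).toEquiv.symm]
  exact Nat.coprime_two_right.1 (CfsgLib.Coprime.pPrimeCore_coprime Nat.prime_two)

theorem mem_kerT {t : G} (ht : orderOf t = 2) {c : ↥(centralizer ({t} : Set G))} (hc : c ∈ kerT t) :
    c ∈ Cfsg.oddCore _ ∨ ∃ o ∈ Cfsg.oddCore _, c = o * tauC t := by
  obtain ⟨o, ho, w, hw, rfl⟩ := CfsgLib.Coprime.mem_sup_exists
    (N := Cfsg.oddCore ↥(centralizer ({t} : Set G))) (le_normalizer_of_normal) hc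
  obtain ⟨i, rfl⟩ := hw
  have hsq : tauC t ^ (2 : ℤ) = 1 :=
    Subtype.ext (show t ^ (2 : ℤ) = 1 by rw [zpow_two, ← pow_two, ← ht, pow_orderOf_eq_one])
  rcases Int.even_or_odd' i with ⟨j, rfl | rfl⟩
  · left; simp only []; rw [zpow_mul, hsq, one_zpow, mul_one]; exact ho
  · right; exact ⟨o, ho, by simp only []; rw [zpow_add, zpow_mul, hsq, one_zpow, one_mul, zpow_one]⟩

/-- An element of odd order of the kernel lies in the core. -/
theorem mem_oddCore_of_pr {t : G} (ht : orderOf t = 2) {c : ↥(centralizer ({t} : Set G))}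
    (ho : Odd (orderOf c)) (hc : pr t c = 1) : c ∈ Cfsg.oddCore _ := by
  rcases mem_kerT ht ((QuotientGroup.eq_one_iff c).1 hc) with h | ⟨o, hoK, rfl⟩
  · exact h
  have hsq : tauC t * tauC t = 1 := Subtype.ext (show t * t = 1 by rw [← pow_two, ← ht, pow_orderOf_eq_one])
  have h2 : (o * tauC t) ^ 2 ∈ Cfsg.oddCore _ := by
    rw [pow_two, mul_assoc, ← mul_assoc (tauC t), ((tauC_central t o)).eq, mul_assoc o, hsq, mul_one]
    exact mul_mem hoK hoK
  obtain ⟨k, hk⟩ := ho
  have e : ((o * tauC t) ^ 2) ^ (k + 1) = o * tauC t := by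
    rw [← pow_mul, show 2 * (k + 1) = orderOf (o * tauC t) + 1 by omega, pow_add, pow_orderOf_eq_one, one_mul,
      pow_one]
  exact e ▸ pow_mem h2 (k + 1)

/-- A Sylow subgroup of the centralizer is a Sylow subgroup of the group. -/
theorem exists_sylow_cent (hs : SylowEight G) {t : G} (ht : orderOf t = 2) :
    ∃ T : Sylow 2 ↥(centralizer ({t} : Set G)), Nat.card (T : Subgroup ↥(centralizer ({t} : Set G))) = 8 ∧
      tauC t ∈ T.toSubgroup ∧ (∀ x ∈ T.toSubgroup, x * x = 1) ∧ ∀ x ∈ T.toSubgroup, ∀ y ∈ T.toSubgroup,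
        x * y = y * x := by
  haveI : Fact (Nat.Prime 2) := ⟨Nat.prime_two⟩
  obtain ⟨S, hS⟩ := (IsPGroup.of_card (n := 1) (by rw [Nat.card_zpowers, ht, pow_one]) :
    IsPGroup 2 (zpowers t)).exists_le_sylow
  have htS : t ∈ (S : Subgroup G) := hS (mem_zpowers t)
  obtain ⟨h8, hsq⟩ := hs S
  have hcomm : ∀ x ∈ (S : Subgroup G), ∀ y ∈ (S : Subgroup G), x * y = y * x := fun x hx y hy => by
    have := hsq _ (mul_mem hx hy)
    calc x * y = (x * y)⁻¹ := eq_inv_of_mul_eq_one_left this
      _ = y * x := by rw [mul_inv_rev, inv_eq_of_mul_eq_one_right (hsq y hy), inv_eq_of_mul_eq_one_right (hsq x hx)]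
  have hle : (S : Subgroup G) ≤ centralizer ({t} : Set G) := fun x hx =>
    mem_centralizer_singleton_iff.2 (hcomm x hx t htS)
  refine ⟨S.subtype hle, ?_, ?_, fun x hx => ?_, fun x hx y hy => ?_⟩
  · rw [Sylow.coe_subtype, Nat.card_congr (subgroupOfEquivOfLe hle).toEquiv, h8]
  · rw [Sylow.coe_subtype, mem_subgroupOf]; exact htS
  · rw [Sylow.coe_subtype, mem_subgroupOf] at hx; exact Subtype.ext (hsq x hx)
  · rw [Sylow.coe_subtype, mem_subgroupOf] at hx hy; exact Subtype.ext (hcomm x hx y hy)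

/-- A homomorphism of the centralizer onto an elementary abelian group moving the involution. -/
theorem exists_phi (hs : SylowEight G) {t : G} (ht : orderOf t = 2) :
    ∃ (A : Type u) (_ : CommGroup A) (φ : ↥(centralizer ({t} : Set G)) →* A),
      φ (tauC t) ≠ 1 ∧ ∀ c, φ c * φ c = 1 := by
  haveI : Fact (Nat.Prime 2) := ⟨Nat.prime_two⟩
  obtain ⟨T, -, htT, hsq, hcomm⟩ := exists_sylow_cent hs ht
  letI iA : CommGroup (T : Subgroup ↥(centralizer ({t} : Set G))) :=
    { (inferInstance : Group (T : Subgroup ↥(centralizer ({t} : Set G)))) with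
      mul_comm := fun a b => Subtype.ext (hcomm a a.2 b b.2) }
  refine ⟨_, iA, MonoidHom.transfer (MonoidHom.id _), ?_, fun c => Subtype.ext (hsq _ (Subtype.prop _))⟩
  intro e
  have h := MonoidHom.transfer_eq_pow (MonoidHom.id (T : Subgroup ↥(centralizer ({t} : Set G)))) (tauC t)
    fun k g₀ _ => by rw [mul_assoc, ((tauC_central t g₀).pow_left k).eq, inv_mul_cancel_left]
  replace e := h.symm.trans e
  have e' : tauC t ^ (T : Subgroup ↥(centralizer ({t} : Set G))).index = 1 := congrArg Subtype.val e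
  have hd := orderOf_dvd_of_pow_eq_one e'
  rw [← Subgroup.orderOf_coe, ht] at hd
  exact T.not_dvd_index hd

theorem phi_core {t : G} {A : Type u} [CommGroup A] {φ : ↥(centralizer ({t} : Set G)) →* A}
    (hφ : ∀ c, φ c * φ c = 1) {o : ↥(centralizer ({t} : Set G))} (ho : o ∈ Cfsg.oddCore _) : φ o = 1 :=
  eq_one_of_two_odd (k := 1) (by rw [pow_one, pow_two]; exact hφ o)
    ((odd_order_of_mem (Nat.coprime_two_right.1 (CfsgLib.Coprime.pPrimeCore_coprime Nat.prime_two)) ho).of_dvd_nat
      (orderOf_map_dvd φ o))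

/-- Commutators in the kernel lie in the core. -/
theorem commutator_mem_core (hs : SylowEight G) {t : G} (ht : orderOf t = 2)
    {c d : ↥(centralizer ({t} : Set G))} (h : Commute (pr t c) (pr t d)) :
    c * d * c⁻¹ * d⁻¹ ∈ Cfsg.oddCore _ := by
  obtain ⟨A, _, φ, hτ, hφ⟩ := exists_phi hs ht
  have hk : c * d * c⁻¹ * d⁻¹ ∈ kerT t := (QuotientGroup.eq_one_iff _).1 (show pr t (c * d * c⁻¹ * d⁻¹) = 1 by
    simp only [map_mul, map_inv]
    rw [h.eq]; group)
  rcases mem_kerT ht hk with h1 | ⟨o, ho, e⟩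
  · exact h1
  exfalso
  have e1 := congrArg φ e
  rw [map_mul φ o, phi_core hφ ho, one_mul, map_mul, map_mul, map_mul, map_inv, map_inv, mul_comm (φ c),
    mul_inv_cancel_right, mul_inv_cancel] at e1
  exact hτ e1.symm

/-- An element centralizing an involution modulo the kernel lifts to one centralizing it. -/
theorem exists_commute_lift (hs : SylowEight G) {t : G} (ht : orderOf t = 2)
    {c d : ↥(centralizer ({t} : Set G))} (hd : d * d = 1) (h : Commute (pr t c) (pr t d)) :
    ∃ k ∈ Cfsg.oddCore ↥(centralizer ({t} : Set G)), Commute (k * c) d :=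
  exists_fix_lift (Nat.coprime_two_right.1 (CfsgLib.Coprime.pPrimeCore_coprime Nat.prime_two)) hd (by
    have h1 := commutator_mem_core hs ht h
    rwa [inv_eq_of_mul_eq_one_right hd] at h1)

theorem top_core (hs : SylowEight G) {t : G} (ht : orderOf t = 2) : Cfsg.oddCore (Top t) = ⊥ := by
  obtain ⟨A, _, φ, hτ, hφ⟩ := exists_phi hs ht
  set K := Cfsg.oddCore ↥(centralizer ({t} : Set G)) with hK
  set P := (Cfsg.oddCore (Top t)).comap (pr t) with hP
  have hodd : Odd (Nat.card (Cfsg.oddCore (Top t))) :=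
    Nat.coprime_two_right.1 (CfsgLib.Coprime.pPrimeCore_coprime Nat.prime_two)
  -- the part killed by `φ` is odd
  have hP0 : P ⊓ φ.ker ≤ K := by
    haveI : P.Normal := (oddCore_normal (Top t)).comap _
    refine CfsgLib.Coprime.le_pPrimeCore_of_not_dvd Nat.prime_two fun h2 => ?_
    haveI : Fact (Nat.Prime 2) := ⟨Nat.prime_two⟩
    obtain ⟨⟨x, hx⟩, hxo⟩ := exists_prime_orderOf_dvd_card' 2 h2
    rw [← Subgroup.orderOf_coe] at hxo
    change orderOf x = 2 at hxo
    have hx2 : (x : ↥(centralizer ({t} : Set G))) ^ 2 = 1 := by have h0 := pow_orderOf_eq_one (x : ↥(centralizer ({t} : Set G))); rwa [hxo] at h0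
    have h1 : pr t x = 1 := eq_one_of_two_odd (k := 1) (by rw [pow_one, ← map_pow, hx2, map_one])
      (odd_order_of_mem hodd (mem_inf.1 hx).1)
    rcases mem_kerT ht ((QuotientGroup.eq_one_iff _).1 h1) with h | ⟨o, ho, e⟩
    · have hx0 := eq_one_of_two_odd (k := 1) (by rw [pow_one, hx2])
        (odd_order_of_mem (Nat.coprime_two_right.1 (CfsgLib.Coprime.pPrimeCore_coprime Nat.prime_two)) h)
      have h0 : orderOf (x : ↥(centralizer ({t} : Set G))) = 1 := orderOf_eq_one_iff.2 hx0
      omega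
    · have e1 : φ x = 1 := MonoidHom.mem_ker.1 (mem_inf.1 hx).2
      rw [e, map_mul, phi_core hφ ho, one_mul] at e1
      exact hτ e1
  refine (eq_bot_iff_forall _).2 fun w hw => ?_
  obtain ⟨p, rfl⟩ := QuotientGroup.mk'_surjective (kerT t) w
  have hp : p ∈ P := hw
  set m := orderOf (pr t p) with hmdef
  have hm : Odd m := odd_order_of_mem hodd hw
  have hpm : p ^ m ∈ kerT t := (QuotientGroup.eq_one_iff _).1 (show pr t (p ^ m) = 1 by
    rw [map_pow, hmdef, pow_orderOf_eq_one])
  have hφp : φ (p ^ m) = φ p := by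
    obtain ⟨j, hj⟩ := hm
    rw [hj, map_pow, pow_succ, pow_mul, pow_two, hφ, one_pow, one_mul]
  have hτker : tauC t ∈ kerT t := mem_sup_right (mem_zpowers _)
  have hKker : K ≤ kerT t := le_sup_left
  rcases mem_kerT ht hpm with h | ⟨o, ho, e⟩
  · rw [phi_core hφ h] at hφp
    exact (QuotientGroup.eq_one_iff p).2 (hKker (hP0 ⟨hp, hφp.symm⟩))
  · rw [e, map_mul, phi_core hφ ho, one_mul] at hφp
    have hpt : p * tauC t ∈ P ⊓ φ.ker := by
      refine ⟨mul_mem hp ?_, ?_⟩
      · show pr t (tauC t) ∈ Cfsg.oddCore (Top t)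
        rw [show pr t (tauC t) = 1 from (QuotientGroup.eq_one_iff _).2 hτker]
        exact one_mem _
      · show φ (p * tauC t) = 1
        rw [map_mul, ← hφp, hφ]
    refine (QuotientGroup.eq_one_iff p).2 ?_
    have := mul_mem (hKker (hP0 hpt)) (inv_mem hτker)
    rwa [mul_inv_cancel_right] at this

/-- `C(t) / O(C(t))⟨t⟩` lies over `PSL(2, q)`. -/
theorem exists_top_data (hs : SylowEight G) {t : G} (ht : orderOf t = 2)
    (hns : ¬ Group.IsSolvable ↥(centralizer ({t} : Set G))) : Nonempty (PslData (Top t)) := by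
  haveI : Fact (Nat.Prime 2) := ⟨Nat.prime_two⟩
  obtain ⟨T, h8, htT, hsq, -⟩ := exists_sylow_cent hs ht
  set T' := Sylow.mapSurjective (QuotientGroup.mk'_surjective (kerT t)) T with hT'
  have hsq' : ∀ x ∈ (T' : Subgroup (Top t)), x * x = 1 := fun x hx => by
    rw [hT', Sylow.coe_mapSurjective] at hx
    obtain ⟨y, hy, rfl⟩ := hx
    rw [← map_mul, hsq y hy, map_one]
  have h4 : Nat.card (T' : Subgroup (Top t)) = 4 := by
    rw [hT', Sylow.coe_mapSurjective]
    set g := (pr t).comp (T : Subgroup ↥(centralizer ({t} : Set G))).subtype with hg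
    have hker : Nat.card g.ker = 2 := by
      have hle : g.ker = zpowers (⟨tauC t, htT⟩ : (T : Subgroup ↥(centralizer ({t} : Set G)))) := by
        refine le_antisymm (fun x hx => ?_) (zpowers_le.2 ((QuotientGroup.eq_one_iff _).2
          (mem_sup_right (mem_zpowers _))))
        have hx2 : (x : ↥(centralizer ({t} : Set G))) ^ 2 ^ 1 = 1 := by rw [pow_one, pow_two, hsq _ x.2]
        rcases mem_kerT ht ((QuotientGroup.eq_one_iff _).1 hx) with h | ⟨o, ho, e⟩
        · have : x = 1 := Subtype.ext (eq_one_of_two_odd hx2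
            (odd_order_of_mem (Nat.coprime_two_right.1 (CfsgLib.Coprime.pPrimeCore_coprime Nat.prime_two)) h))
          rw [this]; exact one_mem _
        · replace e : (x : ↥(centralizer ({t} : Set G))) = o * tauC t := e
          have ho1 : o = 1 := by
            refine eq_one_of_two_odd (k := 1) ?_
              (odd_order_of_mem (Nat.coprime_two_right.1 (CfsgLib.Coprime.pPrimeCore_coprime Nat.prime_two)) ho)
            have hoT : o ∈ (T : Subgroup ↥(centralizer ({t} : Set G))) := by
              rw [show o = (x : ↥(centralizer ({t} : Set G))) * (tauC t)⁻¹ by rw [e, mul_inv_cancel_right]]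
              exact mul_mem x.2 (inv_mem htT)
            rw [pow_one, pow_two, hsq o hoT]
          have : x = ⟨tauC t, htT⟩ := Subtype.ext (by rw [e, ho1, one_mul])
          rw [this]; exact mem_zpowers _
      rw [hle, Nat.card_zpowers, ← Subgroup.orderOf_coe, ← Subgroup.orderOf_coe, ht]
    have h1 := g.ker.card_mul_index
    rw [hker, index_ker, hg, MonoidHom.range_comp, range_subtype, h8] at h1
    change 2 * Nat.card ↥(map (QuotientGroup.mk' (kerT t)) T.toSubgroup) = 8 at h1
    omega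
  refine exists_pslData (top_core hs ht) (fun hsolv => hns ?_) T' h4 hsq'
  haveI := hsolv
  obtain ⟨A, _, φ, hτ, hφ⟩ := exists_phi hs ht
  haveI : Group.IsSolvable (Cfsg.oddCore ↥(centralizer ({t} : Set G))) :=
    CfsgLib.FT.isSolvable_of_odd _ (Nat.coprime_two_right.1 (CfsgLib.Coprime.pPrimeCore_coprime Nat.prime_two))
  haveI : Group.IsSolvable (kerT t) := by
    refine solvable_of_ker_le_range (inclusion (le_sup_left : Cfsg.oddCore _ ≤ kerT t))
      (φ.comp (kerT t).subtype) fun x hx => ?_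
    rcases mem_kerT ht x.2 with h | ⟨o, ho, e⟩
    · exact ⟨⟨x, h⟩, Subtype.ext rfl⟩
    · have e1 : φ x = 1 := hx
      rw [e, map_mul, phi_core hφ ho, one_mul] at e1
      exact absurd e1 hτ
  exact solvable_of_ker_le_range (kerT t).subtype (pr t) (by rw [QuotientGroup.ker_mk', range_subtype])

end

end CfsgLib.Walter.Core
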