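import Cfsg.Agent.Lib.Walter.Core.Tools
import Cfsg.Agent.Lib.ZNGroup.Local
import Cfsg.Agent.S1221

/-!
# Proper subgroups covering an involution centralizer

Modulo its odd core such a subgroup has the involution central or a simple normal subgroup of the same kind; in
both cases the core of the centralizer meets it inside its odd core.
-/

set_option autoImplicit false
set_option linter.style.haveILetI false
set_option linter.unusedSectionVars false
set_option maxHeartbeats 1000000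

open Subgroup

namespace CfsgLib.Walter.Core

universe u

attribute [local instance] oddCore_normal

variable {G : Type u} [Group G] [Finite G]

/-- The standing hypotheses on a covering subgroup. -/
structure Sect (S : Sylow 2 G) (t : G) (H : Subgroup G) : Prop where
  hs : SylowEight G
  mem : t ∈ (S : Subgroup G)
  ord : orderOf t = 2
  le : (S : Subgroup G) ≤ H
  cov : Covers H t

variable {S : Sylow 2 G} {t : G} {H : Subgroup G}

namespace Sect

/-- The image of an involution of `S` in `H` modulo the odd core. -/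
def bar (h : Sect S t H) (v : G) (hv : v ∈ (S : Subgroup G)) : H ⧸ Cfsg.oddCore H :=
  QuotientGroup.mk' (Cfsg.oddCore H) ⟨v, h.le hv⟩

variable (h : Sect S t H)
include h

theorem sylow_quot : SylowEight (H ⧸ Cfsg.oddCore H) :=
  sylowEight_quot (sylowEight_of_le h.hs S h.le) _ (Nat.coprime_two_right.1
    (CfsgLib.Coprime.pPrimeCore_coprime Nat.prime_two))

theorem quot_core : Cfsg.oddCore (H ⧸ Cfsg.oddCore H) = ⊥ :=
  CfsgLib.Coprime.pPrimeCore_quotient_eq_bot Nat.prime_two

theorem bar_invol {v : G} (hv : v ∈ (S : Subgroup G)) (hv1 : v ≠ 1) : orderOf (h.bar v hv) = 2 := by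
  refine orderOf_eq_prime ?_ fun e => hv1 ?_
  · rw [bar, ← map_pow]
    refine (congrArg _ (Subtype.ext ?_)).trans (map_one _)
    show v ^ 2 = 1
    rw [pow_two]; exact (h.hs S).2 v hv
  · have h1 := mem_coreH.2 ((QuotientGroup.eq_one_iff _).1 e)
    exact eq_one_of_two_odd (k := 1) (by rw [pow_one, pow_two]; exact (h.hs S).2 v hv)
      ((odd_coreH H).of_dvd_nat (Subgroup.orderOf_dvd_natCard _ h1))

/-- An element commuting with `v̄` modulo the core lifts to one commuting with `v`. -/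
theorem exists_lift {v : G} (hv : v ∈ (S : Subgroup G)) {x : H ⧸ Cfsg.oddCore H}
    (hx : Commute x (h.bar v hv)) :
    ∃ y : H, Commute (y : G) v ∧ QuotientGroup.mk' (Cfsg.oddCore H) y = x := by
  obtain ⟨g, rfl⟩ := QuotientGroup.mk'_surjective (Cfsg.oddCore H) x
  have hsq : (⟨v, h.le hv⟩ : H) * ⟨v, h.le hv⟩ = 1 := Subtype.ext ((h.hs S).2 v hv)
  obtain ⟨k, hk, hkc⟩ := CfsgLib.GW.exists_fix_lift
    (Nat.coprime_two_right.1 (CfsgLib.Coprime.pPrimeCore_coprime (G := H) Nat.prime_two)) (g := g) hsq (by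
      refine (QuotientGroup.eq_one_iff _).1 (show QuotientGroup.mk' (Cfsg.oddCore H) _ = 1 from ?_)
      rw [map_mul, map_mul, map_mul, map_inv]
      rw [show QuotientGroup.mk' (Cfsg.oddCore H) g * QuotientGroup.mk' (Cfsg.oddCore H) ⟨v, h.le hv⟩ =
        QuotientGroup.mk' (Cfsg.oddCore H) ⟨v, h.le hv⟩ * QuotientGroup.mk' (Cfsg.oddCore H) g from hx.eq,
        mul_inv_cancel_right, ← map_mul, hsq, map_one])
  exact ⟨k * g, congrArg Subtype.val hkc.eq, by
    rw [map_mul, show QuotientGroup.mk' (Cfsg.oddCore H) k = 1 from (QuotientGroup.eq_one_iff _).2 hk, one_mul]⟩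

theorem not_solvable_bar (hns : ¬ Group.IsSolvable ↥(centralizer ({t} : Set G))) :
    ¬ Group.IsSolvable ↥(centralizer ({h.bar t h.mem} : Set (H ⧸ Cfsg.oddCore H))) := by
  intro hs'
  refine not_solvable_inf h.hs h.ord hns h.cov ?_
  haveI := hs'
  haveI : Group.IsSolvable (Cfsg.oddCore H) :=
    CfsgLib.FT.isSolvable_of_odd _ (Nat.coprime_two_right.1 (CfsgLib.Coprime.pPrimeCore_coprime Nat.prime_two))
  set C : Subgroup H := (centralizer ({t} : Set G)).subgroupOf H with hC
  let f : C →* centralizer ({h.bar t h.mem} : Set (H ⧸ Cfsg.oddCore H)) :=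
    ((QuotientGroup.mk' (Cfsg.oddCore H)).comp C.subtype).codRestrict _ fun c =>
      mem_centralizer_singleton_iff.2 (by
        show QuotientGroup.mk' _ (c : H) * h.bar t h.mem = h.bar t h.mem * QuotientGroup.mk' _ (c : H)
        rw [bar, ← map_mul, ← map_mul]
        exact congrArg _ (Subtype.ext (mem_centralizer_singleton_iff.1 (mem_subgroupOf.1 c.2))))
  haveI : Group.IsSolvable ((Cfsg.oddCore H).subgroupOf C) :=
    Group.isSolvable_of_isSolvable_injective (f := (C.subtype.comp ((Cfsg.oddCore H).subgroupOf C).subtype).codRestrict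
      (Cfsg.oddCore H) fun x => mem_subgroupOf.1 x.2) fun a b e => by
        exact Subtype.ext (Subtype.ext (congrArg (fun z : Cfsg.oddCore H => (z : H)) e))
  haveI : Group.IsSolvable C := Group.isSolvable_of_ker_le_range
    ((Cfsg.oddCore H).subgroupOf C).subtype f fun c hc => by
      rw [range_subtype, mem_subgroupOf]
      exact (QuotientGroup.eq_one_iff _).1 (congrArg Subtype.val (MonoidHom.mem_ker.1 hc))
  exact Group.isSolvable_of_isSolvable_injective
    (f := (Subgroup.inclusion (inf_le_left : H ⊓ centralizer ({t} : Set G) ≤ H)).codRestrict C fun x =>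
      mem_subgroupOf.2 x.2.2) fun a b e => Subtype.ext (congrArg (fun z : C => ((z : H) : G)) e)

/-- Elements of `S` and fusion in `H`. -/
theorem fused_of_simple {K : Subgroup (H ⧸ Cfsg.oddCore H)} (hs : IsSimpleGroup K) (hnc : ¬ IsMulCommutative K)
    (hK8 : SylowEight K) (hall : ∀ P : Sylow 2 (H ⧸ Cfsg.oddCore H), P.toSubgroup ≤ K)
    {v : G} (hv : v ∈ (S : Subgroup G)) (hv1 : v ≠ 1) :
    ∃ (y : H) (SX : Sylow 2 (H ⧸ Cfsg.oddCore H)), (y : G) * t * (y : G)⁻¹ = v ∧
      QuotientGroup.mk' (Cfsg.oddCore H) y ∈ K ⊓ normalizer (SX.toSubgroup : Set (H ⧸ Cfsg.oddCore H)) ∧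
      h.bar t h.mem ∈ SX.toSubgroup := by
  haveI : Fact (Nat.Prime 2) := ⟨Nat.prime_two⟩
  set q := QuotientGroup.mk' (Cfsg.oddCore H) with hq
  set SX : Sylow 2 (H ⧸ Cfsg.oddCore H) :=
    (S.subtype h.le).mapSurjective (QuotientGroup.mk'_surjective (Cfsg.oddCore H)) with hSX
  have hmem : ∀ w (hw : w ∈ (S : Subgroup G)), h.bar w hw ∈ SX.toSubgroup := fun w hw => by
    rw [hSX, Sylow.coe_mapSurjective, Sylow.coe_subtype]
    exact ⟨⟨w, h.le hw⟩, mem_subgroupOf.2 hw, rfl⟩
  set T : Sylow 2 K := SX.subtype (hall SX) with hT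
  have hT' : ∀ w : K, w ∈ (T : Subgroup K) ↔ (w : H ⧸ Cfsg.oddCore H) ∈ SX.toSubgroup := fun w => by
    rw [hT, Sylow.coe_subtype, mem_subgroupOf]
  set tK : K := ⟨h.bar t h.mem, hall SX (hmem t h.mem)⟩
  set vK : K := ⟨h.bar v hv, hall SX (hmem v hv)⟩
  obtain ⟨n, hn, hne⟩ := transitive hK8 (no_index_two hs hnc) T (a := tK) (b := vK) ((hT' _).2 (hmem t h.mem))
    (fun e => CfsgLib.Invol.invol_ne_one (h.bar_invol h.mem (CfsgLib.Invol.invol_ne_one h.ord))
      (congrArg Subtype.val e))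
    ((hT' _).2 (hmem v hv)) (fun e => CfsgLib.Invol.invol_ne_one (h.bar_invol hv hv1) (congrArg Subtype.val e))
  obtain ⟨y, hy⟩ := QuotientGroup.mk'_surjective (Cfsg.oddCore H) (n : H ⧸ Cfsg.oddCore H)
  have hne' : q y * h.bar t h.mem * (q y)⁻¹ = h.bar v hv := by
    rw [hy]; exact congrArg Subtype.val hne
  have hu : orderOf ((y : G) * t * (y : G)⁻¹) = 2 := CfsgLib.Invol.invol_conj h.ord _
  have hv2 : orderOf v = 2 := invol_of_mem h.hs S hv hv1
  have hin : (y : G) * t * (y : G)⁻¹ * v ∈ coreH H := by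
    have e : ((y * ⟨t, h.le h.mem⟩ * y⁻¹ * ⟨v, h.le hv⟩ : H) : G) = (y : G) * t * (y : G)⁻¹ * v := rfl
    rw [← e]
    refine mem_coreH.2 ((QuotientGroup.eq_one_iff _).1 (show q _ = 1 from ?_))
    rw [map_mul, map_mul, map_mul, map_inv]
    show q y * h.bar t h.mem * (q y)⁻¹ * h.bar v hv = 1
    rw [hne', CfsgLib.Invol.invol_mul_self (h.bar_invol hv hv1)]
  obtain ⟨k, hk, hke⟩ := exists_conj_of_mem (odd_coreH H) hu hv2 hin
  refine ⟨⟨k, coreH_le H hk⟩ * y, SX, ?_, ?_, hmem t h.mem⟩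
  · show k * (y : G) * t * (k * (y : G))⁻¹ = v
    rw [← hke]; group
  · have hk1 : q ⟨k, coreH_le H hk⟩ = 1 := (QuotientGroup.eq_one_iff _).2 (mem_coreH.1 hk)
    rw [map_mul, hk1, one_mul, hy]
    refine ⟨n.2, mem_normalizer_iff.2 fun w => ⟨fun hw => ?_, fun hw => ?_⟩⟩
    · exact (hT' _).1 ((mem_normalizer_iff.1 hn ⟨w, hall SX hw⟩).1 ((hT' _).2 hw))
    · have hwK : w ∈ K := by
        have := mul_mem (mul_mem (inv_mem n.2) (hall SX hw)) n.2
        rwa [show (n : H ⧸ Cfsg.oddCore H)⁻¹ * (n * w * (n : H ⧸ Cfsg.oddCore H)⁻¹) * n = w by group] at this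
      exact (hT' _).1 ((mem_normalizer_iff.1 hn ⟨w, hwK⟩).2 ((hT' _).2 hw))

/-- Either `t` is central modulo the core or all involutions of `S` are fused in `H`. -/
theorem dichotomy (hns : ¬ Group.IsSolvable ↥(centralizer ({t} : Set G))) :
    (∀ x : H ⧸ Cfsg.oddCore H, Commute x (h.bar t h.mem)) ∨
      ∃ K : Subgroup (H ⧸ Cfsg.oddCore H), K.Normal ∧ IsSimpleGroup K ∧ ¬ IsMulCommutative K ∧
        SylowEight K ∧ Odd K.index ∧ (∀ P : Sylow 2 (H ⧸ Cfsg.oddCore H), P.toSubgroup ≤ K) ∧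
        ∀ v ∈ (S : Subgroup G), v ≠ 1 → Covers H v := by
  rcases central_or_simple h.sylow_quot h.quot_core
    (h.bar_invol h.mem (CfsgLib.Invol.invol_ne_one h.ord)) (h.not_solvable_bar hns) with hA | ⟨K, h1, h2, h3, h4, h5, h6⟩
  · exact Or.inl hA
  · refine Or.inr ⟨K, h1, h2, h3, h4, h5, h6, fun v hv hv1 => ?_⟩
    obtain ⟨y, -, hy, -⟩ := h.fused_of_simple h2 h3 h4 h6 hv hv1
    exact hy ▸ h.cov.conj y.2

/-- When all involutions are covered, so is each of them with the same hypotheses. -/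
theorem of_covers {v : G} (hv : v ∈ (S : Subgroup G)) (hv1 : v ≠ 1) (hc : Covers H v) : Sect S v H :=
  ⟨h.hs, hv, invol_of_mem h.hs S hv hv1, h.le, hc⟩

end Sect

/-- The image of the core of the centralizer of an involution in `H` modulo its odd core. -/
def coreImg (H : Subgroup G) (v : G) : Subgroup (H ⧸ Cfsg.oddCore H) :=
  ((core v).subgroupOf H).map (QuotientGroup.mk' (Cfsg.oddCore H))

theorem odd_coreImg (H : Subgroup G) (v : G) : Odd (Nat.card (coreImg H v)) :=
  (odd_core v).of_dvd_nat ((CfsgLib.Coprime.card_map_dvd_card _ _).trans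
    (card_comap_dvd_of_injective (core v) H.subtype (subtype_injective _)))

namespace Sect

variable (h : Sect S t H)
include h

theorem coreImg_conj {v : G} (hv : v ∈ (S : Subgroup G)) {x f : H ⧸ Cfsg.oddCore H}
    (hx : Commute x (h.bar v hv)) (hf : f ∈ coreImg H v) : x * f * x⁻¹ ∈ coreImg H v := by
  obtain ⟨y, hy, rfl⟩ := h.exists_lift hv hx
  obtain ⟨z, hz, rfl⟩ := hf
  exact ⟨y * z * y⁻¹, mem_subgroupOf.2 (core_conj_mem hy (mem_subgroupOf.1 hz)), by simp⟩

theorem coreImg_commute {v : G} (hv : v ∈ (S : Subgroup G)) {f : H ⧸ Cfsg.oddCore H}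
    (hf : f ∈ coreImg H v) : Commute f (h.bar v hv) := by
  obtain ⟨z, hz, rfl⟩ := hf
  show _ = _
  rw [bar, ← map_mul, ← map_mul]
  exact congrArg _ (Subtype.ext (core_commute (mem_subgroupOf.1 hz)).eq)

/-- In the simple case the core meets `H` in elements centralizing the centralizer in `K`. -/
theorem cent_K (hIH : CoreIH G) (hH : H ≠ ⊤) (hns : ∀ v ∈ (S : Subgroup G), v ≠ 1 →
      ¬ Group.IsSolvable ↥(centralizer ({v} : Set G))) {K : Subgroup (H ⧸ Cfsg.oddCore H)} (hKn : K.Normal)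
    (hKs : IsSimpleGroup K) (hKnc : ¬ IsMulCommutative K) (hK8 : SylowEight K) (hKi : Odd K.index)
    (hall : ∀ P : Sylow 2 (H ⧸ Cfsg.oddCore H), P.toSubgroup ≤ K) {v : G} (hv : v ∈ (S : Subgroup G))
    (hv1 : v ≠ 1) (hc : Covers H v) {f : H ⧸ Cfsg.oddCore H} (hf : f ∈ coreImg H v) :
    (f ∈ K → f = 1) ∧ ∀ c ∈ K, Commute c (h.bar v hv) → Commute f c := by
  have hv' := h.of_covers hv hv1 hc
  have hvX := h.bar_invol hv hv1
  obtain ⟨P, hP⟩ := exists_sylow_of_invol hvX
  set vK : K := ⟨h.bar v hv, hall P hP⟩ with hvK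
  set C := centralizer ({vK} : Set K) with hC
  have hvK2 : orderOf vK = 2 := by rw [← Subgroup.orderOf_coe]; exact hvX
  have hnsK : ¬ Group.IsSolvable C := by
    intro hsol
    haveI := hsol
    refine hv'.not_solvable_bar (hns v hv hv1) ?_
    set CX := centralizer ({h.bar v hv} : Set (H ⧸ Cfsg.oddCore H)) with hCX
    haveI : Group.IsSolvable ((H ⧸ Cfsg.oddCore H) ⧸ K) := CfsgLib.FT.isSolvable_of_odd _ (by rwa [← index_eq_card])
    refine Group.isSolvable_of_ker_le_range
      (((K.subtype).comp C.subtype).codRestrict CX fun c => mem_centralizer_singleton_iff.2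
        (congrArg Subtype.val (mem_centralizer_singleton_iff.1 c.2)))
      ((QuotientGroup.mk' K).comp CX.subtype) fun x hx => ?_
    have hxK : (x : (H ⧸ Cfsg.oddCore H)) ∈ K := (QuotientGroup.eq_one_iff _).1 hx
    exact ⟨⟨⟨x, hxK⟩, mem_centralizer_singleton_iff.2 (Subtype.ext (mem_centralizer_singleton_iff.1 x.2))⟩,
      Subtype.ext rfl⟩
  have hlt : Nat.card K < Nat.card G := by
    have h1 : Nat.card (H ⧸ Cfsg.oddCore H) ≤ Nat.card H := Nat.card_le_card_of_surjective _ (QuotientGroup.mk'_surjective _)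
    have h2 : Nat.card H < Nat.card G := lt_of_le_of_ne (Subgroup.card_le_card_group H) fun e =>
      hH (eq_top_of_card_eq H e)
    exact (Subgroup.card_le_card_group K).trans_lt (h1.trans_lt h2)
  have hcore : Cfsg.oddCore C = ⊥ := hIH K hlt ⟨hKs, hKnc, hK8⟩ vK hvK2 hnsK
  -- the trace in `K` is odd and normal in `C(v)`
  have htriv : ∀ g ∈ coreImg H v, g ∈ K → g = 1 := by
    intro g hg hgK
    have hgC : (⟨g, hgK⟩ : K) ∈ C := mem_centralizer_singleton_iff.2 (Subtype.ext (h.coreImg_commute hv hg).eq)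
    set J := ((coreImg H v).subgroupOf K).subgroupOf C with hJ
    haveI : J.Normal := ⟨fun j hj c => by
      rw [hJ, mem_subgroupOf, mem_subgroupOf] at hj ⊢
      exact h.coreImg_conj hv (show Commute ((c : K) : (H ⧸ Cfsg.oddCore H)) (h.bar v hv) from
        congrArg Subtype.val (mem_centralizer_singleton_iff.1 c.2)) hj⟩
    have hJ1 : J = ⊥ := eq_bot_of_odd_normal hcore J ((odd_coreImg H v).of_dvd_nat
      ((card_comap_dvd_of_injective _ C.subtype (subtype_injective _)).trans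
        (card_comap_dvd_of_injective _ K.subtype (subtype_injective _))))
    have : (⟨⟨g, hgK⟩, hgC⟩ : C) ∈ J := mem_subgroupOf.2 (mem_subgroupOf.2 hg)
    rw [hJ1, Subgroup.mem_bot] at this
    exact congrArg (fun z : C => ((z : K) : (H ⧸ Cfsg.oddCore H))) this
  refine ⟨fun hfK => htriv f hf hfK, fun c hcK hcv => ?_⟩
  have h1 : c * f * c⁻¹ * f⁻¹ ∈ coreImg H v := mul_mem (h.coreImg_conj hv hcv hf) (inv_mem hf)
  have h2 : c * f * c⁻¹ * f⁻¹ ∈ K := by
    rw [mul_assoc c, mul_assoc c]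
    exact mul_mem hcK (hKn.conj_mem _ (inv_mem hcK) f)
  have h3 := htriv _ h1 h2
  rw [mul_inv_eq_one, mul_inv_eq_iff_eq_mul] at h3
  exact h3.symm

/-- In the simple case the images of the cores agree. -/
theorem coreImg_le (hIH : CoreIH G) (hH : H ≠ ⊤) (hns : ∀ v ∈ (S : Subgroup G), v ≠ 1 →
      ¬ Group.IsSolvable ↥(centralizer ({v} : Set G))) {K : Subgroup (H ⧸ Cfsg.oddCore H)} (hKn : K.Normal)
    (hKs : IsSimpleGroup K) (hKnc : ¬ IsMulCommutative K) (hK8 : SylowEight K) (hKi : Odd K.index)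
    (hall : ∀ P : Sylow 2 (H ⧸ Cfsg.oddCore H), P.toSubgroup ≤ K) (hcov : ∀ v ∈ (S : Subgroup G), v ≠ 1 → Covers H v)
    {v w : G} (hv : v ∈ (S : Subgroup G)) (hv1 : v ≠ 1) (hw : w ∈ (S : Subgroup G)) (hw1 : w ≠ 1) :
    coreImg H v ≤ coreImg H w := by
  rcases eq_or_ne v w with rfl | hne
  · exact le_rfl
  intro f hf
  haveI : Fact (Nat.Prime 2) := ⟨Nat.prime_two⟩
  set q := QuotientGroup.mk' (Cfsg.oddCore H) with hq
  obtain ⟨-, hfc⟩ := h.cent_K hIH hH hns hKn hKs hKnc hK8 hKi hall hv hv1 (hcov v hv hv1) hf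
  have hwK : h.bar w hw ∈ K := by
    obtain ⟨P, hP⟩ := exists_sylow_of_invol (h.bar_invol hw hw1)
    exact hall P hP
  have hwv : Commute (h.bar w hw) (h.bar v hv) := by
    show _ = _
    rw [bar, bar, ← map_mul, ← map_mul]
    exact congrArg _ (Subtype.ext (comm_eight h.hs S hw hv))
  obtain ⟨y, hy, hyf⟩ := h.exists_lift hw (hfc _ hwK hwv)
  have hyo : Odd (orderOf (y : G)) := by
    have hfo : Odd (orderOf (q y)) := by
      rw [hyf]; exact (odd_coreImg H v).of_dvd_nat (Subgroup.orderOf_dvd_natCard _ hf)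
    have h1 : y ^ orderOf (q y) ∈ Cfsg.oddCore H :=
      (QuotientGroup.eq_one_iff _).1 (show q (y ^ orderOf (q y)) = 1 by rw [map_pow, pow_orderOf_eq_one])
    have h2 : Odd (orderOf (y ^ orderOf (q y))) := odd_order_of_mem
      (Nat.coprime_two_right.1 (CfsgLib.Coprime.pPrimeCore_coprime Nat.prime_two)) h1
    rw [Subgroup.orderOf_coe]
    refine (hfo.mul h2).of_dvd_nat (orderOf_dvd_of_pow_eq_one ?_)
    rw [pow_mul, pow_orderOf_eq_one]
  have hv2 := invol_of_mem h.hs S hv hv1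
  have hw2 := invol_of_mem h.hs S hw hw1
  have hvw : Commute v w := comm_eight h.hs S hv hw
  set a := tp w v hvw with ha
  -- a commutator killed in `H / O(H)` is killed in `Top w`
  have hkill : ∀ (p z : H) (hp : Commute (p : G) w) (hz : Commute (z : G) w), Commute (q p) (q z) →
      Commute (tp w p hp) (tp w z hz) := by
    intro p z hp hz hpz
    have h1 : p * z * p⁻¹ * z⁻¹ ∈ Cfsg.oddCore H := (QuotientGroup.eq_one_iff _).1 (show q _ = 1 by
      simp only [map_mul, map_inv]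
      rw [hpz.eq]; group)
    have h2 : (p : G) * z * (p : G)⁻¹ * (z : G)⁻¹ ∈ core w := coreH_inf_le h.hs hw2 (hns w hw hw1)
      (hcov w hw hw1) (mem_coreH.2 h1 : ((p * z * p⁻¹ * z⁻¹ : H) : G) ∈ coreH H)
      (((hp.mul_left hz).mul_left hp.inv_left).mul_left hz.inv_left)
    have h3 := tp_core h2
    rw [tp_congr _ (((hp.mul_left hz).mul_left hp.inv_left).mul_left hz.inv_left) rfl,
      tp_mul ((hp.mul_left hz).mul_left hp.inv_left) hz.inv_left, tp_conj hp hz, tp_inv, mul_inv_eq_one,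
      mul_inv_eq_iff_eq_mul] at h3
    exact h3
  obtain ⟨Pw⟩ := exists_top_data h.hs hw2 (hns w hw hw1)
  have hsq : ∀ R : Sylow 2 (Top w), Nat.card (R : Subgroup (Top w)) = 4 ∧ ∀ x ∈ (R : Subgroup (Top w)), x * x = 1 :=
    fun R => top_sylow h.hs hw2 R
  have hfy : Commute (q y) (h.bar v hv) := by rw [hyf]; exact h.coreImg_commute hv hf
  have hone : tp w y hy = 1 := Pw.eq_one_of_cent_M hsq (tp_invol hw2 hv2 hvw hne) (tp_odd hy hyo) fun m hm hma => by
    -- lift `m` into the preimage of `K`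
    set U : Subgroup (Top w) := ((K.comap q).map H.subtype).subgroupOf (centralizer ({w} : Set G)) |>.map (pr w)
      with hU
    have hUn : U.Normal := ⟨fun u hu g => by
      obtain ⟨⟨c, hc'⟩, hcU, rfl⟩ := hu
      obtain ⟨z, hz, hzc⟩ := mem_subgroupOf.1 hcU
      obtain ⟨d, hd, hdH, rfl⟩ := (hcov w hw hw1).exists_rep g
      refine ⟨⟨d * c * d⁻¹, mem_centralizer_singleton_iff.2
        (((hd.mul_left (mem_centralizer_singleton_iff.1 hc')).mul_left hd.inv_left).eq)⟩, mem_subgroupOf.2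
        ⟨⟨d, hdH⟩ * z * ⟨d, hdH⟩⁻¹, ?_, ?_⟩, tp_conj hd (mem_centralizer_singleton_iff.1 hc')⟩
      · show q _ ∈ K
        rw [map_mul, map_mul, map_inv]
        exact hKn.conj_mem _ hz _
      · show d * (z : G) * d⁻¹ = d * c * d⁻¹
        rw [show (z : G) = c from hzc]⟩
    have hbig : ∀ g : Top w, g ^ K.index ∈ U := fun g => by
      obtain ⟨d, hd, hdH, rfl⟩ := (hcov w hw hw1).exists_rep g
      refine ⟨⟨d ^ K.index, mem_centralizer_singleton_iff.2 (hd.pow_left _).eq⟩, mem_subgroupOf.2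
        ⟨⟨d, hdH⟩ ^ K.index, ?_, rfl⟩, tp_pow hd _⟩
      show q _ ∈ K
      rw [map_pow]
      exact K.pow_index_mem _
    have hMU : Pw.M ≤ U := by
      obtain ⟨hsimp, -⟩ := CfsgLib.Perm.Dickson.psl_simple_noncomm (F := Pw.F)
        (by rw [Nat.card_eq_fintype_card]; have := Pw.five_le; omega)
      haveI := hsimp
      haveI : IsSimpleGroup Pw.M := Pw.e.isSimpleGroup
      have haM := Pw.mem_of_invol (tp_invol hw2 hv2 hvw hne)
      have haU : a ∈ U := by
        obtain ⟨j, hj⟩ := hKi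
        have := hbig a
        rwa [hj, pow_succ, pow_mul, ← tp_invol hw2 hv2 hvw hne, pow_orderOf_eq_one, one_pow, one_mul] at this
      rcases (hUn.subgroupOf Pw.M).eq_bot_or_eq_top with e | e
      · have : (⟨a, haM⟩ : Pw.M) ∈ U.subgroupOf Pw.M := mem_subgroupOf.2 haU
        rw [e, Subgroup.mem_bot] at this
        exact absurd (congrArg Subtype.val this) (CfsgLib.Invol.invol_ne_one (tp_invol hw2 hv2 hvw hne))
      · exact Subgroup.subgroupOf_eq_top.1 e
    obtain ⟨⟨c, hc'⟩, hcU, hcm⟩ := hMU hm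
    obtain ⟨z, hz, hzc⟩ := mem_subgroupOf.1 hcU
    have hzw : Commute (z : G) w := by
      rw [show (z : G) = c from hzc]; exact mem_centralizer_singleton_iff.1 hc'
    have hcm' : tp w z hzw = m := (tp_congr _ (mem_centralizer_singleton_iff.1 hc') hzc).trans hcm
    subst hcm'
    have hzK : q z ∈ K := hz
    -- `z` commutes with `v` modulo the core
    have hzv : Commute (q z) (h.bar v hv) := by
      have h1 := commutator_mem_core h.hs hw2 (c := ⟨(z : G), mem_centralizer_singleton_iff.2 hzw.eq⟩)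
        (d := ⟨v, mem_centralizer_singleton_iff.2 hvw.eq⟩) hma
      set e : H := z * ⟨v, h.le hv⟩ * z⁻¹ * ⟨v, h.le hv⟩⁻¹ with he
      have h2 : q e ∈ coreImg H w := mem_map_of_mem q (mem_subgroupOf.2 (mem_map_of_mem _ h1))
      have hvK' : q (⟨v, h.le hv⟩ : H) ∈ K := by
        obtain ⟨P, hP⟩ := exists_sylow_of_invol (h.bar_invol hv hv1)
        exact hall P hP
      have h3 : q e ∈ K := by
        rw [he, map_mul, map_mul, map_mul, map_inv, map_inv]
        exact mul_mem (hKn.conj_mem _ hvK' _) (inv_mem hvK')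
      have h4 := (h.cent_K hIH hH hns hKn hKs hKnc hK8 hKi hall hw hw1 (hcov w hw hw1) h2).1 h3
      rw [he, map_mul, map_mul, map_mul, map_inv, map_inv, mul_inv_eq_one, mul_inv_eq_iff_eq_mul] at h4
      exact h4
    refine hkill y z hy hzw ?_
    rw [hyf]
    exact hfc _ hzK hzv
  exact ⟨y, mem_subgroupOf.2 (mem_core_of_tp hw2 hy hyo hone), hyf⟩

/-- The core of the centralizer meets `H` inside its odd core. -/
theorem core_inf_le (hIH : CoreIH G) (hH : H ≠ ⊤) (hns : ∀ v ∈ (S : Subgroup G), v ≠ 1 →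
      ¬ Group.IsSolvable ↥(centralizer ({v} : Set G))) {x : G} (hx : x ∈ core t) (hxH : x ∈ H) :
    x ∈ coreH H := by
  haveI : Fact (Nat.Prime 2) := ⟨Nat.prime_two⟩
  have ht1 : t ≠ 1 := CfsgLib.Invol.invol_ne_one h.ord
  suffices hbot : coreImg H t = ⊥ by
    have h1 : QuotientGroup.mk' (Cfsg.oddCore H) ⟨x, hxH⟩ ∈ coreImg H t :=
      mem_map_of_mem _ (mem_subgroupOf.2 hx)
    rw [hbot, Subgroup.mem_bot] at h1
    exact (mem_coreH (x := (⟨x, hxH⟩ : H))).2 ((QuotientGroup.eq_one_iff _).1 h1)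
  set X := H ⧸ Cfsg.oddCore H
  set F := coreImg H t with hF
  set N := normalizer (F : Set X) with hN
  have hcent : ∀ g : X, Commute g (h.bar t h.mem) → g ∈ N := fun g hg =>
    mem_normalizer_iff.2 fun f => ⟨fun hf => h.coreImg_conj h.mem hg hf, fun hf => by
      have := h.coreImg_conj h.mem hg.inv_left hf
      rwa [inv_inv, show g⁻¹ * (g * f * g⁻¹) * g = f by group] at this⟩
  have hnorm : N = ⊤ → F = ⊥ := fun e => by
    haveI : F.Normal := normalizer_eq_top_iff.1 e
    exact eq_bot_of_odd_normal h.quot_core F (odd_coreImg H t)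
  rcases h.dichotomy (hns t h.mem ht1) with hA | ⟨K, hKn, hKs, hKnc, hK8, hKi, hall, hcov⟩
  · exact hnorm (eq_top_iff.2 fun g _ => hcent g (hA g))
  by_contra hne
  have hNtop : N ≠ ⊤ := fun e => hne (hnorm e)
  obtain ⟨-, SX, -, -, htSX⟩ := h.fused_of_simple hKs hKnc hK8 hall h.mem ht1
  have hSN : (SX : Subgroup X) ≤ N := fun g hg => hcent g (comm_eight h.sylow_quot SX hg htSX)
  set SX0 : Sylow 2 X := (S.subtype h.le).mapSurjective (QuotientGroup.mk'_surjective (Cfsg.oddCore H)) with hSX0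
  have htS0 : h.bar t h.mem ∈ (SX0 : Subgroup X) := by
    rw [hSX0, Sylow.coe_mapSurjective, Sylow.coe_subtype]
    exact ⟨⟨t, h.le h.mem⟩, mem_subgroupOf.2 h.mem, rfl⟩
  have hSN0 : (SX0 : Subgroup X) ≤ N := fun g hg => hcent g (comm_eight h.sylow_quot SX0 hg htS0)
  have hse : Cfsg.IsStronglyEmbedded N := CfsgLib.ZNGroup.stronglyEmbedded_of_fused
    (h.bar_invol h.mem ht1) htS0 hNtop hSN0
    (fun g hg => hcent g (mem_centralizer_singleton_iff.1 hg)) fun u hu hu2 => by
      rw [hSX0, Sylow.coe_mapSurjective, Sylow.coe_subtype] at hu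
      obtain ⟨u', hu', rfl⟩ := hu
      have hu1 : (u' : G) ≠ 1 := fun e => CfsgLib.Invol.invol_ne_one hu2 (by
        rw [show u' = 1 from Subtype.ext e, map_one])
      obtain ⟨y, -, hy, -, -⟩ := h.fused_of_simple hKs hKnc hK8 hall (mem_subgroupOf.1 hu') hu1
      have hu'S : (u' : G) ∈ (S : Subgroup G) := mem_subgroupOf.1 hu'
      have hyN : QuotientGroup.mk' (Cfsg.oddCore H) y ∈ N := by
        have hfw : ∀ f ∈ F, QuotientGroup.mk' (Cfsg.oddCore H) y * f * (QuotientGroup.mk' (Cfsg.oddCore H) y)⁻¹ ∈ F := by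
          rintro _ ⟨z, hz, rfl⟩
          refine h.coreImg_le hIH hH hns hKn hKs hKnc hK8 hKi hall hcov hu'S hu1 h.mem ht1 ?_
          refine ⟨y * z * y⁻¹, mem_subgroupOf.2 ?_, by simp⟩
          have := conj_core (g := (y : G)) (mem_subgroupOf.1 hz)
          rwa [hy] at this
        refine mem_normalizer_iff.2 fun f => ⟨fun hf => hfw f hf, fun hf => ?_⟩
        have hmap : F.map (MulAut.conj (QuotientGroup.mk' (Cfsg.oddCore H) y)).toMonoidHom = F :=
          eq_of_le_of_card_ge (by rintro _ ⟨f, hf, rfl⟩; exact hfw f hf)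
            (by rw [card_map_of_injective (MulAut.conj _).injective])
        obtain ⟨f', hf', e⟩ := hmap.symm ▸ hf
        exact (MulAut.conj _).injective e ▸ hf'
      refine ⟨(QuotientGroup.mk' (Cfsg.oddCore H) y)⁻¹, inv_mem hyN, ?_⟩
      rw [inv_inv, bar, ← map_inv, ← map_mul, ← map_mul]
      refine congrArg _ (Subtype.ext ?_)
      show (y : G)⁻¹ * u' * y = t
      rw [← hy]; group
  have hle := Cfsg.Agent.S1221.result N hse
  refine hne (le_bot_iff.1 (le_trans ?_ (hle.trans h.quot_core.le)))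
  exact le_coreH le_normalizer (odd_coreImg H t) fun g hg f hf => (mem_normalizer_iff.1 hg f).1 hf

end Sect

end CfsgLib.Walter.Core
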