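import Cfsg.Agent.Lib.Walter.Core.Quot
import Cfsg.Agent.Lib.Walter.Core.EightTwo
import Cfsg.Agent.Lib.Walter.Core.FieldTwo

/-!
# Elements of an involution centralizer modulo the kernel; covering subgroups
-/

set_option autoImplicit false
set_option linter.style.haveILetI false
set_option linter.unusedSectionVars false

open Subgroup

namespace CfsgLib.Walter.Core

universe u

attribute [local instance] oddCore_normal

/-- The induction hypothesis. -/
def CoreIH (G : Type u) [Group G] : Prop :=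
  ∀ (L : Type u) [Group L] [Finite L], Nat.card L < Nat.card G → Eight L → ∀ t : L, orderOf t = 2 →
    ¬ Group.IsSolvable ↥(centralizer ({t} : Set L)) → Cfsg.oddCore ↥(centralizer ({t} : Set L)) = ⊥

variable {G : Type u} [Group G]

/-- `H` covers the centralizer of `t` modulo its core. -/
def Covers (H : Subgroup G) (t : G) : Prop := ∀ c : G, Commute c t → ∃ o ∈ core t, o * c ∈ H

/-- The odd core of a subgroup, in the group. -/
def coreH (H : Subgroup G) : Subgroup G := (Cfsg.oddCore H).map H.subtype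

/-- An element of the centralizer of `t` modulo the kernel. -/
def tp (t c : G) (h : Commute c t) : Top t := pr t ⟨c, mem_centralizer_singleton_iff.2 h.eq⟩

theorem tp_mul {t a b : G} (ha : Commute a t) (hb : Commute b t) :
    tp t (a * b) (ha.mul_left hb) = tp t a ha * tp t b hb := by
  unfold tp
  rw [← map_mul]
  rfl

theorem tp_inv {t a : G} (ha : Commute a t) : tp t a⁻¹ ha.inv_left = (tp t a ha)⁻¹ := by
  unfold tp
  rw [← map_inv]
  rfl

theorem tp_conj {t a b : G} (ha : Commute a t) (hb : Commute b t) :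
    tp t (a * b * a⁻¹) ((ha.mul_left hb).mul_left ha.inv_left) = tp t a ha * tp t b hb * (tp t a ha)⁻¹ := by
  rw [tp_mul (ha.mul_left hb) ha.inv_left, tp_mul ha hb, tp_inv]

theorem tp_congr {t a b : G} (ha : Commute a t) (hb : Commute b t) (e : a = b) : tp t a ha = tp t b hb := by
  subst e; rfl

theorem tp_pow {t a : G} (ha : Commute a t) (k : ℕ) : tp t (a ^ k) (ha.pow_left k) = tp t a ha ^ k := by
  unfold tp
  rw [← map_pow]
  exact congrArg _ (Subtype.ext (by simp))

theorem core_commute {t o : G} (ho : o ∈ core t) : Commute o t :=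
  mem_centralizer_singleton_iff.1 (core_le t ho)

theorem tp_core {t o : G} (ho : o ∈ core t) : tp t o (core_commute ho) = 1 := by
  obtain ⟨d, hd, rfl⟩ := mem_map.1 ho
  exact (QuotientGroup.eq_one_iff _).2 (mem_sup_left hd)

theorem tp_self {t : G} : tp t t (Commute.refl t) = 1 :=
  (QuotientGroup.eq_one_iff _).2 (mem_sup_right (mem_zpowers (tauC t)))

theorem exists_tp_eq {t : G} (x : Top t) : ∃ (c : G) (h : Commute c t), tp t c h = x := by
  obtain ⟨d, rfl⟩ := QuotientGroup.mk'_surjective (kerT t) x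
  exact ⟨d, mem_centralizer_singleton_iff.1 d.2, rfl⟩

/-- Covering subgroups map onto the quotient. -/
theorem Covers.exists_rep {H : Subgroup G} {t : G} (hc : Covers H t) (x : Top t) :
    ∃ (c : G) (h : Commute c t), c ∈ H ∧ tp t c h = x := by
  obtain ⟨c, h, rfl⟩ := exists_tp_eq x
  obtain ⟨o, ho, hoc⟩ := hc c h
  exact ⟨o * c, (core_commute ho).mul_left h, hoc, by rw [tp_mul (core_commute ho) h, tp_core ho, one_mul]⟩

theorem Covers.mono {H K : Subgroup G} {t : G} (hc : Covers H t) (hHK : H ≤ K) : Covers K t := fun c h => by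
  obtain ⟨o, ho, hoc⟩ := hc c h
  exact ⟨o, ho, hHK hoc⟩

theorem coreH_le (H : Subgroup G) : coreH H ≤ H := map_subtype_le _

theorem mem_coreH {H : Subgroup G} {x : H} : (x : G) ∈ coreH H ↔ x ∈ Cfsg.oddCore H :=
  ⟨fun h => by obtain ⟨d, hd, e⟩ := mem_map.1 h; exact Subtype.ext e ▸ hd, fun h => mem_map_of_mem _ h⟩

theorem coreH_conj {H : Subgroup G} {g x : G} (hg : g ∈ H) (hx : x ∈ coreH H) : g * x * g⁻¹ ∈ coreH H := by
  obtain ⟨d, hd, rfl⟩ := mem_map.1 hx
  exact ⟨⟨g, hg⟩ * d * ⟨g, hg⟩⁻¹, (oddCore_normal H).conj_mem d hd _, rfl⟩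

theorem core_conj_mem {t c o : G} (hc : Commute c t) (ho : o ∈ core t) : c * o * c⁻¹ ∈ core t := by
  obtain ⟨d, hd, rfl⟩ := mem_map.1 ho
  exact ⟨⟨c, mem_centralizer_singleton_iff.2 hc.eq⟩ * d * ⟨c, mem_centralizer_singleton_iff.2 hc.eq⟩⁻¹,
    (oddCore_normal _).conj_mem d hd _, rfl⟩

variable [Finite G]

theorem odd_coreH (H : Subgroup G) : Odd (Nat.card (coreH H)) := by
  rw [coreH, card_map_of_injective H.subtype_injective]
  exact Nat.coprime_two_right.1 (CfsgLib.Coprime.pPrimeCore_coprime Nat.prime_two)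

/-- An odd subgroup normalized by `H` lies in its core. -/
theorem le_coreH {H U : Subgroup G} (hUH : U ≤ H) (hU : Odd (Nat.card U))
    (hn : ∀ h ∈ H, ∀ u ∈ U, h * u * h⁻¹ ∈ U) : U ≤ coreH H := by
  haveI : (U.subgroupOf H).Normal := ⟨fun u hu h => by
    rw [mem_subgroupOf] at hu ⊢
    exact hn _ h.2 _ hu⟩
  intro u hu
  exact mem_coreH.2 (CfsgLib.Coprime.le_pPrimeCore (p := 2) (N := U.subgroupOf H)
    (Nat.coprime_two_right.2 (by rwa [Nat.card_congr (subgroupOfEquivOfLe hUH).toEquiv]))
    (mem_subgroupOf.2 hu : (⟨u, hUH hu⟩ : H) ∈ U.subgroupOf H))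

/-- An odd subgroup normalized by the centralizer lies in the core. -/
theorem le_core {t : G} {U : Subgroup G} (hUt : ∀ u ∈ U, Commute u t) (hU : Odd (Nat.card U))
    (hn : ∀ c, Commute c t → ∀ u ∈ U, c * u * c⁻¹ ∈ U) : U ≤ core t :=
  le_coreH (H := centralizer ({t} : Set G)) (fun u hu => mem_centralizer_singleton_iff.2 (hUt u hu).eq) hU
    fun c hc => hn c (mem_centralizer_singleton_iff.1 hc)

theorem conj_core {g t o : G} (ho : o ∈ core t) : g * o * g⁻¹ ∈ core (g * t * g⁻¹) := by
  refine (le_core (t := g * t * g⁻¹) (U := (core t).map (MulAut.conj g).toMonoidHom) ?_ ?_ ?_)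
    ⟨o, ho, rfl⟩
  · rintro _ ⟨u, hu, rfl⟩
    have := (core_commute hu).map (MulAut.conj g).toMonoidHom
    simpa using this
  · rw [card_map_of_injective (MulAut.conj g).injective]
    exact odd_core t
  · rintro c hc _ ⟨u, hu, rfl⟩
    refine ⟨g⁻¹ * c * g * u * (g⁻¹ * c * g)⁻¹, core_conj_mem ?_ hu, ?_⟩
    · show g⁻¹ * c * g * t = t * (g⁻¹ * c * g)
      calc g⁻¹ * c * g * t = g⁻¹ * (c * (g * t * g⁻¹)) * g := by group
        _ = g⁻¹ * (g * t * g⁻¹ * c) * g := by rw [hc.eq]
        _ = t * (g⁻¹ * c * g) := by group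
    · simp only [MulEquiv.coe_toMonoidHom, MulAut.conj_apply]
      group

theorem Covers.conj {H : Subgroup G} {t g : G} (hc : Covers H t) (hg : g ∈ H) : Covers H (g * t * g⁻¹) := by
  intro c hc'
  obtain ⟨o, ho, hoc⟩ := hc (g⁻¹ * c * g) (by
    show g⁻¹ * c * g * t = t * (g⁻¹ * c * g)
    calc g⁻¹ * c * g * t = g⁻¹ * (c * (g * t * g⁻¹)) * g := by group
      _ = g⁻¹ * (g * t * g⁻¹ * c) * g := by rw [hc'.eq]
      _ = t * (g⁻¹ * c * g) := by group)
  refine ⟨g * o * g⁻¹, conj_core ho, ?_⟩
  rw [show g * o * g⁻¹ * c = g * (o * (g⁻¹ * c * g)) * g⁻¹ by group]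
  exact mul_mem (mul_mem hg hoc) (inv_mem hg)

/-- An element of odd order in the kernel lies in the core. -/
theorem mem_core_of_tp {t : G} (ht : orderOf t = 2) {c : G} (h : Commute c t) (ho : Odd (orderOf c))
    (e : tp t c h = 1) : c ∈ core t :=
  mem_map_of_mem _ (mem_oddCore_of_pr (c := ⟨c, mem_centralizer_singleton_iff.2 h.eq⟩) ht
    (by rwa [← Subgroup.orderOf_coe]) e)

theorem odd_orderOf_core {t o : G} (ho : o ∈ core t) : Odd (orderOf o) :=
  (odd_core t).of_dvd_nat (Subgroup.orderOf_dvd_natCard _ ho)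

theorem tp_odd {t c : G} (h : Commute c t) (ho : Odd (orderOf c)) : Odd (orderOf (tp t c h)) :=
  (show Odd (orderOf (⟨c, mem_centralizer_singleton_iff.2 h.eq⟩ : centralizer ({t} : Set G))) by
    rwa [← Subgroup.orderOf_coe]).of_dvd_nat (orderOf_map_dvd (pr t) _)

/-- An involution of the centralizer other than `t` gives an involution. -/
theorem tp_invol {t u : G} (ht : orderOf t = 2) (hu : orderOf u = 2) (h : Commute u t) (hne : u ≠ t) :
    orderOf (tp t u h) = 2 := by
  refine orderOf_eq_prime ?_ fun e => ?_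
  · rw [← tp_pow h]
    exact (tp_congr _ (Commute.one_left t) (by rw [← hu, pow_orderOf_eq_one])).trans
      (map_one (pr t))
  · rcases mem_kerT ht ((QuotientGroup.eq_one_iff _).1 e) with h1 | ⟨o, ho, he⟩
    · have h2 := odd_orderOf_core (mem_map_of_mem (centralizer ({t} : Set G)).subtype h1)
      rw [coe_subtype, hu] at h2
      exact absurd h2 (by decide)
    · have hu' : u = (o : G) * t := congrArg Subtype.val he
      have ho' : (o : G) ∈ core t := mem_map_of_mem _ ho
      have h2 : (o : G) * o = 1 := by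
        have e1 := CfsgLib.Invol.invol_mul_self hu
        rw [hu', (core_commute ho').eq, mul_assoc t, ← mul_assoc (o : G) t, (core_commute ho').eq, mul_assoc t,
          ← mul_assoc t t, CfsgLib.Invol.invol_mul_self ht, one_mul] at e1
        exact e1
      have h3 := eq_one_of_two_odd (k := 1) (by rw [pow_one, pow_two, h2]) (odd_orderOf_core ho')
      exact hne (by rw [hu', h3, one_mul])

/-- An odd subgroup of `C(t)` normalized by the elements of a covering subgroup lies in the core. -/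
theorem le_core_of_covers (hs : SylowEight G) {t : G} (ht : orderOf t = 2)
    (hns : ¬ Group.IsSolvable ↥(centralizer ({t} : Set G))) {H : Subgroup G} (hc : Covers H t)
    {U : Subgroup G} (hUt : ∀ u ∈ U, Commute u t) (hU : Odd (Nat.card U))
    (hn : ∀ c ∈ H, Commute c t → ∀ u ∈ U, c * u * c⁻¹ ∈ U) : U ≤ core t := by
  obtain ⟨P⟩ := exists_top_data hs ht hns
  set W := (U.subgroupOf (centralizer ({t} : Set G))).map (pr t) with hW
  have hWo : Odd (Nat.card W) := hU.of_dvd_nat ((CfsgLib.Coprime.card_map_dvd_card _ _).trans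
    (card_comap_dvd_of_injective U (centralizer ({t} : Set G)).subtype (subtype_injective _)))
  have hbot : W = ⊥ := P.eq_bot_of_odd_normalized hWo fun m _ w hw => by
    obtain ⟨⟨u, huC⟩, hu, rfl⟩ := hw
    rw [SetLike.mem_coe, mem_subgroupOf] at hu
    obtain ⟨c, hct, hcH, rfl⟩ := hc.exists_rep m
    exact ⟨⟨c * u * c⁻¹, mem_centralizer_singleton_iff.2 (((hct.mul_left (hUt u hu)).mul_left hct.inv_left).eq)⟩,
      mem_subgroupOf.2 (hn c hcH hct u hu), tp_conj hct (hUt u hu)⟩
  intro u hu
  have hut := hUt u hu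
  refine mem_core_of_tp ht hut (hU.of_dvd_nat (Subgroup.orderOf_dvd_natCard U hu)) (mem_bot.1 (hbot ▸ ?_))
  exact ⟨⟨u, mem_centralizer_singleton_iff.2 hut.eq⟩, mem_subgroupOf.2 hu, rfl⟩

/-- The core of a covering subgroup meets the centralizer inside the core. -/
theorem coreH_inf_le (hs : SylowEight G) {t : G} (ht : orderOf t = 2)
    (hns : ¬ Group.IsSolvable ↥(centralizer ({t} : Set G))) {H : Subgroup G} (hc : Covers H t) {x : G}
    (hx : x ∈ coreH H) (hxt : Commute x t) : x ∈ core t :=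
  le_core_of_covers hs ht hns hc (U := coreH H ⊓ centralizer ({t} : Set G))
    (fun _ hu => mem_centralizer_singleton_iff.1 hu.2)
    ((odd_coreH H).of_dvd_nat (card_dvd_of_le inf_le_left))
    (fun c hc' hct u hu => ⟨coreH_conj hc' hu.1, mem_centralizer_singleton_iff.2
      (((hct.mul_left (mem_centralizer_singleton_iff.1 hu.2)).mul_left hct.inv_left).eq)⟩)
    ⟨hx, mem_centralizer_singleton_iff.2 hxt.eq⟩

theorem not_solvable_of_pslData {X : Type u} [Group X] [Finite X] (P : PslData X) : ¬ Group.IsSolvable X := by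
  intro h
  haveI := h
  obtain ⟨hsimp, hnc⟩ := CfsgLib.Perm.Dickson.psl_simple_noncomm (F := P.F)
    (by rw [Nat.card_eq_fintype_card]; have := P.five_le; omega)
  haveI := hsimp
  haveI : Group.IsSolvable (Matrix.ProjectiveSpecialLinearGroup (Fin 2) P.F) :=
    Group.isSolvable_of_surjective (f := (P.e : P.M →* _)) P.e.surjective
  exact hnc ⟨⟨IsSimpleGroup.comm_iff_isSolvable.2 inferInstance⟩⟩

/-- The centralizer of `t` in a covering subgroup is not solvable. -/
theorem not_solvable_inf (hs : SylowEight G) {t : G} (ht : orderOf t = 2)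
    (hns : ¬ Group.IsSolvable ↥(centralizer ({t} : Set G))) {H : Subgroup G} (hc : Covers H t) :
    ¬ Group.IsSolvable ↥(H ⊓ centralizer ({t} : Set G) : Subgroup G) := by
  obtain ⟨P⟩ := exists_top_data hs ht hns
  intro h
  haveI := h
  refine not_solvable_of_pslData P (Group.isSolvable_of_surjective
    (f := (pr t).comp (Subgroup.inclusion (inf_le_right : H ⊓ centralizer ({t} : Set G) ≤ _))) fun x => ?_)
  obtain ⟨c, hct, hcH, rfl⟩ := hc.exists_rep x
  exact ⟨⟨c, hcH, mem_centralizer_singleton_iff.2 hct.eq⟩, rfl⟩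

/-- Involutions congruent modulo an odd subgroup they lie over are conjugate by one of its elements. -/
theorem exists_conj_of_mem {N : Subgroup G} (hN : Odd (Nat.card N)) {u w : G} (hu : orderOf u = 2)
    (hw : orderOf w = 2) (h : u * w ∈ N) : ∃ k ∈ N, k * u * k⁻¹ = w := by
  obtain ⟨d, hd, e⟩ := CfsgLib.Invol.exists_conj_eq_of_odd hu hw
    (hN.of_dvd_nat (Subgroup.orderOf_dvd_natCard N h))
  exact ⟨d, zpowers_le.2 h hd, e⟩

/-- Overgroups of a Sylow subgroup. -/
theorem sylowEight_of_le (hs : SylowEight G) {H : Subgroup G} (S : Sylow 2 G) (hle : (S : Subgroup G) ≤ H) :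
    SylowEight H := by
  haveI : Fact (Nat.Prime 2) := ⟨Nat.prime_two⟩
  intro R
  refine ⟨?_, fun x hx => ?_⟩
  · rw [R.card_eq_multiplicity, ← (S.subtype hle).card_eq_multiplicity, Sylow.coe_subtype,
      Nat.card_congr (subgroupOfEquivOfLe hle).toEquiv, (hs S).1]
  · obtain ⟨P, hP⟩ := (R.2.map H.subtype).exists_le_sylow
    exact Subtype.ext ((hs P).2 _ (hP (mem_map_of_mem H.subtype hx)))

/-- Quotients by odd subgroups. -/
theorem sylowEight_quot {X : Type u} [Group X] [Finite X] (hs : SylowEight X) (N : Subgroup X) [N.Normal]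
    (hN : Odd (Nat.card N)) : SylowEight (X ⧸ N) := by
  haveI : Fact (Nat.Prime 2) := ⟨Nat.prime_two⟩
  intro R
  obtain ⟨T, hT⟩ := Sylow.mapSurjective_surjective (QuotientGroup.mk'_surjective N) 2 R
  rw [← hT, Sylow.coe_mapSurjective]
  refine ⟨?_, ?_⟩
  · have hinj : Function.Injective ((QuotientGroup.mk' N).comp (T : Subgroup X).subtype) := by
      rw [injective_iff_map_eq_one]
      intro x hx
      exact Subtype.ext (eq_one_of_two_odd (k := 1) (by rw [pow_one, pow_two]; exact (hs T).2 x x.2)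
        (hN.of_dvd_nat (Subgroup.orderOf_dvd_natCard N ((QuotientGroup.eq_one_iff _).1 hx))))
    rw [← (hs T).1]
    conv_lhs => rw [← range_subtype (T : Subgroup X), ← MonoidHom.range_comp]
    exact (Nat.card_congr (MonoidHom.ofInjective hinj).toEquiv).symm
  · rintro _ ⟨x, hx, rfl⟩
    rw [← map_mul, (hs T).2 x hx, map_one]

theorem no_index_two {K : Type u} [Group K] [Finite K] (hK : IsSimpleGroup K) (hnc : ¬ IsMulCommutative K) :
    ∀ M : Subgroup K, M.Normal → M.index ≠ 2 := by
  intro M hM h2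
  rcases hK.eq_bot_or_eq_top_of_normal M hM with e | e <;> rw [e] at h2
  · rw [index_bot] at h2
    haveI := isCyclic_of_prime_card (hp := ⟨Nat.prime_two⟩) h2
    exact hnc IsCyclic.isMulCommutative
  · rw [index_top] at h2
    omega

/-- The Sylow subgroups of the centralizer modulo the kernel are four groups. -/
theorem top_sylow (hs : SylowEight G) {t : G} (ht : orderOf t = 2) (R : Sylow 2 (Top t)) :
    Nat.card (R : Subgroup (Top t)) = 4 ∧ ∀ x ∈ (R : Subgroup (Top t)), x * x = 1 := by
  haveI : Fact (Nat.Prime 2) := ⟨Nat.prime_two⟩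
  obtain ⟨T, h8, htT, hsq, -⟩ := exists_sylow_cent hs ht
  obtain ⟨g, hg⟩ := MulAction.exists_smul_eq (Top t)
    (Sylow.mapSurjective (QuotientGroup.mk'_surjective (kerT t)) T) R
  have hf : Function.Surjective (pr t) := QuotientGroup.mk'_surjective _
  have hmem : ∀ x ∈ (R : Subgroup (Top t)), ∃ y ∈ T.toSubgroup, g * pr t y * g⁻¹ = x := by
    intro x hx
    rw [← hg, Sylow.coe_subgroup_smul] at hx
    obtain ⟨w, hw, rfl⟩ := hx
    rw [Sylow.coe_mapSurjective] at hw
    obtain ⟨y, hy, rfl⟩ := hw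
    exact ⟨y, hy, rfl⟩
  refine ⟨?_, fun x hx => ?_⟩
  · rw [R.card_eq_multiplicity, ← (Sylow.mapSurjective hf T).card_eq_multiplicity, Sylow.coe_mapSurjective]
    have h1 := Subgroup.card_mul_index ((pr t).comp T.toSubgroup.subtype).ker
    rw [index_ker, MonoidHom.range_comp, range_subtype, h8] at h1
    have hker : ((pr t).comp T.toSubgroup.subtype).ker = zpowers (⟨tauC t, htT⟩ : T.toSubgroup) := by
      refine le_antisymm (fun x hx => ?_) (zpowers_le.2 ((QuotientGroup.eq_one_iff _).2
        (mem_sup_right (mem_zpowers _))))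
      have hx2 : ∀ z : ↥(centralizer ({t} : Set G)), z ∈ T.toSubgroup → z ∈ Cfsg.oddCore _ → z = 1 := fun z hz hzo =>
        eq_one_of_two_odd (k := 1) (by rw [pow_one, pow_two, hsq z hz])
          (odd_order_of_mem (Nat.coprime_two_right.1 (CfsgLib.Coprime.pPrimeCore_coprime Nat.prime_two)) hzo)
      rcases mem_kerT ht ((QuotientGroup.eq_one_iff _).1 hx) with h | ⟨o, ho, e⟩
      · rw [show x = 1 from Subtype.ext (hx2 _ x.2 h)]; exact one_mem _
      · replace e : (x : ↥(centralizer ({t} : Set G))) = o * tauC t := e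
        have ho1 : o = 1 := hx2 o (by
          rw [show o = (x : ↥(centralizer ({t} : Set G))) * (tauC t)⁻¹ by rw [e, mul_inv_cancel_right]]
          exact mul_mem x.2 (inv_mem htT)) ho
        rw [show x = ⟨tauC t, htT⟩ from Subtype.ext (by rw [e, ho1, one_mul])]
        exact mem_zpowers _
    rw [hker, Nat.card_zpowers, ← Subgroup.orderOf_coe, ← Subgroup.orderOf_coe, ht] at h1
    omega
  · obtain ⟨y, hy, rfl⟩ := hmem x hx
    rw [show g * pr t y * g⁻¹ * (g * pr t y * g⁻¹) = g * (pr t y * pr t y) * g⁻¹ by group, ← map_mul, hsq y hy,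
      map_one]
    group

end CfsgLib.Walter.Core
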