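import Cfsg.Agent.Lib.Walter.Core.Class
import Cfsg.Agent.Lib.Walter.Core.NoSL
import Cfsg.Agent.Lib.GW.CaseB.OnePrime

/-!
# The centre of the Thompson subgroup of a covering subgroup
-/

set_option autoImplicit false
set_option linter.style.haveILetI false
set_option linter.unusedSectionVars false
set_option maxHeartbeats 1000000

open Subgroup
open CfsgLib.Coprime (IsSylowIn)

namespace CfsgLib.Walter.Core

universe u

attribute [local instance] oddCore_normal

variable {G : Type u} [Group G] [Finite G] {S : Sylow 2 G} {t : G} {H : Subgroup G}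

/-- A normal subgroup meeting `S` in `⟨t⟩` has its elements of odd order in the odd core. -/
theorem mem_oddCore_of_small (h : Sect S t H) (W : Subgroup H) [W.Normal]
    (hsmall : ∀ s : H, (s : G) ∈ (S : Subgroup G) → s ∈ W → (s : G) ∈ zpowers t) {x : H} (hxW : x ∈ W)
    (hx : Odd (orderOf x)) : x ∈ Cfsg.oddCore H := by
  haveI : Fact (Nat.Prime 2) := ⟨Nat.prime_two⟩
  obtain ⟨R, hR⟩ := CfsgLib.LS.sylow_inf_subnormal (S.subtype h.le) (Normal.isSubnormal (inferInstance : W.Normal))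
  have hRl : ∀ y : W, y ∈ (R : Subgroup W) → ((y : H) : G) = 1 ∨ ((y : H) : G) = t := fun y hy => by
    have h1 : (y : H) ∈ ((S.subtype h.le : Sylow 2 H) : Subgroup H) ⊓ W := hR ▸ mem_map_of_mem W.subtype hy
    rw [Sylow.coe_subtype] at h1
    obtain ⟨i, hi⟩ := hsmall _ (mem_subgroupOf.1 h1.1) h1.2
    simp only [] at hi
    have ht2 : t ^ (2 : ℤ) = 1 := by rw [zpow_two]; exact CfsgLib.Invol.invol_mul_self h.ord
    rcases Int.even_or_odd' i with ⟨j, rfl | rfl⟩
    · left; rw [← hi, zpow_mul, ht2, one_zpow]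
    · right; rw [← hi, zpow_add, zpow_mul, ht2, one_zpow, one_mul, zpow_one]
  have hNC : normalizer ((R : Subgroup W) : Set W) ≤ centralizer ((R : Subgroup W) : Set W) := by
    intro n hn
    refine mem_centralizer_iff.2 fun y hy => ?_
    have hy' : n * y * n⁻¹ ∈ (R : Subgroup W) := (mem_normalizer_iff.1 hn y).1 hy
    have key : n * y * n⁻¹ = y := by
      rcases hRl y hy with e | e <;> rcases hRl _ hy' with e' | e'
      · exact Subtype.ext (Subtype.ext (e'.trans e.symm))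
      · exfalso
        have hy1 : y = 1 := Subtype.ext (Subtype.ext e)
        have h0 : n * y * n⁻¹ = 1 := by rw [hy1]; group
        rw [h0] at e'
        exact CfsgLib.Invol.invol_ne_one h.ord e'.symm
      · exfalso
        have h0 : n * y * n⁻¹ = 1 := Subtype.ext (Subtype.ext e')
        rw [conj_eq_one_iff.1 h0] at e
        exact CfsgLib.Invol.invol_ne_one h.ord e.symm
      · exact Subtype.ext (Subtype.ext (e'.trans e.symm))
    exact (mul_inv_eq_iff_eq_mul.1 key).symm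
  obtain ⟨P, N, hN, hc⟩ := CfsgLib.Fusion.hasNormalPComplement_of_normalizer_le_centralizer R hNC
  haveI := hN
  have hNodd : Odd (Nat.card N) := by
    rw [← hc.index_eq_card, ← Nat.not_even_iff_odd, even_iff_two_dvd]
    exact P.not_dvd_index
  have hxN : (⟨x, hxW⟩ : W) ∈ N := by
    refine (QuotientGroup.eq_one_iff _).1 (orderOf_eq_one_iff.1 ?_)
    have h1 := orderOf_map_dvd (QuotientGroup.mk' N) (⟨x, hxW⟩ : W)
    rw [← Subgroup.orderOf_coe] at h1
    have h2 := orderOf_dvd_natCard (QuotientGroup.mk' N (⟨x, hxW⟩ : W))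
    obtain ⟨k, hk⟩ := P.2.exists_card_eq
    rw [← index_eq_card, hc.symm.index_eq_card, hk] at h2
    exact Nat.eq_one_of_dvd_coprimes (Nat.Coprime.pow_left k (Nat.coprime_two_left.2 hx)) h2 h1
  have h1 : x ∈ (Cfsg.oddCore W).map W.subtype :=
    ⟨⟨x, hxW⟩, CfsgLib.Coprime.le_pPrimeCore (Nat.coprime_two_right.2 hNodd) hxN, rfl⟩
  rw [show (Cfsg.oddCore W).map W.subtype = Cfsg.oddCore H ⊓ W from
    CfsgLib.Coprime.pPrimeCore_map_subtype_eq Nat.prime_two W] at h1
  exact h1.1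

/-- `Z(J)` of a Sylow `r`-subgroup is normal and lies in the invariant `r`-subgroup. -/
theorem exists_zj_normal (h : Sect S t H) {r : ℕ} [Fact r.Prime] (hr : r ≠ 2) {R : Subgroup G}
    (hR : IsSylowIn r R (coreH H)) (hRn : H ≤ normalizer (R : Set G)) (hne : R ≠ ⊥)
    (hcs : ∀ s ∈ (S : Subgroup G), (∀ x ∈ R, Commute s x) → s ∈ zpowers t) :
    ∃ J : Sylow r H, H ≤ normalizer (Cfsg.centerThompsonOf r ((J : Subgroup H).map H.subtype) : Set G) ∧
      Cfsg.centerThompsonOf r ((J : Subgroup H).map H.subtype) ≤ R ∧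
      Cfsg.centerThompsonOf r ((J : Subgroup H).map H.subtype) ≠ ⊥ := by
  classical
  haveI : Fact (Nat.Prime 2) := ⟨Nat.prime_two⟩
  have hrp : r.Prime := Fact.out
  have hRH : R ≤ H := hR.1.trans (coreH_le H)
  set Rh := R.subgroupOf H with hRh
  haveI hRhn : Rh.Normal := (normal_subgroupOf_iff_le_normalizer hRH).2 hRn
  have hRp : IsPGroup r Rh := hR.isPGroup.of_equiv (subgroupOfEquivOfLe hRH).symm
  have hRhK : Rh ≤ Cfsg.oddCore H := fun x hx => mem_coreH.1 (hR.1 (mem_subgroupOf.1 hx))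
  -- `r`-subgroups of the core normalized by `R`
  have hmax : ∀ z : H, z ∈ Cfsg.oddCore H → (∃ k, z ^ r ^ k = 1) → z ∈ Rh := by
    intro z hz hzp
    obtain ⟨k, hk⟩ := hzp
    have hsup : IsPGroup r (zpowers z ⊔ Rh : Subgroup H) :=
      (CfsgLib.Coprime.isPGroup_zpowers hk).to_sup_of_normal_right hRp
    have hle : (zpowers z ⊔ Rh).map H.subtype ≤ coreH H :=
      map_mono (sup_le (zpowers_le.2 hz) hRhK)
    obtain ⟨a, ha⟩ := (hsup.map H.subtype).exists_card_eq
    have h1 : R ≤ (zpowers z ⊔ Rh).map H.subtype :=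
      (map_subgroupOf_eq_of_le hRH).ge.trans (map_mono le_sup_right)
    have h2 : R = (zpowers z ⊔ Rh).map H.subtype := by
      refine eq_of_le_of_card_ge h1 ?_
      rw [hR.2, ha]
      exact Nat.pow_le_pow_right hrp.pos
        ((hrp.pow_dvd_iff_le_factorization Nat.card_pos.ne').1 (ha ▸ card_dvd_of_le hle))
    exact mem_subgroupOf.2 (h2.ge (mem_map_of_mem _ (mem_sup_left (mem_zpowers z))))
  set Y := Cfsg.pPrimeCore r H with hY
  haveI hYn : Y.Normal := by
    haveI := CfsgLib.Coprime.pPrimeCore_characteristic (G := H) r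
    infer_instance
  have hYR : ∀ y ∈ Y, ∀ x ∈ Rh, Commute y x := fun y hy x hx =>
    Subgroup.commute_of_normal_of_disjoint Y Rh hYn hRhn (disjoint_iff.2 (inf_eq_bot_of_coprime (by
      obtain ⟨k, hk⟩ := hRp.exists_card_eq
      rw [hk]
      exact Nat.Coprime.pow_right k (CfsgLib.Coprime.pPrimeCore_coprime hrp)))) y x hy hx
  have hsY : ∀ s : H, (s : G) ∈ (S : Subgroup G) → s ∈ centralizer (Rh : Set H) → (s : G) ∈ zpowers t :=
    fun s hs hsc => hcs _ hs fun x hx =>
      ((congrArg Subtype.val (mem_centralizer_iff.1 hsc ⟨x, hRH hx⟩ (mem_subgroupOf.2 hx))).symm :)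
  -- the centralizer of `R`
  set C := centralizer (Rh : Set H) with hC
  haveI hCn : C.Normal := Subgroup.normal_centralizer
  have hCle : C ≤ Rh ⊔ Y := by
    obtain ⟨Q⟩ : Nonempty (Sylow r C) := inferInstance
    have hQR : ∀ y : C, y ∈ (Q : Subgroup C) → (y : H) ∈ Rh := by
      intro y hy
      obtain ⟨k, hk⟩ := Q.2 ⟨y, hy⟩
      have hk' : (y : H) ^ r ^ k = 1 := by
        simpa using congrArg (fun z : (Q : Subgroup C) => ((z : C) : H)) hk
      refine hmax _ (mem_oddCore_of_small h C hsY y.2 ?_) ⟨k, hk'⟩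
      exact ((hrp.odd_of_ne_two hr).pow (n := k)).of_dvd_nat (orderOf_dvd_of_pow_eq_one hk')
    have hNC : normalizer ((Q : Subgroup C) : Set C) ≤ centralizer ((Q : Subgroup C) : Set C) :=
      fun n _ => mem_centralizer_iff.2 fun y hy => Subtype.ext (mem_centralizer_iff.1 n.2 _ (hQR y hy))
    obtain ⟨P, N, hN, hc⟩ := CfsgLib.Fusion.hasNormalPComplement_of_normalizer_le_centralizer Q hNC
    haveI := hN
    have hNr : ¬ r ∣ Nat.card N := by rw [← hc.index_eq_card]; exact P.not_dvd_index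
    have hNY : N.map C.subtype ≤ Y := by
      refine (map_mono (CfsgLib.Coprime.le_pPrimeCore ((hrp.coprime_iff_not_dvd.2 hNr).symm))).trans ?_
      rw [CfsgLib.Coprime.pPrimeCore_map_subtype_eq hrp C]
      exact inf_le_left
    have hPR : ∀ y : C, y ∈ (P : Subgroup C) → (y : H) ∈ Rh := fun y hy => by
      obtain ⟨g, hg⟩ := MulAction.exists_smul_eq C Q P
      rw [← hg, Sylow.coe_subgroup_smul] at hy
      obtain ⟨z, hz, rfl⟩ := hy
      exact hRhn.conj_mem _ (hQR z hz) g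
    intro x hx
    have hmem : (⟨x, hx⟩ : C) ∈ (P : Subgroup C) ⊔ N := by rw [sup_comm, hc.sup_eq_top]; exact mem_top _
    rw [← SetLike.mem_coe, mul_normal] at hmem
    obtain ⟨p, hp, n, hn, e⟩ := hmem
    rw [show x = (p : H) * (n : H) from (congrArg Subtype.val e).symm]
    exact mul_mem (mem_sup_left (hPR p hp)) (mem_sup_right (hNY (mem_map_of_mem _ hn)))
  -- the quotient
  set q := QuotientGroup.mk' Y with hq
  have hqR : Rh.map q ≤ Cfsg.pCore r (H ⧸ Y) := by
    haveI : (Rh.map q).Normal := hRhn.map q (QuotientGroup.mk'_surjective Y)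
    exact CfsgLib.Coprime.le_pCore (hRp.map q)
  have hcl : centralizer (Cfsg.pCore r (H ⧸ Y) : Set (H ⧸ Y)) ≤ Cfsg.pCore r (H ⧸ Y) := by
    intro x hx
    obtain ⟨g, rfl⟩ := QuotientGroup.mk'_surjective Y x
    have hgC : g ∈ C := mem_centralizer_iff.2 fun y hy => by
      have h1 : q y * q g = q g * q y := mem_centralizer_iff.1 hx _ (hqR (mem_map_of_mem q hy))
      have h2 : g * y * g⁻¹ * y⁻¹ ∈ Y := (QuotientGroup.eq_one_iff _).1 (show q _ = 1 by
        simp only [map_mul, map_inv]; rw [← h1]; group)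
      have h3 : g * y * g⁻¹ * y⁻¹ ∈ Rh := mul_mem (hRhn.conj_mem y hy g) (inv_mem hy)
      have h4 : Y ⊓ Rh = ⊥ := inf_eq_bot_of_coprime (by
        obtain ⟨k, hk⟩ := hRp.exists_card_eq
        rw [hk]
        exact Nat.Coprime.pow_right k (CfsgLib.Coprime.pPrimeCore_coprime hrp))
      have h5 : g * y * g⁻¹ * y⁻¹ ∈ Y ⊓ Rh := ⟨h2, h3⟩
      rw [h4, Subgroup.mem_bot, mul_inv_eq_one, mul_inv_eq_iff_eq_mul] at h5
      exact h5.symm
    obtain ⟨a, ha, b, hb, e⟩ : ∃ a ∈ Rh, ∃ b ∈ Y, a * b = g := by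
      have := hCle hgC
      rwa [← SetLike.mem_coe, mul_normal] at this
    rw [← e, map_mul, show q b = 1 from (QuotientGroup.eq_one_iff _).2 hb, mul_one]
    exact hqR (mem_map_of_mem q ha)
  obtain ⟨J⟩ : Nonempty (Sylow r H) := inferInstance
  set Jb : Sylow r (H ⧸ Y) := J.mapSurjective (QuotientGroup.mk'_surjective Y) with hJb
  have hab : AbTwo (H ⧸ Y) := Rank.abTwo_of_surjective q (QuotientGroup.mk'_surjective Y)
    (Rank.abTwo_subgroup (abTwo_of_eight h.hs) H)
  haveI hZn : (Cfsg.centerThompsonOf r (Jb : Subgroup (H ⧸ Y))).Normal :=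
    CfsgLib.Fusion.centerThompsonOf_normal hr hcl (fun U _ hU => by_contra fun hcon => by
      obtain ⟨-, A, B, hn, -, he⟩ := CfsgLib.Qd.sections_of_not_isPStableOn hr U hU hcon
      exact not_involves_slTwo hab hr ⟨A, B, hn, he⟩) Jb
  set Z := Cfsg.centerThompsonOf r (J : Subgroup H) with hZ
  have hZJ : Z ≤ (J : Subgroup H) := inf_le_left.trans (CfsgLib.Fusion.thompsonSubgroupOf_le _)
  have hmapZ : Z.map q = Cfsg.centerThompsonOf r (Jb : Subgroup (H ⧸ Y)) := by
    have hinj : Function.Injective (q.comp (J : Subgroup H).subtype) := by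
      rw [injective_iff_map_eq_one]
      intro x hx
      have hxY : (x : H) ∈ Y := (QuotientGroup.eq_one_iff _).1 hx
      obtain ⟨k, hk⟩ := J.2 x
      refine orderOf_eq_one_iff.1 (Nat.eq_one_of_dvd_coprimes (Nat.Coprime.pow_left k
        (CfsgLib.Coprime.pPrimeCore_coprime (G := H) hrp).symm) (orderOf_dvd_of_pow_eq_one hk) ?_)
      rw [← Subgroup.orderOf_coe]
      exact Subgroup.orderOf_dvd_natCard _ hxY
    have h1 := CfsgLib.Fusion.imgι_centerThompsonOf (p := r) (S := (J : Subgroup H))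
      (ι := q.comp (J : Subgroup H).subtype) hinj
    rw [CfsgLib.Fusion.imgι, ← Subgroup.map_map, MonoidHom.range_comp, range_subtype,
      map_subgroupOf_eq_of_le hZJ] at h1
    rw [hJb, Sylow.coe_mapSurjective]
    exact h1
  set W := (Cfsg.centerThompsonOf r (Jb : Subgroup (H ⧸ Y))).comap q with hW
  haveI hWn : W.Normal := hZn.comap q
  have hWsmall : ∀ s : H, (s : G) ∈ (S : Subgroup G) → s ∈ W → (s : G) ∈ zpowers t := by
    intro s hs hsW
    rw [hW, mem_comap, ← hmapZ] at hsW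
    obtain ⟨z, hz, hzs⟩ := hsW
    have hs2 : s ^ 2 = 1 := Subtype.ext (by simpa [pow_two] using (h.hs S).2 _ hs)
    obtain ⟨k, hk⟩ := J.2 ⟨z, hZJ hz⟩
    have hz' : (q z) ^ r ^ k = 1 := by
      rw [← map_pow, show z ^ r ^ k = 1 from congrArg Subtype.val hk, map_one]
    have hqs : q s = 1 := by
      refine orderOf_eq_one_iff.1 (Nat.eq_one_of_dvd_coprimes (Nat.Coprime.pow_right k
        (Nat.coprime_two_left.2 (hrp.odd_of_ne_two hr))) ?_ (orderOf_dvd_of_pow_eq_one (hzs ▸ hz')))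
      exact orderOf_dvd_of_pow_eq_one (by rw [← map_pow, hs2, map_one])
    refine hsY s hs (mem_centralizer_iff.2 fun x hx => ?_)
    exact (hYR s ((QuotientGroup.eq_one_iff _).1 hqs) x hx).symm
  have hZR : Z ≤ Rh := by
    intro z hz
    obtain ⟨k, hk⟩ := J.2 ⟨z, hZJ hz⟩
    have hk' : z ^ r ^ k = 1 := congrArg Subtype.val hk
    refine hmax z (mem_oddCore_of_small h W hWsmall (by rw [hW, mem_comap, ← hmapZ]; exact mem_map_of_mem q hz) ?_)
      ⟨k, hk'⟩
    exact ((hrp.odd_of_ne_two hr).pow (n := k)).of_dvd_nat (orderOf_dvd_of_pow_eq_one hk')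
  haveI hZnorm : Z.Normal := ⟨fun z hz g => by
    have h1 : g * z * g⁻¹ ∈ W := hWn.conj_mem z (by rw [hW, mem_comap, ← hmapZ]; exact mem_map_of_mem q hz) g
    rw [hW, mem_comap, ← hmapZ] at h1
    obtain ⟨z', hz', e⟩ := h1
    have h2 : z'⁻¹ * (g * z * g⁻¹) ∈ Y ⊓ Rh := Subgroup.mem_inf.2 ⟨(QuotientGroup.eq_one_iff _).1 (show q _ = 1 by
      rw [map_mul, map_inv, e, inv_mul_cancel]), mul_mem (inv_mem (show z' ∈ Rh from hZR hz')) (hRhn.conj_mem z (hZR hz) g)⟩
    rw [inf_eq_bot_of_coprime (H := Y) (K := Rh) (by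
        obtain ⟨k, hk⟩ := hRp.exists_card_eq
        rw [hk]
        exact Nat.Coprime.pow_right k (CfsgLib.Coprime.pPrimeCore_coprime hrp)),
      Subgroup.mem_bot, inv_mul_eq_one] at h2
    exact h2 ▸ hz'⟩
  have hmapG : Z.map H.subtype = Cfsg.centerThompsonOf r ((J : Subgroup H).map H.subtype) :=
    CfsgLib.GW.CaseB.map_centerThompsonOf H _
  refine ⟨J, ?_, ?_, ?_⟩
  · rw [← hmapG]
    exact fun g hg => mem_normalizer_iff.2 fun x => ⟨fun ⟨z, hz, e⟩ => ⟨⟨g, hg⟩ * z * ⟨g, hg⟩⁻¹, hZnorm.conj_mem z hz _, by rw [← e]; rfl⟩,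
      fun ⟨z, hz, e⟩ => ⟨(⟨g, hg⟩ : H)⁻¹ * z * ⟨g, hg⟩, by
        have := hZnorm.conj_mem z hz (⟨g, hg⟩ : H)⁻¹; rwa [inv_inv] at this, by
        show g⁻¹ * (z : G) * g = x
        rw [show (z : G) = g * x * g⁻¹ from e]; group⟩⟩
  · rw [← hmapG]
    exact (map_mono hZR).trans (map_subgroupOf_eq_of_le hRH).le
  · refine CfsgLib.GW.CaseB.centerThompsonOf_ne_bot (J.2.map _) fun e => hne ?_
    obtain ⟨Q, hQ⟩ := hRp.exists_le_sylow
    obtain ⟨g, hg⟩ := MulAction.exists_smul_eq H Q J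
    have h1 : Rh ≤ (J : Subgroup H) := by
      rw [← hg, Sylow.coe_subgroup_smul]
      exact (Subgroup.Normal.conj_smul_eq_self g Rh).ge.trans (map_mono hQ)
    exact le_bot_iff.1 (e ▸ (map_subgroupOf_eq_of_le hRH).ge.trans (map_mono h1))

end CfsgLib.Walter.Core
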